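import Cfsg.Agent.SplitBN.Quot
import Cfsg.Agent.StCh.ChevRad
import Cfsg.Agent.Chev.Card
import Cfsg.Agent.Chev.TwistedBN
import Cfsg.Agent.Chev.TwistedOut

/-!
# The split Tits systems of the Chevalley groups and of their twisted forms
-/

set_option autoImplicit false
set_option linter.style.haveILetI false
set_option linter.unusedSectionVars false

namespace CfsgLib.Chev

open Cfsg.Lie Matrix CfsgLib.BN CfsgLib.StCh CfsgLib.SplitBN
open scoped MatrixGroups commutatorElement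

attribute [local instance] torus_normal

namespace Tab

variable {D : ChevalleyDatum}

namespace Good

variable {T : Tab D} (G : T.Good) {F : Type*} [Field F]
include G

theorem borel_conj_pos {b : GL D.Idx F} (hb : b ∈ D.borelSubgroup F) {u : GL D.Idx F}
    (hu : u ∈ D.posUnipotent F) : b * u * b⁻¹ ∈ D.posUnipotent F := by
  obtain ⟨v, hv, c, rfl⟩ := G.mem_borel.mp hb
  have h : T.hT F c * u * (T.hT F c)⁻¹ ∈ D.posUnipotent F := by
    rw [G.posUnipotent_eq] at hu ⊢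
    exact G.hT_conj_US _ (fun s hs => hs.1) c hu
  have := mul_mem (mul_mem hv h) (inv_mem hv)
  convert this using 1
  group

/-- A positive element kept positive lies in the keep part. -/
theorem mem_keep {n : GL D.Idx F} {L : List (Fin D.rank)} (hact : G.full.RootAct n (G.full.pw L))
    {x : GL D.Idx F} (hx : x ∈ D.posUnipotent F) (hnx : n * x * n⁻¹ ∈ D.posUnipotent F) :
    x ∈ G.US F (keepSet (G.full.pw L)) := by
  rw [G.posUnipotent_eq] at hx
  obtain ⟨a, ha, f, hf, rfl⟩ := G.US_split (G.closed_keep L) (G.closed_flip L) G.closed_pos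
    (pos_eq_keep_union_flip _) hx
  have ha' : n * a * n⁻¹ ∈ D.posUnipotent F := by
    rw [G.posUnipotent_eq]
    exact G.conj_x_act hact (fun s hs => by obtain ⟨h, -, h2⟩ := hs; exact ⟨h, h2⟩) ha
  have hf' : n * f * n⁻¹ ∈ D.posUnipotent F := by
    have := mul_mem (inv_mem ha') hnx
    convert this using 1
    group
  have h1 : f = 1 := conj_eq_one_iff.1 (G.pos_inf_neg hf' (G.conj_flip_mem_neg hact hf))
  rwa [h1, mul_one]

/-- Normality of the part kept positive. -/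
theorem keep_normal {n : GL D.Idx F} {L : List (Fin D.rank)} (hact : G.full.RootAct n (G.full.pw L))
    {K : Finset (G.bnPair F).S} (hK : keepSet (G.full.pw L) = G.outSet F K) {u x : GL D.Idx F}
    (hu : u ∈ D.posUnipotent F) (hx : x ∈ D.posUnipotent F) (hnx : n * x * n⁻¹ ∈ D.posUnipotent F) :
    u * x * u⁻¹ ∈ G.US F (keepSet (G.full.pw L)) ∧ n * (u * x * u⁻¹) * n⁻¹ ∈ D.posUnipotent F := by
  have h1 := G.mem_keep hact hx hnx
  rw [hK] at h1
  have h2 := G.borel_conj_out K (pos_le_borel G hu) h1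
  rw [← hK] at h2
  refine ⟨h2, ?_⟩
  rw [G.posUnipotent_eq]
  exact G.conj_x_act hact (fun s hs => by obtain ⟨h, -, h2⟩ := hs; exact ⟨h, h2⟩) h2

theorem keep_pw (i : Fin D.rank) :
    keepSet (G.full.pw [i]) = G.outSet F {G.sref F i} := by
  have hiff : ∀ s : Fin D.nroots, IsPos D s.val →
      (IsPos D (G.full.pw [i] s).val ↔ G.IsOut F {G.sref F i} s.val) := fun s hs =>
    G.pos_pw_iff (J := {G.sref F i}) (L := [i]) (by simp) (fun j hj => by
      obtain rfl : j = i := (G.sref_bijective (F := F)).1 (Finset.mem_singleton.1 hj)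
      rw [G.pw_singleton, G.refl_simp, G.pos_negF, not_not]
      exact G.pos_simp j) hs
  ext s
  exact ⟨fun ⟨h, h1, h2⟩ => ⟨h1, (hiff ⟨s, h⟩ h1).mp h2⟩,
    fun ⟨h1, h2⟩ => ⟨h1.1, h1, (hiff ⟨s, h1.1⟩ h1).mpr h2⟩⟩

theorem rootAct_ns_inv (i : Fin D.rank) :
    G.full.RootAct (G.full.ns F i)⁻¹ (G.full.pw [i]) := by
  obtain ⟨d, hd⟩ := G.hr_simple_mem (F := F) i (neg_ne_zero.mpr one_ne_zero)
  have h := G.full.ns_sq (F := F) i.isLt
  rw [hd] at h
  have e : (G.full.ns F i)⁻¹ = T.hT F d⁻¹ * G.full.ns F i := by rw [map_inv, ← h]; group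
  rw [e, G.pw_singleton, ← one_mul (G.full.refl i)]
  exact G.rootAct_mul (G.rootAct_hT _) (G.rootAct_ns i)

/-- The Tits system of a Chevalley group is split. -/
theorem split [Fintype F] [Finite (D.group F)] (p : ℕ) [Fact p.Prime] [CharP F p] :
    Split (G.bnPair F) p ((D.posUnipotent F).subgroupOf (D.group F)) := by
  haveI : Fintype (G.bnPair F).S := Fintype.ofFinite _
  obtain ⟨S, hS⟩ := G.exists_sylow (F := F) p
  refine ⟨fun u hu => pos_le_borel G hu, fun b hb u hu => ?_, fun b hb => ?_, hS ▸ S.isPGroup', ⟨S, hS⟩, ?_, ?_⟩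
  · rw [Subgroup.mem_subgroupOf] at hu ⊢
    simpa using G.borel_conj_pos hb hu
  · obtain ⟨u, hu, c, e⟩ := G.mem_borel.mp (show (b : GL D.Idx F) ∈ D.borelSubgroup F from hb)
    exact ⟨⟨u, G.borel_le_group (pos_le_borel G hu)⟩, hu,
      ⟨T.hT F c, G.monomial_le_group (G.hT_mem_monomial c)⟩, ⟨G.borel_hT c, G.hT_mem_monomial c⟩,
      Subtype.ext e⟩
  · obtain ⟨n, -, -, hiff⟩ := G.exists_rep_cell (F := F) (Finset.univ : Finset (G.bnPair F).S)
    refine ⟨n, fun x hx hx' => ?_⟩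
    have h : (x : GL D.Idx F) ∈ G.US F (G.outSet F Finset.univ) :=
      (hiff _ hx).mp (pos_le_borel G (by simpa [Subgroup.mem_subgroupOf] using hx'))
    have : x ∈ G.radG F Finset.univ := h
    rwa [G.radG_univ, Subgroup.mem_bot] at this
  · intro s hs u hu x hx hx'
    obtain ⟨i, hi⟩ := G.mem_simpleSet.mp hs
    have hact : G.full.RootAct ((s : GL D.Idx F))⁻¹ (G.full.pw [i]) := hi ▸ G.rootAct_ns_inv i
    rw [Subgroup.mem_subgroupOf] at hu hx hx' ⊢
    simp only [Subgroup.coe_mul, Subgroup.coe_inv] at hx' ⊢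
    have := (G.keep_normal hact (G.keep_pw i) hu hx (by rwa [inv_inv])).2
    rwa [inv_inv] at this

theorem hasSplit [Fintype F] [Finite (D.group F)] (p : ℕ) [Fact p.Prime] [CharP F p] (hr : 0 < D.rank) :
    HasSplit p (D.group F) :=
  ⟨_, _, G.split p, _, (G.sref F ⟨0, hr⟩).2⟩

/-- In characteristic two the squares of the unipotent radical are commutators. -/
theorem hasSplitSq [Fintype F] [Finite (D.group F)] [CharP F 2] : HasSplitSq (D.group F) := by
  haveI : Fact (Nat.Prime 2) := ⟨Nat.prime_two⟩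
  refine ⟨_, _, G.split 2, (G.split (F := F) 2).sqComm fun s u hu => ⟨1, one_mem _, ?_⟩⟩
  obtain ⟨i, hi⟩ := G.mem_simpleSet.mp s.2
  rw [inv_one, one_mul, (G.split (F := F) 2).mem_Rw_refl]
  refine ⟨pow_mem hu 2, ?_⟩
  rw [Subgroup.mem_subgroupOf] at hu ⊢
  simp only [Subgroup.coe_mul, Subgroup.coe_inv, Subgroup.coe_pow, hi]
  have hu' := hu
  rw [G.posUnipotent_eq] at hu'
  obtain ⟨a, ha, f, hf, e⟩ := G.US_split (G.closed_keep [i]) (G.closed_flip [i]) G.closed_pos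
    (pos_eq_keep_union_flip _) hu'
  have hf2 : f * f = 1 := by
    have hflip : ∀ r ∈ flipSet (G.full.pw [i]), r = D.simple i := by
      rintro r ⟨hr, hpos, hneg⟩
      by_contra hne
      rw [G.pw_singleton] at hneg
      exact hneg (G.refl_pos i hpos fun e => hne (congrArg Fin.val e)).1
    suffices h : ∃ t, f = G.full.x (D.simple i) t by
      obtain ⟨t, rfl⟩ := h
      rw [G.full.x_add, CharTwo.add_self_eq_zero, G.full.x_zero]
    clear e
    induction hf using Subgroup.closure_induction with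
    | mem x hx => obtain ⟨r, hr, t, rfl⟩ := hx; exact ⟨t, by rw [hflip r hr]⟩
    | one => exact ⟨0, (G.full.x_zero _).symm⟩
    | mul x y _ _ hx hy =>
      obtain ⟨t, rfl⟩ := hx
      obtain ⟨t', rfl⟩ := hy
      exact ⟨t + t', G.full.x_add _ _ _⟩
    | inv x _ hx => obtain ⟨t, rfl⟩ := hx; exact ⟨-t, G.full.x_inv _ _⟩
  have hfU : f ∈ D.posUnipotent F := by rw [G.posUnipotent_eq]; exact G.US_mono (fun r hr => hr.2.1) hf
  have ha' : f * a * f⁻¹ ∈ G.US F (keepSet (G.full.pw [i])) := by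
    rw [G.keep_pw (F := F) i] at ha ⊢
    exact G.borel_conj_out _ (pos_le_borel G hfU) ha
  have hu2 : (u : GL D.Idx F) ^ 2 ∈ G.US F (keepSet (G.full.pw [i])) := by
    rw [e, pow_two, show a * f * (a * f) = a * (f * a * f⁻¹) * (f * f) by group, hf2, mul_one]
    exact mul_mem ha ha'
  have hact := G.rootAct_ns_inv (F := F) i
  rw [G.posUnipotent_eq]
  have := G.conj_x_act hact (S' := {r | IsPos D r})
    (fun s hs => by obtain ⟨h, -, h2⟩ := hs; exact ⟨h, h2⟩) hu2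
  rwa [inv_inv] at this

end Good

namespace Good.Twisted

variable {T : Tab D} {G : T.Good} {F : Type*} [Field F] {Φ : G.Graph F} (Z : Twisted Φ)
include Z

theorem keep_w (J : Fin Z.nJ) : ∃ K : Finset (G.bnPair F).S, keepSet (Z.w J) = G.outSet F K := by
  classical
  refine ⟨(Finset.univ.filter fun i => i ∈ Z.orb J).image (G.sref F), ?_⟩
  ext s
  have hmem : ∀ j, G.sref F j ∈ (Finset.univ.filter fun i => i ∈ Z.orb J).image (G.sref F) ↔
      j ∈ Z.orb J := fun j => by simp [(G.sref_bijective (F := F)).1.eq_iff]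
  constructor
  · rintro ⟨h, h1, h2⟩
    refine ⟨h1, ?_⟩
    by_contra hno
    refine ((Z.flip J ⟨s, h⟩ h1).mpr fun i hi => ?_) h2
    by_contra hne
    exact hno ⟨i, fun hm => hi ((hmem i).1 hm), hne⟩
  · rintro ⟨h1, j, hj, hne⟩
    refine ⟨h1.1, h1, ?_⟩
    by_contra h2
    exact hne ((Z.flip J ⟨s, h1.1⟩ h1).mp h2 j fun hm => hj ((hmem j).2 hm))

theorem rootAct_n_inv (J : Fin Z.nJ) : G.full.RootAct (Z.n J)⁻¹ (G.full.pw (Z.word J)) := by
  have := G.rootAct_inv (Z.n_mono J) (Z.n_act J)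
  rwa [show (G.full.pw (Z.word J))⁻¹ = G.full.pw (Z.word J) from
    inv_eq_of_mul_eq_one_right (Z.invol J)] at this

/-- The Tits system of a twisted group is split. -/
theorem split [Finite F] (p : ℕ) [Fact p.Prime] (hX : Z.XNontrivial)
    (hS : ∃ P : Sylow p Z.G1, (P : Subgroup Z.G1) = Z.U1.subgroupOf Z.G1) :
    Split (Z.bnPair hX) p (Z.U1.subgroupOf Z.G1) := by
  obtain ⟨S, hSU⟩ := hS
  refine ⟨fun u hu => Z.mem_B1'.mpr (Z.U1_le_borel hu), fun b hb u hu => ?_, fun b hb => ?_,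
    hSU ▸ S.isPGroup', ⟨S, hSU⟩, ?_, ?_⟩
  · rw [Subgroup.mem_subgroupOf] at hu ⊢
    simp only [Subgroup.coe_mul, Subgroup.coe_inv]
    exact ⟨Z.fix_conj (Z.le_fix b.2) hu.1, G.borel_conj_pos (Z.mem_B1'.mp hb) hu.2⟩
  · obtain ⟨u, hu, h, hh, e⟩ := Z.mem_B1 b.2 (Z.mem_B1'.mp hb)
    exact ⟨⟨u, Z.U1_le hu⟩, hu, ⟨h, Z.H0_le hh⟩,
      ⟨Z.mem_B1'.mpr (Z.H0_le_borel hh), Z.mem_N1'.mpr (Z.H0_le_mono hh)⟩, Subtype.ext e⟩
  · obtain ⟨L, -, hneg⟩ := Z.exists_longest_red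
    refine ⟨(⟨Z.nT L, Z.nT_mem L⟩ : Z.G1)⁻¹, fun x hx hx' => ?_⟩
    rw [Subgroup.mem_subgroupOf] at hx hx'
    simp only [Subgroup.coe_mul, Subgroup.coe_inv, inv_inv] at hx'
    have h1 : (x : GL D.Idx F) ∈ G.US F (flipSet (Z.pwT L)) := by
      rw [← Z.UT_longest hneg] at hx
      exact hx.2
    exact Subtype.ext (conj_eq_one_iff.1 (G.pos_inf_neg hx'.2 (G.conj_flip_mem_neg (Z.nT_act L) h1)))
  · intro s hs u hu x hx hx'
    obtain ⟨J, hJ⟩ := hs
    obtain ⟨K, hK⟩ := Z.keep_w J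
    rw [Subgroup.mem_subgroupOf] at hu hx hx' ⊢
    simp only [Subgroup.coe_mul, Subgroup.coe_inv, hJ] at hx' ⊢
    have := (G.keep_normal (L := Z.word J) (Z.rootAct_n_inv J) hK hu.2 hx.2 (by rw [inv_inv]; exact hx'.2)).2
    rw [inv_inv] at this
    refine Subgroup.mem_inf.2 ⟨?_, this⟩
    have hn : (Z.n J)⁻¹ ∈ Φ.Fix := inv_mem (Z.n_fix J)
    exact mul_mem (mul_mem hn (mul_mem (mul_mem hu.1 hx.1) (inv_mem hu.1))) (Z.n_fix J)

theorem hasSplit [Finite F] (p : ℕ) [Fact p.Prime] (hX : Z.XNontrivial) (hnJ : 0 < Z.nJ)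
    (hS : ∃ P : Sylow p Z.G1, (P : Subgroup Z.G1) = Z.U1.subgroupOf Z.G1) : HasSplit p Z.G1 :=
  ⟨_, _, Z.split p hX hS, ⟨Z.n ⟨0, hnJ⟩, Z.n_mem _⟩, ⟨0, hnJ⟩, rfl⟩

/-- The squares are commutators if those of the fixed root groups are. -/
theorem hasSplitSq [Finite F] (hX : Z.XNontrivial)
    (hS : ∃ P : Sylow 2 Z.G1, (P : Subgroup Z.G1) = Z.U1.subgroupOf Z.G1)
    (hsq : ∀ J, ∀ b ∈ Z.XJ J, b * b ∈ ⁅Z.U1, Z.U1⁆) : HasSplitSq Z.G1 := by
  haveI : Fact (Nat.Prime 2) := ⟨Nat.prime_two⟩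
  have D2 := Z.split 2 hX hS
  refine ⟨_, _, D2, D2.sqComm fun s u hu => ?_⟩
  obtain ⟨J, hJ⟩ := s.2
  obtain ⟨K, hK⟩ := Z.keep_w J
  rw [Subgroup.mem_subgroupOf] at hu
  have hu' := hu.2
  rw [G.posUnipotent_eq] at hu'
  obtain ⟨a, ha, b, hb, e⟩ := Z.split_fix J G.closed_pos hu.1 hu' fun r ⟨_, h, _⟩ => h
  have hb1 := Z.XJ_le_U1 J hb
  have ha' : a ∈ G.US F (keepSet (Z.w J)) := G.US_mono (fun r hr => hr.2) ha.2
  have hkeep : ∀ {g y : GL D.Idx F}, g ∈ D.posUnipotent F → y ∈ G.US F (keepSet (Z.w J)) →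
      g * y * g⁻¹ ∈ G.US F (keepSet (Z.w J)) := fun {g y} hg hy => by
    rw [hK] at hy ⊢
    exact G.borel_conj_out K (pos_le_borel G hg) hy
  have hc : b * b ∈ ⁅Z.U1, Z.U1⁆ := hsq J b hb
  have hcU : b * b ∈ Z.U1 := mul_mem hb1 hb1
  refine ⟨⟨b * b, Z.U1_le hcU⟩, ?_, ?_⟩
  · rw [← Subgroup.mem_map_iff_mem (f := Z.G1.subtype) (Subgroup.subtype_injective _), Subgroup.map_commutator,
      Subgroup.map_subgroupOf_eq_of_le Z.U1_le]
    exact hc
  · have hk : (b * b)⁻¹ * (u : GL D.Idx F) ^ 2 ∈ G.US F (keepSet (Z.w J)) := by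
      rw [e, pow_two, show (b * b)⁻¹ * (a * b * (a * b)) =
        (b * b)⁻¹ * (a * (b * a * b⁻¹)) * (b * b)⁻¹⁻¹ by group]
      exact hkeep (inv_mem hcU.2) (mul_mem ha' (hkeep hb1.2 ha'))
    have hfix : (b * b)⁻¹ * (u : GL D.Idx F) ^ 2 ∈ Z.U1 := mul_mem (inv_mem hcU) (pow_mem hu 2)
    refine D2.mem_Rw_refl.2 ⟨Subgroup.mem_subgroupOf.2 hfix, ?_⟩
    rw [Subgroup.mem_subgroupOf]
    simp only [Subgroup.coe_mul, Subgroup.coe_inv, Subgroup.coe_pow, hJ]
    have h2 := G.conj_x_act (Z.rootAct_n_inv J) (S' := {r | IsPos D r})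
      (fun r hr => by obtain ⟨h, -, h2⟩ := hr; exact ⟨h, h2⟩) hk
    rw [inv_inv, ← G.posUnipotent_eq] at h2
    exact Subgroup.mem_inf.2 ⟨mul_mem (mul_mem (inv_mem (Z.n_fix J)) hfix.1) (Z.n_fix J), h2⟩

end Good.Twisted

end Tab

end CfsgLib.Chev
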