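import Cfsg.Agent.SplitBN.Radical
import Cfsg.Agent.BlocksB.GreenIntersection
import Cfsg.Agent.BrauerPairs.PrincipalBridge
import Cfsg.Agent.Blocks.MinMax

/-!
# The blocks of a group with a split Tits system in the defining characteristic

If the Brauer images of a block idempotent `e` at all maximal radicals vanish, then the operator of
the longest cell is injective on the functions on `U \ G / U` fixed by `e`, and this forces the
Brauer images at all non-trivial `p`-subgroups to vanish.  Otherwise `e` is the principal one, as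
the centralisers of the maximal radicals are `p`-groups.
-/

set_option autoImplicit false
set_option linter.style.haveILetI false
set_option linter.unusedSectionVars false

namespace CfsgLib.SplitBN

open CfsgLib.BN CfsgLib.StCh CfsgLib.BrauerPairs

attribute [local instance] torus_normal

universe u

variable {G : Type u} [Group G] [Finite G] {k : Type*} [Field k]

/-- Left translation. -/
def lt (g : G) : (G → k) →ₗ[k] (G → k) where
  toFun f x := f (g⁻¹ * x)
  map_add' _ _ := rfl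
  map_smul' _ _ := rfl

@[simp] theorem lt_apply (g : G) (f : G → k) (x : G) : lt g f x = f (g⁻¹ * x) := rfl

theorem lt_mul (g h : G) (f : G → k) : lt (g * h) f = lt g (lt h f) := by
  funext x; simp [mul_assoc]

theorem lt_one (f : G → k) : lt (1 : G) f = f := by funext x; simp

/-- Invariant under left translation by a subgroup. -/
def LInv (U : Subgroup G) (f : G → k) : Prop := ∀ u ∈ U, lt u f = f

theorem lt_out {U : Subgroup G} {f : G → k} (hf : LInv U f) (g : G) :
    lt (QuotientGroup.mk g : G ⧸ U).out f = lt g f := by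
  obtain ⟨u, hu⟩ := QuotientGroup.mk_out_eq_mul U g
  rw [hu, lt_mul, hf u u.2]

/-- The `U`-orbit of a coset. -/
noncomputable def orb (U : Subgroup G) (g : G) : Finset (G ⧸ U) :=
  (Set.toFinite (MulAction.orbit U (QuotientGroup.mk g : G ⧸ U))).toFinset

theorem mem_orb {U : Subgroup G} {g : G} {z : G ⧸ U} :
    z ∈ orb U g ↔ ∃ u ∈ U, QuotientGroup.mk (u * g) = z := by
  rw [orb, Set.Finite.mem_toFinset, MulAction.mem_orbit_iff]
  exact ⟨fun ⟨u, hu⟩ => ⟨u, u.2, hu⟩, fun ⟨u, hu, e⟩ => ⟨⟨u, hu⟩, e⟩⟩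

theorem mem_orb_mk {U : Subgroup G} {g h : G} :
    (QuotientGroup.mk h : G ⧸ U) ∈ orb U g ↔ ∃ u ∈ U, ∃ v ∈ U, h = u * g * v := by
  rw [mem_orb]
  constructor
  · rintro ⟨u, hu, e⟩
    exact ⟨u, hu, (u * g)⁻¹ * h, QuotientGroup.eq.1 e, by group⟩
  · rintro ⟨u, hu, v, hv, rfl⟩
    exact ⟨u, hu, QuotientGroup.eq.2 (by simpa [mul_assoc] using hv)⟩

theorem out_mem_orb {U : Subgroup G} {g : G} {z : G ⧸ U} (hz : z ∈ orb U g) :
    ∃ u ∈ U, ∃ v ∈ U, z.out = u * g * v :=
  mem_orb_mk.1 (by rwa [QuotientGroup.out_eq'])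

theorem self_mem_orb {U : Subgroup G} (g : G) : (QuotientGroup.mk g : G ⧸ U) ∈ orb U g :=
  mem_orb.2 ⟨1, one_mem _, by rw [one_mul]⟩

/-- The operator of a `U`-orbit. -/
noncomputable def op (U : Subgroup G) (g : G) : (G → k) →ₗ[k] (G → k) :=
  ∑ z ∈ orb U g, lt z.out

theorem op_apply (U : Subgroup G) (g : G) (f : G → k) :
    op U g f = ∑ z ∈ orb U g, lt z.out f := by
  rw [op, LinearMap.sum_apply]

theorem lInv_op {U : Subgroup G} {g : G} {f : G → k} (hf : LInv U f) : LInv U (op U g f) := by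
  intro u hu
  rw [op_apply, map_sum]
  refine Finset.sum_nbij' (fun z => (QuotientGroup.mk (u * z.out) : G ⧸ U))
    (fun z => (QuotientGroup.mk (u⁻¹ * z.out) : G ⧸ U)) (fun z hz => ?_) (fun z hz => ?_)
    (fun z _ => ?_) (fun z _ => ?_) (fun z _ => ?_)
  · obtain ⟨a, ha, v, hv, e⟩ := out_mem_orb hz
    exact mem_orb_mk.2 ⟨u * a, mul_mem hu ha, v, hv, by rw [e]; group⟩
  · obtain ⟨a, ha, v, hv, e⟩ := out_mem_orb hz
    exact mem_orb_mk.2 ⟨u⁻¹ * a, mul_mem (inv_mem hu) ha, v, hv, by rw [e]; group⟩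
  · obtain ⟨v, hv⟩ := QuotientGroup.mk_out_eq_mul U (u * z.out)
    conv_rhs => rw [← QuotientGroup.out_eq' z]
    rw [QuotientGroup.eq, hv]
    simp [mul_assoc]
  · obtain ⟨v, hv⟩ := QuotientGroup.mk_out_eq_mul U (u⁻¹ * z.out)
    conv_rhs => rw [← QuotientGroup.out_eq' z]
    rw [QuotientGroup.eq, hv]
    simp [mul_assoc]
  · rw [lt_out hf, lt_mul]

/-- A combination of translations with invariant coefficients is one of orbit operators. -/
theorem sum_mem_of_orbits {U : Subgroup G} [Fintype (G ⧸ U)] {f : G → k} (a : G ⧸ U → k)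
    (ha : ∀ u ∈ U, ∀ g : G, a (QuotientGroup.mk (u * g)) = a (QuotientGroup.mk g))
    (S : Submodule k (G → k)) (hS : ∀ g : G, a (QuotientGroup.mk g) ≠ 0 → op U g f ∈ S) :
    ∑ z, a z • lt z.out f ∈ S := by
  classical
  rw [← Finset.sum_fiberwise_of_maps_to (g := fun z : G ⧸ U => orb U z.out)
    (t := Finset.univ.image fun z : G ⧸ U => orb U z.out)
    (fun z _ => Finset.mem_image_of_mem _ (Finset.mem_univ z))]
  refine Submodule.sum_mem _ fun O hO => ?_
  obtain ⟨z₀, -, rfl⟩ := Finset.mem_image.1 hO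
  have hfib : Finset.univ.filter (fun z : G ⧸ U => orb U z.out = orb U z₀.out) = orb U z₀.out := by
    ext z
    simp only [Finset.mem_filter, Finset.mem_univ, true_and]
    constructor
    · intro e
      rw [← e]
      have := self_mem_orb (U := U) z.out
      rwa [QuotientGroup.out_eq'] at this
    · intro hz
      obtain ⟨u, hu, v, hv, e⟩ := out_mem_orb hz
      ext y
      rw [← QuotientGroup.out_eq' y, mem_orb_mk, mem_orb_mk]
      constructor
      · rintro ⟨a, ha, b, hb, h⟩
        exact ⟨a * u, mul_mem ha hu, v * b, mul_mem hv hb, by rw [h, e]; group⟩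
      · rintro ⟨a, ha, b, hb, h⟩
        exact ⟨a * u⁻¹, mul_mem ha (inv_mem hu), v⁻¹ * b, mul_mem (inv_mem hv) hb,
          by rw [h, e]; group⟩
  rw [hfib]
  have hconst : ∀ z ∈ orb U z₀.out, a z • lt z.out f = a z₀ • lt z.out f := by
    intro z hz
    obtain ⟨u, hu, e⟩ := mem_orb.1 hz
    rw [← e, ha u hu, QuotientGroup.out_eq']
  rw [Finset.sum_congr rfl hconst, ← Finset.smul_sum, ← op_apply]
  by_cases h : a z₀ = 0
  · rw [h, zero_smul]; exact S.zero_mem
  · exact S.smul_mem _ (hS _ (by rwa [QuotientGroup.out_eq']))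

/-- Convolution with an element of the group algebra. -/
noncomputable def act [Fintype G] (e : MonoidAlgebra k G) : (G → k) →ₗ[k] (G → k) :=
  ∑ y : G, e.coeff y • lt y

theorem act_apply [Fintype G] (e : MonoidAlgebra k G) (f : G → k) :
    act e f = ∑ y : G, e.coeff y • lt y f := by
  simp [act, LinearMap.sum_apply]

theorem act_lt [Fintype G] {e : MonoidAlgebra k G} (he : FixBy ⊤ e) (g : G) (f : G → k) :
    act e (lt g f) = lt g (act e f) := by
  rw [act_apply, act_apply, map_sum]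
  refine Fintype.sum_equiv (MulAut.conj g⁻¹).toEquiv _ _ fun y => ?_
  simp only [MulEquiv.toEquiv_eq_coe, EquivLike.coe_coe, MulAut.conj_apply, inv_inv, map_smul]
  rw [← lt_mul, ← lt_mul, he.coeff_eq (Subgroup.mem_top g)]
  congr 2
  group

/-- The sum of the coefficients over a coset. -/
noncomputable def cosetSum [Fintype G] (U : Subgroup G) (e : MonoidAlgebra k G) (x : G) : k :=
  letI := Fintype.ofFinite U
  ∑ u : U, e.coeff (x * u)

theorem cosetSum_mul_right [Fintype G] {U : Subgroup G} (e : MonoidAlgebra k G) (x : G) {v : G}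
    (hv : v ∈ U) : cosetSum U e (x * v) = cosetSum U e x := by
  letI := Fintype.ofFinite U
  rw [cosetSum, cosetSum]
  refine Fintype.sum_equiv (Equiv.mulLeft ⟨v, hv⟩) _ _ fun u => ?_
  simp [mul_assoc]

theorem cosetSum_mul_left [Fintype G] {U : Subgroup G} {e : MonoidAlgebra k G} (he : FixBy ⊤ e)
    (x : G) {v : G} (hv : v ∈ U) : cosetSum U e (v * x) = cosetSum U e x := by
  letI := Fintype.ofFinite U
  rw [cosetSum, cosetSum]
  refine Fintype.sum_equiv (Equiv.mulRight ⟨v, hv⟩) _ _ fun u => ?_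
  rw [← he.coeff_eq (Subgroup.mem_top v) (v * x * u)]
  simp [mul_assoc]

theorem act_eq_sum_cosets [Fintype G] {U : Subgroup G} [Fintype (G ⧸ U)] (e : MonoidAlgebra k G)
    {f : G → k} (hf : LInv U f) :
    act e f = ∑ z : G ⧸ U, cosetSum U e z.out • lt z.out f := by
  classical
  letI := Fintype.ofFinite U
  have hmk : ∀ (z : G ⧸ U) (u : U), (QuotientGroup.mk (z.out * (u : G)) : G ⧸ U) = z := by
    intro z u
    conv_rhs => rw [← QuotientGroup.out_eq' z]
    rw [QuotientGroup.eq]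
    simp
  have hbij : Function.Bijective fun zu : (G ⧸ U) × U => zu.1.out * (zu.2 : G) := by
    refine ⟨fun ⟨z, u⟩ ⟨z', u'⟩ h => ?_, fun y => ?_⟩
    · have hz : z = z' := by
        rw [← hmk z u, ← hmk z' u']
        exact congrArg _ h
      subst hz
      exact Prod.ext rfl (Subtype.ext (mul_left_cancel h))
    · refine ⟨(QuotientGroup.mk y, ⟨(QuotientGroup.mk y : G ⧸ U).out⁻¹ * y, ?_⟩), by simp⟩
      obtain ⟨v, hv⟩ := QuotientGroup.mk_out_eq_mul U y
      rw [hv]
      simp
  rw [act_apply, ← Fintype.sum_bijective _ hbij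
    (fun zu => e.coeff (zu.1.out * (zu.2 : G)) • lt (zu.1.out * (zu.2 : G)) f)
    (fun y => e.coeff y • lt y f) (fun _ => rfl), Fintype.sum_prod_type]
  refine Finset.sum_congr rfl fun z _ => ?_
  rw [cosetSum, Finset.sum_smul]
  refine Finset.sum_congr rfl fun u _ => ?_
  rw [lt_mul, hf u u.2]

namespace Split

variable {P : Cfsg.BNPair G} {p : ℕ} {U : Subgroup G} (D : Split P p U)
include D

theorem mem_of_conj {u g : G} (hu : u ∈ U) (h : g⁻¹ * u * g ∈ P.B) : g⁻¹ * u * g ∈ U := by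
  obtain ⟨e, he⟩ := D.isP ⟨u, hu⟩
  refine D.mem_of_pow (k := e) h ?_
  have := conj_pow (a := g⁻¹) (b := u) (i := p ^ e)
  rw [inv_inv] at this
  rw [this, show u ^ p ^ e = 1 from congrArg Subtype.val he, mul_one, inv_mul_cancel]

theorem orb_mem_cw {n : P.N} {z : G ⧸ U} (hz : z ∈ orb U n.1) :
    z.out ∈ cw P (QuotientGroup.mk n) := by
  obtain ⟨u, hu, v, hv, e⟩ := out_mem_orb hz
  rw [e]
  exact mem_cw_right P (D.le hv) (mem_cw_left P (D.le hu) (self_mem_cosetOf P _))

/-- The orbit operators compose along additive lengths. -/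
theorem op_op {s : P.S} {n : P.N}
    (hl : len P (QuotientGroup.mk n) < len P (BN.refl P s * QuotientGroup.mk n)) {f : G → k}
    (hf : LInv U f) : op U s.1 (op U n.1 f) = op U (s.1 * n.1) f := by
  classical
  simp only [op_apply, map_sum, ← lt_mul]
  rw [Finset.sum_comm, ← Finset.sum_product']
  refine Finset.sum_bij (fun cd _ => (QuotientGroup.mk (cd.1.out * cd.2.out) : G ⧸ U)) ?_ ?_ ?_ ?_
  · rintro ⟨c, d⟩ hcd
    obtain ⟨hc, hd⟩ := Finset.mem_product.1 hcd
    obtain ⟨a, ha, b, hb, e⟩ := out_mem_orb hc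
    obtain ⟨a', ha', b', hb', e'⟩ := out_mem_orb hd
    have hcw : s.1 * (b * a') * n.1 ∈ cw P (BN.refl P s * QuotientGroup.mk n) :=
      mul_of_len_ge P s _ _ le_rfl hl.le _ (mem_cw_right P (D.le (mul_mem hb ha')) (s_mem_cw P s)) _
        (self_mem_cosetOf P _)
    rw [BN.refl, ← QuotientGroup.mk_mul] at hcw
    obtain ⟨x, hx, β, hβ, hxe⟩ := (D.mem_cw_iff _).1 hcw
    simp only [Subgroup.coe_mul] at hxe
    refine mem_orb_mk.2 ⟨a * x, mul_mem ha hx, β * b', mul_mem ?_ hb', ?_⟩
    · -- the Borel part is unipotent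
      obtain ⟨k₀, hk₀⟩ := D.isP ⟨b * a', mul_mem hb ha'⟩
      have hβeq : β = (s.1 * n.1)⁻¹ * x⁻¹ * (s.1 * n.1) * (n.1⁻¹ * (b * a') * n.1) := by
        calc β = (x * (s.1 * n.1))⁻¹ * (x * (s.1 * n.1) * β) := by group
          _ = (x * (s.1 * n.1))⁻¹ * (s.1 * (b * a') * n.1) := by rw [← hxe]
          _ = _ := by group
      obtain ⟨u₁, hu₁, r, hr, hbr⟩ := D.exists_X_mul s (mul_mem hb ha')
      have hn' : n.1⁻¹ * u₁ * n.1 ∈ U := ((D.mem_Rw rfl).1 (D.X_le_Rw hl hu₁)).2
      have hrs := (D.mem_Rw_refl.1 hr).2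
      have hrs' : s.1 * r * s.1⁻¹ ∈ U := D.conj_sq.1 hrs
      have hB : β = (s.1 * n.1)⁻¹ * (x⁻¹ * (s.1 * (b * a') * s.1⁻¹)) * (s.1 * n.1) := by
        rw [hβeq]; group
      have hmem : x⁻¹ * (s.1 * u₁ * s.1⁻¹) * (s.1 * r * s.1⁻¹) = x⁻¹ * (s.1 * (b * a') * s.1⁻¹) := by
        rw [hbr]; group
      have hb2 : β = (n.1⁻¹ * u₁ * n.1) * ((s.1 * n.1)⁻¹ *
          ((s.1 * u₁⁻¹ * s.1⁻¹) * x⁻¹ * (s.1 * u₁ * s.1⁻¹) * (s.1 * r * s.1⁻¹)) * (s.1 * n.1)) := by
        rw [hB, ← hmem]; group
      have hBmem : (s.1 * n.1)⁻¹ *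
          ((s.1 * u₁⁻¹ * s.1⁻¹) * x⁻¹ * (s.1 * u₁ * s.1⁻¹) * (s.1 * r * s.1⁻¹)) * (s.1 * n.1) ∈
          P.B := by
        have := mul_mem (inv_mem (D.le hn')) hβ
        rw [hb2, inv_mul_cancel_left] at this
        exact this
      rw [hb2]
      refine mul_mem hn' ?_
      have hconj : (s.1 * n.1)⁻¹ * ((s.1 * u₁⁻¹ * s.1⁻¹) * x⁻¹ * (s.1 * u₁ * s.1⁻¹) *
          (s.1 * r * s.1⁻¹)) * (s.1 * n.1) =
          (u₁ * n.1)⁻¹ * (s.1⁻¹ * x⁻¹ * s.1 * (u₁ * r * u₁⁻¹)) * (u₁ * n.1) := by group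
      have hconj' : (s.1 * n.1)⁻¹ * ((s.1 * u₁⁻¹ * s.1⁻¹) * x⁻¹ * (s.1 * u₁ * s.1⁻¹) *
          (s.1 * r * s.1⁻¹)) * (s.1 * n.1) =
          (s.1 * u₁ * n.1)⁻¹ * (x⁻¹ * (s.1 * (u₁ * r * u₁⁻¹) * s.1⁻¹)) * (s.1 * u₁ * n.1) := by
        group
      rw [hconj'] at hBmem ⊢
      exact D.mem_of_conj (mul_mem (inv_mem hx)
        (D.conj_sq.1 (D.rad s.1 s.2 u₁ (D.X_le s hu₁) r (D.Rw_le _ hr) hrs))) hBmem
    · calc (c, d).1.out * (c, d).2.out = a * (s.1 * (b * a') * n.1) * b' := by
            simp only [e, e']; group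
        _ = _ := by rw [hxe]; group
  · rintro ⟨c, d⟩ hcd ⟨c', d'⟩ hcd' h
    obtain ⟨hc, hd⟩ := Finset.mem_product.1 hcd
    obtain ⟨hc', hd'⟩ := Finset.mem_product.1 hcd'
    have h' := QuotientGroup.eq.1 h
    have hsc : ∀ {z}, z ∈ orb U s.1 → z.out ∈ cw P (BN.refl P s) := fun {z} hz =>
      D.orb_mem_cw (n := ⟨s.1, P.subset s.2⟩) hz
    have h1 := inter_unique hl (hsc hc) (hsc hc') (D.orb_mem_cw hd) (D.orb_mem_cw hd') (D.le h')
    have hcc : c = c' := by
      obtain ⟨a, ha, b, hb, e⟩ := out_mem_orb hc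
      obtain ⟨a', ha', b', hb', e'⟩ := out_mem_orb hc'
      have hB : s.1⁻¹ * (a⁻¹ * a') * s.1 ∈ P.B := by
        have := mul_mem (mul_mem (D.le hb) h1) (inv_mem (D.le hb'))
        rw [e, e'] at this
        convert this using 1
        group
      have := D.mem_of_conj (mul_mem (inv_mem ha) ha') hB
      rw [← QuotientGroup.out_eq' c, ← QuotientGroup.out_eq' c', QuotientGroup.eq, e, e']
      have h3 := mul_mem (mul_mem (inv_mem hb) this) hb'
      convert h3 using 1
      group
    subst hcc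
    refine Prod.ext rfl ?_
    show d = d'
    rw [← QuotientGroup.out_eq' d, ← QuotientGroup.out_eq' d', QuotientGroup.eq]
    convert h' using 1
    simp only
    group
  · intro z hz
    obtain ⟨u, hu, v, hv, e⟩ := out_mem_orb hz
    obtain ⟨β, hβ⟩ := QuotientGroup.mk_out_eq_mul U (u * s.1)
    refine ⟨(QuotientGroup.mk (u * s.1), QuotientGroup.mk ((β : G)⁻¹ * n.1)),
      Finset.mem_product.2 ⟨mem_orb_mk.2 ⟨u, hu, 1, one_mem _, by group⟩,
        mem_orb_mk.2 ⟨(β : G)⁻¹, inv_mem β.2, 1, one_mem _, by group⟩⟩, ?_⟩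
    obtain ⟨γ, hγ⟩ := QuotientGroup.mk_out_eq_mul U ((β : G)⁻¹ * n.1)
    conv_rhs => rw [← QuotientGroup.out_eq' z]
    rw [QuotientGroup.eq, hβ, hγ, e]
    have h3 := mul_mem (inv_mem γ.2) hv
    convert h3 using 1
    group
  · intro cd _
    rw [lt_out hf]

theorem op_eq_lt_op {t : G} (ht : t ∈ P.B) (g : G) {f : G → k} (hf : LInv U f) :
    op U (t * g) f = lt t (op U g f) := by
  rw [op_apply, op_apply, map_sum]
  refine Finset.sum_nbij' (fun z => (QuotientGroup.mk (t⁻¹ * z.out) : G ⧸ U))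
    (fun z => (QuotientGroup.mk (t * z.out) : G ⧸ U)) (fun z hz => ?_) (fun z hz => ?_)
    (fun z _ => ?_) (fun z _ => ?_) (fun z _ => ?_)
  · obtain ⟨a, ha, v, hv, e⟩ := out_mem_orb hz
    exact mem_orb_mk.2 ⟨t⁻¹ * a * t, D.normal' ht ha, v, hv, by rw [e]; group⟩
  · obtain ⟨a, ha, v, hv, e⟩ := out_mem_orb hz
    exact mem_orb_mk.2 ⟨t * a * t⁻¹, D.normal t ht a ha, v, hv, by rw [e]; group⟩
  · obtain ⟨v, hv⟩ := QuotientGroup.mk_out_eq_mul U (t⁻¹ * z.out)
    conv_rhs => rw [← QuotientGroup.out_eq' z]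
    rw [QuotientGroup.eq, hv]
    simp [mul_assoc]
  · obtain ⟨v, hv⟩ := QuotientGroup.mk_out_eq_mul U (t * z.out)
    conv_rhs => rw [← QuotientGroup.out_eq' z]
    rw [QuotientGroup.eq, hv]
    simp [mul_assoc]
  · rw [lt_out hf, ← lt_mul, mul_inv_cancel_left]

theorem op_lt {t : G} (ht : t ∈ P.B) (g : G) {f : G → k} (hf : LInv U f) :
    op U g (lt t f) = op U (g * t) f := by
  simp only [op_apply, ← lt_mul]
  refine Finset.sum_nbij' (fun z => (QuotientGroup.mk (z.out * t) : G ⧸ U))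
    (fun z => (QuotientGroup.mk (z.out * t⁻¹) : G ⧸ U)) (fun z hz => ?_) (fun z hz => ?_)
    (fun z _ => ?_) (fun z _ => ?_) (fun z _ => ?_)
  · obtain ⟨a, ha, v, hv, e⟩ := out_mem_orb hz
    exact mem_orb_mk.2 ⟨a, ha, t⁻¹ * v * t, D.normal' ht hv, by rw [e]; group⟩
  · obtain ⟨a, ha, v, hv, e⟩ := out_mem_orb hz
    exact mem_orb_mk.2 ⟨a, ha, t * v * t⁻¹, D.normal t ht v hv, by rw [e]; group⟩
  · obtain ⟨v, hv⟩ := QuotientGroup.mk_out_eq_mul U (z.out * t)
    conv_rhs => rw [← QuotientGroup.out_eq' z]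
    rw [QuotientGroup.eq, hv]
    have := D.normal t ht _ (inv_mem v.2)
    convert this using 1
    group
  · obtain ⟨v, hv⟩ := QuotientGroup.mk_out_eq_mul U (z.out * t⁻¹)
    conv_rhs => rw [← QuotientGroup.out_eq' z]
    rw [QuotientGroup.eq, hv]
    have := D.normal' ht (inv_mem v.2)
    convert this using 1
    group
  · rw [lt_out hf]

variable [CharP k p]

/-- The square of a simple orbit operator. -/
theorem op_sq_mem [Fact p.Prime] (s : P.S) {f : G → k} (hf : LInv U f) :
    op U s.1 (op U s.1 f) ∈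
      Submodule.span k {g | ∃ t ∈ P.B ⊓ P.N, g = lt t (op U s.1 f)} := by
  classical
  letI : Fintype (G ⧸ U) := Fintype.ofFinite _
  set O := orb U s.1
  let a : G ⧸ U → k := fun z =>
    ((O ×ˢ O).filter fun cd => (QuotientGroup.mk (cd.1.out * cd.2.out) : G ⧸ U) = z).card
  have hexp : op U s.1 (op U s.1 f) = ∑ z : G ⧸ U, a z • lt z.out f := by
    simp only [op_apply, map_sum, ← lt_mul]
    rw [Finset.sum_comm, ← Finset.sum_product', ← Finset.sum_fiberwise (O ×ˢ O)
      (fun cd => (QuotientGroup.mk (cd.1.out * cd.2.out) : G ⧸ U))]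
    refine Finset.sum_congr rfl fun z _ => ?_
    rw [Finset.sum_congr rfl fun cd hcd => show lt (cd.1.out * cd.2.out) f = lt z.out f by
      rw [← lt_out hf (cd.1.out * cd.2.out), (Finset.mem_filter.1 hcd).2]]
    rw [Finset.sum_const, ← Nat.cast_smul_eq_nsmul k]
  rw [hexp]
  -- the number of factorisations as a count over the first factor
  have ha' : ∀ g : G, a (QuotientGroup.mk g) =
      ((O.filter fun c => (QuotientGroup.mk (c.out⁻¹ * g) : G ⧸ U) ∈ O).card : k) := by
    intro g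
    refine congrArg Nat.cast (Finset.card_bij (fun cd _ => cd.1) ?_ ?_ ?_)
    · rintro ⟨c, d⟩ h
      obtain ⟨h, e⟩ := Finset.mem_filter.1 h
      obtain ⟨hc, hd⟩ := Finset.mem_product.1 h
      refine Finset.mem_filter.2 ⟨hc, ?_⟩
      rw [show (QuotientGroup.mk ((c, d).1.out⁻¹ * g) : G ⧸ U) = d from ?_]
      · exact hd
      · conv_rhs => rw [← QuotientGroup.out_eq' d]
        rw [QuotientGroup.eq]
        have := inv_mem (QuotientGroup.eq.1 e)
        convert this using 1
        simp only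
        group
    · rintro ⟨c, d⟩ h ⟨c', d'⟩ h' (rfl : c = c')
      have e := (Finset.mem_filter.1 h).2.trans (Finset.mem_filter.1 h').2.symm
      refine Prod.ext rfl ?_
      show d = d'
      rw [← QuotientGroup.out_eq' d, ← QuotientGroup.out_eq' d', QuotientGroup.eq]
      have := QuotientGroup.eq.1 e
      convert this using 1
      simp only
      group
    · intro c hc
      obtain ⟨hc, hd⟩ := Finset.mem_filter.1 hc
      refine ⟨(c, QuotientGroup.mk (c.out⁻¹ * g)),
        Finset.mem_filter.2 ⟨Finset.mem_product.2 ⟨hc, hd⟩, ?_⟩, rfl⟩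
      obtain ⟨v, hv⟩ := QuotientGroup.mk_out_eq_mul U (c.out⁻¹ * g)
      rw [QuotientGroup.eq, hv]
      simp [mul_assoc]
  refine sum_mem_of_orbits a ?_ _ ?_
  · intro u hu g
    rw [ha', ha']
    refine congrArg Nat.cast (Finset.card_nbij' (fun c => (QuotientGroup.mk (u⁻¹ * c.out) : G ⧸ U))
      (fun c => (QuotientGroup.mk (u * c.out) : G ⧸ U)) ?_ ?_ ?_ ?_)
    · intro c hc
      obtain ⟨hc, hg⟩ := Finset.mem_filter.1 hc
      obtain ⟨x, hx, y, hy, e⟩ := out_mem_orb hc
      obtain ⟨v, hv⟩ := QuotientGroup.mk_out_eq_mul U (u⁻¹ * c.out)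
      obtain ⟨x', hx', y', hy', e'⟩ := mem_orb_mk.1 hg
      refine Finset.mem_filter.2 ⟨mem_orb_mk.2 ⟨u⁻¹ * x, mul_mem (inv_mem hu) hx, y, hy,
        by rw [e]; group⟩, mem_orb_mk.2 ⟨(v : G)⁻¹ * x', mul_mem (inv_mem v.2) hx', y', hy', ?_⟩⟩
      rw [hv, show (u⁻¹ * c.out * (v : G))⁻¹ * g = (v : G)⁻¹ * (c.out⁻¹ * (u * g)) by group, e']
      group
    · intro c hc
      obtain ⟨hc, hg⟩ := Finset.mem_filter.1 hc
      obtain ⟨x, hx, y, hy, e⟩ := out_mem_orb hc
      obtain ⟨v, hv⟩ := QuotientGroup.mk_out_eq_mul U (u * c.out)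
      obtain ⟨x', hx', y', hy', e'⟩ := mem_orb_mk.1 hg
      refine Finset.mem_filter.2 ⟨mem_orb_mk.2 ⟨u * x, mul_mem hu hx, y, hy,
        by rw [e]; group⟩, mem_orb_mk.2 ⟨(v : G)⁻¹ * x', mul_mem (inv_mem v.2) hx', y', hy', ?_⟩⟩
      rw [hv, show (u * c.out * (v : G))⁻¹ * (u * g) = (v : G)⁻¹ * (c.out⁻¹ * g) by group, e']
      group
    · intro c _
      obtain ⟨v, hv⟩ := QuotientGroup.mk_out_eq_mul U (u⁻¹ * c.out)
      conv_rhs => rw [← QuotientGroup.out_eq' c]
      rw [QuotientGroup.eq, hv]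
      simp [mul_assoc]
    · intro c _
      obtain ⟨v, hv⟩ := QuotientGroup.mk_out_eq_mul U (u * c.out)
      conv_rhs => rw [← QuotientGroup.out_eq' c]
      rw [QuotientGroup.eq, hv]
      simp [mul_assoc]
  intro g hg
  rw [ha'] at hg
  obtain ⟨c, hc⟩ := Finset.card_ne_zero.1 fun h => hg (by rw [h, Nat.cast_zero])
  obtain ⟨hcO, hd⟩ := Finset.mem_filter.1 hc
  have hs : ∀ {z}, z ∈ O → z.out ∈ cw P (BN.refl P s) := fun {z} hz =>
    D.orb_mem_cw (n := ⟨s.1, P.subset s.2⟩) hz
  have hcg : c.out⁻¹ * g ∈ cw P (BN.refl P s) := by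
    obtain ⟨x, hx, y, hy, e⟩ := mem_orb_mk.1 hd
    rw [e]; exact mem_cw_right P (D.le hy) (mem_cw_left P (D.le hx) (s_mem_cw P s))
  rcases mul_cw_refl P (hs hcO) hcg with h | h <;> rw [mul_inv_cancel_left] at h
  · exfalso
    rw [refl_sq] at h
    have hgB : g ∈ P.B := (mem_B_iff_cw_one P).2 h
    have hall : O.filter (fun c => (QuotientGroup.mk (c.out⁻¹ * g) : G ⧸ U) ∈ O) = O := by
      refine Finset.filter_true_of_mem fun c' hc' => ?_
      obtain ⟨x, hx, y, hy, e⟩ := out_mem_orb hcO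
      obtain ⟨x', hx', y', hy', e'⟩ := out_mem_orb hc'
      obtain ⟨a₁, ha₁, b₁, hb₁, e₁⟩ := mem_orb_mk.1 hd
      refine mem_orb_mk.2 ⟨y'⁻¹ * y * a₁, mul_mem (mul_mem (inv_mem hy') hy) ha₁,
        b₁ * (g⁻¹ * (x * x'⁻¹) * g), mul_mem hb₁ (D.normal' hgB (mul_mem hx (inv_mem hx'))), ?_⟩
      calc c'.out⁻¹ * g = y'⁻¹ * y * (c.out⁻¹ * g) * (g⁻¹ * (x * x'⁻¹) * g) := by
            rw [e, e']; group
        _ = _ := by rw [e₁]; group
    refine hg ?_
    rw [hall]
    -- the orbit has size a non-trivial power of `p`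
    have hcard : O.card = Nat.card (MulAction.orbit U (QuotientGroup.mk s.1 : G ⧸ U)) := by
      rw [Nat.card_coe_set_eq, Set.ncard_eq_toFinset_card _ (Set.toFinite _)]
      rfl
    obtain ⟨n, hn⟩ := D.isP.card_orbit (QuotientGroup.mk s.1 : G ⧸ U)
    rw [CharP.cast_eq_zero_iff k p, hcard, hn]
    refine dvd_pow_self p fun h0 => ?_
    rw [h0, pow_zero] at hn
    refine D.X_ne_bot s (eq_bot_iff.2 fun x hx => ?_)
    have hmem : (QuotientGroup.mk (x * s.1) : G ⧸ U) ∈ O := mem_orb.2 ⟨x, D.X_le s hx, rfl⟩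
    have he : (QuotientGroup.mk (x * s.1) : G ⧸ U) = QuotientGroup.mk s.1 :=
      Finset.card_le_one.1 (by rw [hcard, hn]) _ hmem _ (self_mem_orb _)
    have h2 : s.1⁻¹ * x * s.1 ∈ U := by
      have := inv_mem (QuotientGroup.eq.1 he)
      convert this using 1
      group
    rw [← D.X_inf s]
    exact ⟨D.mem_Rw_refl.2 ⟨D.X_le s hx, h2⟩, hx⟩
  · obtain ⟨u, hu, b, hb, rfl⟩ := (D.mem_cw_iff ⟨s.1, P.subset s.2⟩).1 h
    obtain ⟨u', hu', τ, hτ, rfl⟩ := D.split b hb
    set g' := u * s.1 * (u' * τ) with hg'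
    -- rewrite as a translate of the simple orbit
    have hτ' : s.1 * τ * s.1⁻¹ ∈ P.B ⊓ P.N :=
      ⟨P.conj_mem s.1 (P.subset s.2) τ hτ, P.N.mul_mem (P.N.mul_mem (P.subset s.2) hτ.2) (P.N.inv_mem (P.subset s.2))⟩
    have horb : orb U g' = orb U (s.1 * τ * s.1⁻¹ * s.1) := by
      ext y
      rw [← QuotientGroup.out_eq' y, mem_orb_mk, mem_orb_mk]
      constructor
      · rintro ⟨a, ha, c, hc, e⟩
        exact ⟨a * u, mul_mem ha hu, τ⁻¹ * u' * τ * c, mul_mem (D.normal' hτ.1 hu') hc,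
          by rw [e, hg']; group⟩
      · rintro ⟨a, ha, c, hc, e⟩
        exact ⟨a * u⁻¹, mul_mem ha (inv_mem hu), τ⁻¹ * u'⁻¹ * τ * c,
          mul_mem (D.normal' hτ.1 (inv_mem hu')) hc, by rw [e, hg']; group⟩
    have hop : op U g' f = lt (s.1 * τ * s.1⁻¹) (op U s.1 f) := by
      rw [op_apply, horb, ← op_apply, D.op_eq_lt_op hτ'.1 _ hf]
    rw [show op U g' f = lt (s.1 * τ * s.1⁻¹) (op U s.1 f) from hop]
    exact Submodule.subset_span ⟨_, hτ', rfl⟩

variable [Fintype G]

theorem cosetSum_eq_zero [Fact p.Prime] {e : MonoidAlgebra k G} (he : FixBy ⊤ e) {Q : Subgroup G}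
    (hQ : Q ≤ U) {x : G} (hx : ∀ q ∈ Q, x⁻¹ * q * x ∈ U)
    (h0 : br Q e = 0) : cosetSum U e x = 0 := by
  classical
  letI := Fintype.ofFinite U
  let _ : MulAction Q U :=
    { smul := fun q u => ⟨x⁻¹ * q * x * u * (q : G)⁻¹,
        mul_mem (mul_mem (hx q q.2) u.2) (inv_mem (hQ q.2))⟩
      one_smul := fun u => Subtype.ext (by
        show x⁻¹ * ((1 : Q) : G) * x * u * ((1 : Q) : G)⁻¹ = u
        simp)
      mul_smul := fun q r u => Subtype.ext (by
        show x⁻¹ * ((q * r : Q) : G) * x * u * ((q * r : Q) : G)⁻¹ =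
          x⁻¹ * q * x * (x⁻¹ * r * x * u * (r : G)⁻¹) * (q : G)⁻¹
        push_cast; group) }
  have hsm : ∀ (q : Q) (u : U), ((q • u : U) : G) = x⁻¹ * q * x * u * (q : G)⁻¹ := fun _ _ => rfl
  rw [cosetSum, sum_eq_sum_fixed (D.isP.to_le hQ) (fun u : U => e.coeff (x * u)) fun q u => by
    rw [hsm, show x * (x⁻¹ * q * x * u * (q : G)⁻¹) = (q : G) * (x * u) * (q : G)⁻¹ by group]
    exact he.coeff_eq' (Subgroup.mem_top _) _]
  refine Finset.sum_eq_zero fun u hu => ?_
  rw [Set.mem_toFinset] at hu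
  have hC : x * (u : G) ∈ Subgroup.centralizer (Q : Set G) := by
    rw [Subgroup.mem_centralizer_iff]
    intro q hq
    have h := congrArg (fun v : U => x * (v : G) * q) (hu ⟨q, hq⟩)
    simp only [hsm] at h
    rw [← h]
    group
  rw [← coeff_br_of_mem e hC, h0]
  simp

/-- The Brauer images at all non-trivial subgroups of `U` vanish. -/
theorem br_eq_zero [Fact p.Prime] {e : MonoidAlgebra k G} (he : FixBy ⊤ e) (hee : e * e = e)
    (hrad : ∀ t : P.S, br (D.Qr {s | s ≠ t}) e = 0) {R : Subgroup G} (hR : R ≤ U) (hR1 : R ≠ ⊥) :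
    br R e = 0 := by
  classical
  letI : Fintype (G ⧸ U) := Fintype.ofFinite _
  letI := Fintype.ofFinite U
  obtain ⟨n₀, hn₀⟩ := QuotientGroup.mk_surjective (w0 P)
  let W : Submodule k (G → k) :=
    { carrier := {f | LInv U f ∧ (∀ u ∈ U, ∀ x, f (x * u) = f x) ∧ act e f = f}
      add_mem' := fun {f g} hf hg => ⟨fun u hu => by rw [map_add, hf.1 u hu, hg.1 u hu],
        fun u hu x => by rw [Pi.add_apply, Pi.add_apply, hf.2.1 u hu, hg.2.1 u hu],
        by rw [map_add, hf.2.2, hg.2.2]⟩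
      zero_mem' := ⟨fun u _ => map_zero _, fun _ _ _ => rfl, map_zero _⟩
      smul_mem' := fun c f hf => ⟨fun u hu => by rw [map_smul, hf.1 u hu],
        fun u hu x => by rw [Pi.smul_apply, Pi.smul_apply, hf.2.1 u hu],
        by rw [map_smul, hf.2.2]⟩ }
  have hW : ∀ f ∈ W, op U n₀.1 f ∈ W := by
    rintro f ⟨h1, h2, h3⟩
    refine ⟨lInv_op h1, fun u hu x => ?_, ?_⟩
    · simp only [op_apply, Finset.sum_apply, lt_apply]
      exact Finset.sum_congr rfl fun z _ => by rw [← mul_assoc, h2 u hu]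
    · rw [op_apply, map_sum]
      exact Finset.sum_congr rfl fun z _ => by rw [act_lt he, h3]
  -- injectivity
  have hinj : ∀ f ∈ W, op U n₀.1 f = 0 → f = 0 := by
    rintro v ⟨hv, -, hve⟩ hv0
    by_contra hne
    haveI : Finite (Weyl P) := Quotient.finite _
    letI : Fintype (Weyl P) := Fintype.ofFinite _
    obtain ⟨w, hw, hmax⟩ := Finset.exists_max_image
      (Finset.univ.filter fun w : Weyl P => ∃ n : P.N, QuotientGroup.mk n = w ∧ op U n.1 v ≠ 0)
      (len P) ⟨1, Finset.mem_filter.2 ⟨Finset.mem_univ _, 1, rfl, by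
        have : orb U ((1 : P.N) : G) = {QuotientGroup.mk 1} := by
          ext z
          rw [Finset.mem_singleton, mem_orb]
          simp only [Subgroup.coe_one, mul_one]
          exact ⟨fun ⟨u, hu, e⟩ => e ▸ QuotientGroup.eq.2 (by simpa using hu),
            fun h => ⟨1, one_mem _, h.symm⟩⟩
        rw [op_apply, this, Finset.sum_singleton, lt_out hv, lt_one]
        exact hne⟩⟩
    obtain ⟨-, n, rfl, hn⟩ := Finset.mem_filter.1 hw
    set v' := op U n.1 v with hv'
    have hv'L : LInv U v' := lInv_op hv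
    have hkill : ∀ r : P.S, len P (QuotientGroup.mk n : Weyl P) <
        len P (BN.refl P r * QuotientGroup.mk n) → op U r.1 v' = 0 := by
      intro r hr
      rw [hv', D.op_op hr hv]
      by_contra h
      have := hmax _ (Finset.mem_filter.2 ⟨Finset.mem_univ _,
        (⟨r.1, P.subset r.2⟩ : P.N) * n, rfl, by simpa using h⟩)
      rw [QuotientGroup.mk_mul] at this
      exact absurd (lt_of_lt_of_le hr this) (lt_irrefl _)
    have hne0 : (QuotientGroup.mk n : Weyl P) ≠ w0 P := by
      intro h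
      refine hn ?_
      rw [← hn₀, QuotientGroup.eq, Subgroup.mem_subgroupOf] at h
      have ht : n.1 * n₀.1⁻¹ ∈ P.B ⊓ P.N := by
        refine ⟨?_, P.N.mul_mem n.2 (P.N.inv_mem n₀.2)⟩
        have h' := P.conj_mem n₀.1 n₀.2 _ ((P.B ⊓ P.N).inv_mem h)
        show n.1 * n₀.1⁻¹ ∈ P.B
        simpa [mul_assoc] using h'
      rw [hv', show n.1 = n.1 * n₀.1⁻¹ * n₀.1 by group, D.op_eq_lt_op ht.1 _ hv, hv0, map_zero]
    obtain ⟨s₀, hs₀⟩ : ∃ s, len P (QuotientGroup.mk n : Weyl P) <
        len P (BN.refl P s * QuotientGroup.mk n) := by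
      by_contra h
      push Not at h
      exact hne0 (eq_w0 fun s => not_lt.2 (h s))
    let V' : Submodule k (G → k) := Submodule.span k {g | ∃ t ∈ P.B ⊓ P.N, g = lt t v'}
    have hV'L : ∀ f ∈ V', LInv U f := by
      intro f hf u hu
      induction hf using Submodule.span_induction with
      | mem f hf =>
        obtain ⟨t, ht, rfl⟩ := hf
        rw [← lt_mul, show u * t = t * (t⁻¹ * u * t) by group, lt_mul, hv'L _ (D.normal' ht.1 hu)]
      | zero => exact map_zero _
      | add a b _ _ ha hb => rw [map_add, ha, hb]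
      | smul c a _ ha => rw [map_smul, ha]
    have hv'V : v' ∈ V' := Submodule.subset_span ⟨1, one_mem _, (lt_one _).symm⟩
    have hltV : ∀ t ∈ P.B ⊓ P.N, ∀ f ∈ V', lt t f ∈ V' := by
      intro t ht f hf
      induction hf using Submodule.span_induction with
      | mem f hf =>
        obtain ⟨t', ht', rfl⟩ := hf
        exact Submodule.subset_span ⟨t * t', (P.B ⊓ P.N).mul_mem ht ht', (lt_mul _ _ _).symm⟩
      | zero => rw [map_zero]; exact V'.zero_mem
      | add a b _ _ ha hb => rw [map_add]; exact V'.add_mem ha hb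
      | smul c a _ ha => rw [map_smul]; exact V'.smul_mem c ha
    have hstep : ∀ r : P.S, ∀ f ∈ V',
        op U r.1 f ∈ V' ∧ (r = s₀ → op U r.1 f = 0) := by
      intro r f hf
      have hbase : op U r.1 v' ∈ V' := by
        rcases len_refl_mul_cases P r (QuotientGroup.mk n : Weyl P) with h | h
        · rw [hkill r (by omega)]; exact V'.zero_mem
        · have hn' : len P (QuotientGroup.mk ((⟨r.1, P.subset r.2⟩ : P.N)⁻¹ * n) : Weyl P) <
              len P (BN.refl P r * QuotientGroup.mk ((⟨r.1, P.subset r.2⟩ : P.N)⁻¹ * n)) := by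
            rw [QuotientGroup.mk_mul, QuotientGroup.mk_inv,
              show (QuotientGroup.mk (⟨r.1, P.subset r.2⟩ : P.N) : Weyl P) = BN.refl P r from rfl,
              refl_inv, ← mul_assoc, refl_sq, one_mul]
            omega
          have e1 := D.op_op hn' hv
          simp only [Subgroup.coe_mul, Subgroup.coe_inv, mul_inv_cancel_left] at e1
          have := D.op_sq_mem r (lInv_op hv (g := r.1⁻¹ * n.1))
          rwa [e1] at this
      induction hf using Submodule.span_induction with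
      | mem f hf =>
        obtain ⟨t, ht, rfl⟩ := hf
        have ht' : r.1 * t * r.1⁻¹ ∈ P.B ⊓ P.N := ⟨P.conj_mem r.1 (P.subset r.2) t ht,
          P.N.mul_mem (P.N.mul_mem (P.subset r.2) ht.2) (P.N.inv_mem (P.subset r.2))⟩
        rw [D.op_lt ht.1 _ hv'L, show r.1 * t = r.1 * t * r.1⁻¹ * r.1 by group,
          D.op_eq_lt_op ht'.1 _ hv'L]
        refine ⟨hltV _ ht' _ hbase, ?_⟩
        rintro rfl
        rw [hkill r hs₀, map_zero]
      | zero => exact ⟨by rw [map_zero]; exact V'.zero_mem, fun _ => map_zero _⟩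
      | add a b _ _ ha hb =>
        exact ⟨by rw [map_add]; exact V'.add_mem ha.1 hb.1,
          fun h => by rw [map_add, ha.2 h, hb.2 h, add_zero]⟩
      | smul c a _ ha =>
        exact ⟨by rw [map_smul]; exact V'.smul_mem c ha.1,
          fun h => by rw [map_smul, ha.2 h, smul_zero]⟩
    have hword : ∀ (L : List P.S) (m : P.N), QuotientGroup.mk m = wprod P L →
        len P (wprod P L) = L.length →
        op U m.1 v' ∈ V' ∧ (s₀ ∈ L → op U m.1 v' = 0) := by
      intro L
      induction L with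
      | nil =>
        intro m hm _
        rw [wprod_nil, QuotientGroup.eq_one_iff, Subgroup.mem_subgroupOf] at hm
        refine ⟨?_, by simp⟩
        have h1 := D.op_eq_lt_op hm.1 1 hv'L
        rw [mul_one] at h1
        rw [h1]
        refine hltV _ hm _ ?_
        have : orb U (1 : G) = {QuotientGroup.mk 1} := by
          ext z
          rw [Finset.mem_singleton, mem_orb]
          simp only [mul_one]
          exact ⟨fun ⟨u, hu, e⟩ => e ▸ QuotientGroup.eq.2 (by simpa using hu),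
            fun h => ⟨1, one_mem _, h.symm⟩⟩
        rw [op_apply, this, Finset.sum_singleton, lt_out hv'L, lt_one]
        exact hv'V
      | cons r L ih =>
        intro m hm hl
        set rN : P.N := ⟨r.1, P.subset r.2⟩
        have hm' : QuotientGroup.mk (rN⁻¹ * m) = wprod P L := by
          rw [QuotientGroup.mk_mul, QuotientGroup.mk_inv, hm, wprod_cons]
          exact inv_mul_cancel_left _ _
        rw [List.length_cons, wprod_cons] at hl
        have h1 := len_le P L
        have h2 := len_refl_mul_le P r (wprod P L)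
        obtain ⟨hV, h0⟩ := ih (rN⁻¹ * m) hm' (by omega)
        have e1 : op U r.1 (op U (rN⁻¹ * m).1 v') = op U m.1 v' := by
          rw [D.op_op (by rw [hm']; omega) hv'L]
          simp [rN]
        rw [← e1]
        refine ⟨(hstep r _ hV).1, fun hmem => ?_⟩
        rcases List.mem_cons.1 hmem with h | h
        · exact (hstep r _ hV).2 h.symm
        · rw [h0 h, map_zero]
    have hzero : act e v' ∈ (⊥ : Submodule k (G → k)) := by
      rw [act_eq_sum_cosets e hv'L]
      refine sum_mem_of_orbits (fun z => cosetSum U e z.out) ?_ _ ?_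
      · intro u hu g
        obtain ⟨a, ha⟩ := QuotientGroup.mk_out_eq_mul U (u * g)
        obtain ⟨b, hb⟩ := QuotientGroup.mk_out_eq_mul U g
        rw [ha, hb, cosetSum_mul_right e _ a.2, cosetSum_mul_right e _ b.2,
          cosetSum_mul_left he g hu]
      intro g hg
      rw [Submodule.mem_bot]
      obtain ⟨m, hm, hgm⟩ := BN.bruhat P g
      obtain ⟨u, hu, b, hb, rfl⟩ := (D.mem_cw_iff ⟨m, hm⟩).1 hgm
      obtain ⟨u', hu', τ, hτ, rfl⟩ := D.split b hb
      set m' : P.N := ⟨m * τ, mul_mem hm hτ.2⟩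
      have horb : orb U (u * m * (u' * τ)) = orb U m'.1 := by
        ext y
        rw [← QuotientGroup.out_eq' y, mem_orb_mk, mem_orb_mk]
        constructor
        · rintro ⟨a, ha, c, hc, e'⟩
          exact ⟨a * u, mul_mem ha hu, τ⁻¹ * u' * τ * c, mul_mem (D.normal' hτ.1 hu') hc,
            by rw [e']; simp only [m']; group⟩
        · rintro ⟨a, ha, c, hc, e'⟩
          exact ⟨a * u⁻¹, mul_mem ha (inv_mem hu), τ⁻¹ * u'⁻¹ * τ * c,
            mul_mem (D.normal' hτ.1 (inv_mem hu')) hc, by rw [e']; simp only [m']; group⟩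
      rw [op_apply, horb, ← op_apply]
      obtain ⟨L, hL, hLl⟩ := exists_reduced P (QuotientGroup.mk m' : Weyl P)
      refine (hword L m' hL.symm (by rw [hL, hLl])).2 ?_
      by_contra hs
      refine hg ?_
      obtain ⟨v₁, hv₁⟩ := QuotientGroup.mk_out_eq_mul U (u * m * (u' * τ))
      have e2 : u * m * (u' * τ) * (v₁ : G) = u * m'.1 * ((τ⁻¹ * u' * τ) * v₁) := by
        simp only [m']; group
      rw [hv₁, e2, cosetSum_mul_right e _ (mul_mem (D.normal' hτ.1 hu') v₁.2),
        cosetSum_mul_left he _ hu]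
      have hWJ : WJ P {s | s ≠ s₀} (QuotientGroup.mk m' : Weyl P) :=
        ⟨L, fun x hx h => hs (h ▸ hx), hL⟩
      exact D.cosetSum_eq_zero he (D.Qr_le _)
        (fun q hq => ((D.mem_Rw rfl).1 (D.Qr_le_Rw hWJ hq)).2) (hrad s₀)
    have hv'e : act e v' = v' := by
      rw [hv', op_apply, map_sum]
      exact Finset.sum_congr rfl fun z _ => by rw [act_lt he, hve]
    rw [hv'e, Submodule.mem_bot] at hzero
    exact hn hzero
  -- surjectivity
  let T : W →ₗ[k] W := (op U n₀.1).restrict hW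
  have hTi : Function.Injective T := by
    rw [← LinearMap.ker_eq_bot, LinearMap.ker_eq_bot']
    exact fun f hf => Subtype.ext (hinj f f.2 (congrArg Subtype.val hf))
  obtain ⟨z, hz⟩ := (LinearMap.injective_iff_surjective.1 hTi) ⟨fun x => cosetSum U e x,
    ⟨fun u hu => funext fun x => cosetSum_mul_left he x (inv_mem hu),
      fun u hu x => cosetSum_mul_right e x hu, funext fun x => by
        simp only [act_apply, Finset.sum_apply, Pi.smul_apply, lt_apply, smul_eq_mul, cosetSum,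
          Finset.mul_sum]
        rw [Finset.sum_comm]
        refine Finset.sum_congr rfl fun u _ => ?_
        have h := coeff_mul e e (x * u)
        rw [hee] at h
        rw [h]
        exact Finset.sum_congr rfl fun y _ => by rw [mul_assoc y⁻¹ x (u : G)]⟩⟩
  have hz' : op U n₀.1 (z : G → k) = fun x => cosetSum U e x := congrArg Subtype.val hz
  have hvan : ∀ x ∈ Subgroup.centralizer (R : Set G), cosetSum U e x = 0 := by
    intro x hx
    have hU : cosetSum U e x = ∑ u : U, (z : G → k) (n₀.1⁻¹ * (u : G)⁻¹ * x) := by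
      rw [← congrFun hz' x]
      simp only [op_apply, Finset.sum_apply, lt_apply]
      refine (Finset.sum_bij (fun (u : U) _ => (QuotientGroup.mk ((u : G) * n₀.1) : G ⧸ U))
        (fun u _ => mem_orb.2 ⟨u, u.2, rfl⟩) ?_ ?_ ?_).symm
      · intro a _ b _ h
        have hh : (a : G)⁻¹ * b ∈ D.Rw (w0 P) :=
          (D.mem_Rw hn₀).2 ⟨mul_mem (inv_mem a.2) b.2, by
            have := QuotientGroup.eq.1 h
            convert this using 1
            group⟩
        rw [D.Rw_w0, Subgroup.mem_bot, inv_mul_eq_one] at hh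
        exact Subtype.ext hh
      · intro y hy
        obtain ⟨u, hu, e'⟩ := mem_orb.1 hy
        exact ⟨⟨u, hu⟩, Finset.mem_univ _, e'⟩
      · intro u _
        have := congrFun (lt_out (f := (z : G → k)) z.2.1 ((u : G) * n₀.1)) x
        simp only [lt_apply] at this
        rw [this, mul_inv_rev]
    rw [hU]
    let _ : MulAction R U :=
      { smul := fun r u => ⟨(r : G) * u, mul_mem (hR r.2) u.2⟩
        one_smul := fun u => Subtype.ext (one_mul _)
        mul_smul := fun r r' u => Subtype.ext (mul_assoc _ _ _) }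
    rw [sum_eq_sum_fixed (D.isP.to_le hR) (fun u : U => (z : G → k) (n₀.1⁻¹ * (u : G)⁻¹ * x))
      fun r u => by
        show (z : G → k) (n₀.1⁻¹ * ((r : G) * u)⁻¹ * x) = _
        have hr := Subgroup.mem_centralizer_iff.1 hx (r : G)⁻¹ (inv_mem r.2)
        rw [show n₀.1⁻¹ * ((r : G) * u)⁻¹ * x = n₀.1⁻¹ * (u : G)⁻¹ * ((r : G)⁻¹ * x) by group,
          hr, ← mul_assoc, z.2.2.1 _ (inv_mem (hR r.2))]]
    refine Finset.sum_eq_zero fun u hu => ?_
    rw [Set.mem_toFinset] at hu
    obtain ⟨r, hr, hr1⟩ := (Subgroup.bot_or_exists_ne_one R).resolve_left hR1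
    have : r * (u : G) = u := congrArg Subtype.val (hu ⟨r, hr⟩)
    exact absurd (mul_eq_right.1 this) hr1
  -- conclusion
  by_contra hne
  set Q := U ⊓ Subgroup.centralizer (R : Set G)
  have hfix : FixBy Q (br R e) := FixBy.mono (fixBy_br (he.mono le_top) le_rfl)
    (inf_le_right.trans (Subgroup.centralizer_le_normalizer _))
  refine CfsgLib.Green.sumOf_mul_ne_zero (D.isP.to_le inf_le_left) hfix
    (br_idem (D.isP.to_le hR) hee (he.mono le_top)) hne ?_
  rw [alg_commute le_rfl (CfsgLib.Green.suppIn_sumOf Q) hfix]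
  refine coeff_ext fun x => ?_
  rw [coeff_mul, MonoidAlgebra.coeff_zero, Finsupp.zero_apply]
  by_cases hx : x ∈ Subgroup.centralizer (R : Set G)
  · have h := hvan x hx
    rw [cosetSum] at h
    let _ : MulAction R U :=
      { smul := fun r u => ⟨(r : G) * u * (r : G)⁻¹,
          mul_mem (mul_mem (hR r.2) u.2) (inv_mem (hR r.2))⟩
        one_smul := fun u => Subtype.ext (by
          show ((1 : R) : G) * u * ((1 : R) : G)⁻¹ = u
          simp)
        mul_smul := fun r r' u => Subtype.ext (by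
          show ((r * r' : R) : G) * u * ((r * r' : R) : G)⁻¹ =
            (r : G) * ((r' : G) * u * (r' : G)⁻¹) * (r : G)⁻¹
          push_cast; group) }
    rw [sum_eq_sum_fixed (D.isP.to_le hR) (fun u : U => e.coeff (x * u)) fun r u => by
      show e.coeff (x * ((r : G) * u * (r : G)⁻¹)) = _
      rw [show x * ((r : G) * u * (r : G)⁻¹) = x * (r : G) * u * (r : G)⁻¹ by group,
        ← Subgroup.mem_centralizer_iff.1 hx r r.2,
        show (r : G) * x * u * (r : G)⁻¹ = (r : G) * (x * u) * (r : G)⁻¹ by group]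
      exact he.coeff_eq' (Subgroup.mem_top _) _] at h
    rw [← h]
    refine (Finset.sum_bij_ne_zero (fun (u : U) _ _ => x * (u : G)) (fun u _ _ => Finset.mem_univ _)
      (fun a _ _ b _ _ hab => Subtype.ext (mul_left_cancel hab)) ?_ ?_).symm
    · intro y _ hy
      have hq : y⁻¹ * x ∈ Q := by
        by_contra hh
        exact hy (by rw [CfsgLib.Green.sumOf, coeff_ofFun, if_neg hh, mul_zero])
      have hyC : y ∈ Subgroup.centralizer (R : Set G) := by
        by_contra hh
        exact hy (by rw [coeff_br, if_neg hh, zero_mul])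
      have hu : x⁻¹ * y ∈ Q := by simpa using inv_mem hq
      refine ⟨⟨x⁻¹ * y, hu.1⟩, Set.mem_toFinset.2 fun r => Subtype.ext ?_, ?_, by simp⟩
      · show (r : G) * (x⁻¹ * y) * (r : G)⁻¹ = x⁻¹ * y
        rw [Subgroup.mem_centralizer_iff.1 hu.2 r r.2]
        group
      · have hy' := hy
        rw [CfsgLib.Green.sumOf, coeff_ofFun, if_pos hq, mul_one, coeff_br_of_mem _ hyC] at hy'
        simpa using hy'
    · intro u hu _
      rw [Set.mem_toFinset] at hu
      have huC : (u : G) ∈ Subgroup.centralizer (R : Set G) :=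
        Subgroup.mem_centralizer_iff.2 fun r hr => by
          have : r * (u : G) * r⁻¹ = u := congrArg Subtype.val (hu ⟨r, hr⟩)
          exact mul_inv_eq_iff_eq_mul.1 this
      rw [coeff_br_of_mem _ (mul_mem hx huC), CfsgLib.Green.sumOf, coeff_ofFun, if_pos, mul_one]
      rw [mul_inv_rev, inv_mul_cancel_right]
      exact inv_mem (show (u : G) ∈ Q from ⟨u.2, huC⟩)
  · refine Finset.sum_eq_zero fun y _ => ?_
    rw [CfsgLib.Green.sumOf, coeff_ofFun]
    split_ifs with hh
    · rw [coeff_br, if_neg fun hy => hx ?_, zero_mul]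
      simpa using mul_mem hy (Subgroup.mem_inf.1 hh).2
    · rw [mul_zero]

end Split

/-! ### Blocks of characters -/

open Cfsg CfsgLib.Block

/-- An idempotent of the group algebra of a `p`-group is `0` or `1`. -/
theorem idem_eq_one_of_isPGroup [Fintype G] {p : ℕ} [Fact p.Prime] [CharP k p] {C : Subgroup G}
    (hC : IsPGroup p C) {f : MonoidAlgebra k G} (hf : f * f = f) (hs : SuppIn C f)
    (hfix : FixBy C f) (h0 : f ≠ 0) : f = 1 := by
  classical
  set σ := CfsgLib.Green.sumOf k C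
  have hσ : ∀ g : MonoidAlgebra k G, SuppIn C g → σ * g = aug k g • σ := by
    intro g hg
    refine coeff_ext fun x => ?_
    rw [coeff_mul, MonoidAlgebra.coeff_smul_apply, aug_apply, smul_eq_mul, Finset.sum_mul]
    refine Fintype.sum_equiv ((Equiv.inv G).trans (Equiv.mulRight x)) _ _ fun y => ?_
    simp only [Equiv.trans_apply, Equiv.inv_apply, Equiv.coe_mulRight, σ, CfsgLib.Green.sumOf,
      coeff_ofFun]
    by_cases hz : y⁻¹ * x ∈ C
    · have hiff : y ∈ C ↔ x ∈ C := ⟨fun h => by simpa using mul_mem h hz,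
        fun h => by simpa using mul_mem h (inv_mem hz)⟩
      simp only [hiff]
      split_ifs <;> simp
    · rw [hg _ hz]; simp
  have h1 : aug k f = 1 := by
    have hne : aug k f ≠ 0 := fun h =>
      CfsgLib.Green.sumOf_mul_ne_zero hC hfix hf h0 (by rw [hσ f hs, h, zero_smul])
    exact mul_left_cancel₀ hne (by rw [← map_mul, hf, mul_one])
  by_contra hne
  have hs1 : SuppIn C (1 - f) := fun g hg => by
    have : g ≠ 1 := fun h => hg (h ▸ one_mem _)
    simp [hs g hg, MonoidAlgebra.one_def, this.symm]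
  refine CfsgLib.Green.sumOf_mul_ne_zero hC (b := 1 - f) ?_ ?_ (sub_ne_zero.2 (Ne.symm hne)) ?_
  · exact fun t ht => by rw [map_sub, map_one, hfix t ht]
  · rw [sub_mul, one_mul, mul_sub, mul_one, hf, sub_self, sub_zero]
  · rw [hσ _ hs1, map_sub, map_one, h1, sub_self, zero_smul]

namespace Split

variable [Fintype G] {P : Cfsg.BNPair G} {p : ℕ} {U : Subgroup G} (D : Split P p U)
include D

/-- Every block has defect zero or full defect. -/
theorem blockDefect_eq_or [IsSimpleGroup G] [Fact p.Prime] {M : Ideal AlgInt}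
    (hM : IsPModular p M) {B : Set (IrrCharacter G)} (hB : IsPBlock M B) :
    blockDefect p B = 0 ∨ blockDefect p B = (Nat.card G).factorization p := by
  classical
  haveI : M.IsPrime := hM.2.1.isPrime
  haveI := charP_residue hM
  set e := idem M B
  have he : FixBy ⊤ e := (idem_mem B).2
  by_cases hrad : ∀ t : P.S, br (D.Qr {s | s ≠ t}) e = 0
  · left
    obtain ⟨D', hD'⟩ := exists_defectGroup hB hM
    have hc := card_defectGroup hM hB hD'
    by_cases h : D' = ⊥
    · subst h
      rw [Subgroup.card_bot] at hc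
      by_contra hne
      exact (Nat.one_lt_pow hne hM.1.one_lt).ne hc
    exfalso
    obtain ⟨g, hg, S₀, hS₀⟩ := hD'
    have hgD : g ∈ Subgroup.centralizer (D' : Set G) := Subgroup.mem_centralizer_iff.2 fun d hd => by
      obtain ⟨c, -, rfl⟩ := hS₀ ▸ hd
      exact Subgroup.mem_centralizer_singleton_iff.1 c.2
    have hDp : IsPGroup p D' := by rw [hS₀]; exact IsPGroup.map S₀.isPGroup' _
    obtain ⟨S, hS⟩ := D.sylow
    obtain ⟨S', hS'⟩ := hDp.exists_le_sylow
    obtain ⟨x, hx⟩ := MulAction.exists_smul_eq G S' S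
    set R := D'.map (MulAut.conj x).toMonoidHom
    have hRU : R ≤ U := by
      rw [← hS, ← hx]
      rintro _ ⟨d, hd, rfl⟩
      exact ⟨d, hS' hd, rfl⟩
    have hR1 : R ≠ ⊥ := fun h' =>
      h ((Subgroup.map_eq_bot_iff_of_injective _ (MulEquiv.injective _)).1 h')
    have h0 := D.br_eq_zero he (idem_idem hB) hrad hRU hR1
    have h1 : br D' e = 0 := by
      have := congrArg (cj (Residue M) x) (br_eq_self (suppIn_br (P := D') e))
      rw [cj_br] at this
      have h2 : cj (Residue M) x (br D' e) = 0 := by rw [cj_br, he x (Subgroup.mem_top x), h0]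
      exact (map_eq_zero_iff _ (AlgEquiv.injective _)).1 h2
    apply hg.2.1
    have h2 := congrArg (fun a => a.coeff g) h1
    simp only [coeff_br, if_pos hgD, e, idem, coeff_redFun, MonoidAlgebra.coeff_zero,
      Finsupp.zero_apply] at h2
    exact (red_eq_zero_iff hg.1).1 h2
  · right
    push Not at hrad
    obtain ⟨t, ht⟩ := hrad
    set Q := D.Qr {s | s ≠ t}
    have hQ : IsPGroup p Q := D.isP.to_le (D.Qr_le _)
    have hC := D.isPGroup_centralizer t
    set e₀ := idem M (principalBlock M G)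
    have hB₀ := isPBlock_principal (G := G) (M := M)
    have key : ∀ {B' : Set (IrrCharacter G)}, IsPBlock M B' → br Q (idem M B') ≠ 0 →
        br Q (idem M B') = 1 := fun {B'} hB' hne =>
      idem_eq_one_of_isPGroup hC (br_idem hQ (idem_idem hB') ((idem_mem B').2.mono le_top))
        (suppIn_br _) (fixBy_br ((idem_mem B').2.mono le_top)
          (Subgroup.centralizer_le_normalizer _)) hne
    have h0 : br Q e₀ = 1 := key hB₀ fun h => by
      have := aug_br (k := Residue M) hQ ((idem_mem (M := M) (principalBlock M G)).2.mono le_top)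
      rw [h, map_zero, aug_idem_principal] at this
      exact zero_ne_one this
    have hBeq : B = principalBlock M G := by
      refine idem_injective hB hB₀ ?_
      by_contra hne
      have hmul := (isBlk_idem hM hB).mul_eq_zero_of_ne
        (alg_comm (k := Residue M) (le_refl (⊤ : Subgroup G))) (isBlk_idem hM hB₀) hne
      have := br_mul hQ (he.mono le_top) ((idem_mem (M := M) (principalBlock M G)).2.mono le_top)
      rw [hmul, map_zero, key hB ht, h0, one_mul] at this
      exact zero_ne_one this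
    subst hBeq
    have h1 : sInf ((fun χ : IrrCharacter G => (charDegree (χ : G → ℂ)).factorization p) ''
        principalBlock M G) = 0 := by
      refine Nat.eq_zero_of_le_zero (Nat.sInf_le ⟨trivIrr G, trivIrr_mem_principal, ?_⟩)
      simp [charDegree, trivIrr]
    rw [blockDefect, h1, Nat.sub_zero]

end Split

end CfsgLib.SplitBN
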