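import Cfsg.Agent.SplitBN.Basic
import Mathlib.GroupTheory.Commutator.Basic

/-!
# Squares in the unipotent radical

If the squares of `U` are commutators modulo each `U ∩ sUs⁻¹`, they are commutators.
-/

set_option autoImplicit false
set_option linter.style.haveILetI false
set_option linter.unusedSectionVars false

namespace CfsgLib.SplitBN

open CfsgLib.BN CfsgLib.StCh
open scoped commutatorElement

attribute [local instance] torus_normal

variable {G : Type*} [Group G] [Finite G] {P : Cfsg.BNPair G}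

/-- The squares of `A` are commutators in `A`. -/
def SqComm (A : Subgroup G) : Prop := ∀ a ∈ A, a ^ 2 ∈ ⁅A, A⁆

theorem SqComm.mul {U : Subgroup G} {a b : G} (ha : a ∈ U) (hb : b ∈ U) (ha' : a ^ 2 ∈ ⁅U, U⁆)
    (hb' : b ^ 2 ∈ ⁅U, U⁆) : (a * b) ^ 2 ∈ ⁅U, U⁆ := by
  have hc : ⁅a⁻¹, b⁆ ∈ ⁅U, U⁆ := Subgroup.commutator_mem_commutator (inv_mem ha) hb
  have hcb : ∀ c ∈ ⁅U, U⁆, ∀ g ∈ U, g * c * g⁻¹ ∈ ⁅U, U⁆ := fun c hc g hg => by
    have h := Subgroup.mem_map_of_mem (MulAut.conj g).toMonoidHom hc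
    rw [Subgroup.map_commutator] at h
    have hle : U.map (MulAut.conj g).toMonoidHom ≤ U := by
      rintro _ ⟨y, hy, rfl⟩
      exact mul_mem (mul_mem hg hy) (inv_mem hg)
    exact Subgroup.commutator_mono hle hle h
  have hc2 : a⁻¹ * b * a * b⁻¹ ∈ ⁅U, U⁆ := by
    convert hc using 1
    rw [commutatorElement_def]
    group
  have e : (a * b) ^ 2 = a ^ 2 * ((a⁻¹ * b * a * b⁻¹) * b ^ 2) := by
    simp only [pow_two]; group
  rw [e]
  exact mul_mem ha' (mul_mem hc2 hb')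

namespace Split

variable {p : ℕ} {U : Subgroup G} (D : Split P p U)
include D

/-- The squares of a root group are commutators in it. -/
theorem sqComm_X (s : P.S)
    (hsq : ∀ u ∈ U, ∃ c ∈ ⁅U, U⁆, c⁻¹ * u ^ 2 ∈ D.Rw (BN.refl P s)) : SqComm (D.X s) := by
  set R := D.Rw (BN.refl P s)
  have hRU : R ≤ U := D.Rw_le _
  have hn : ∀ u ∈ U, ∀ r ∈ R, u * r * u⁻¹ ∈ R := fun u hu r hr =>
    D.mem_Rw_refl.2 ⟨mul_mem (mul_mem hu (hRU hr)) (inv_mem hu),
      D.rad s.1 s.2 u hu r (hRU hr) (D.mem_Rw_refl.1 hr).2⟩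
  have hUn : U ≤ Subgroup.normalizer (R : Set G) := fun u hu => Subgroup.mem_normalizer_iff.2 fun r =>
    ⟨hn u hu r, fun h => by simpa [mul_assoc] using hn u⁻¹ (inv_mem hu) _ h⟩
  have hX' : ⁅D.X s, D.X s⁆ ≤ U := by
    rw [Subgroup.commutator_le]
    intro a ha b hb
    rw [commutatorElement_def]
    exact mul_mem (mul_mem (mul_mem (D.X_le s ha) (D.X_le s hb)) (inv_mem (D.X_le s ha)))
      (inv_mem (D.X_le s hb))
  have hX'X : ⁅D.X s, D.X s⁆ ≤ D.X s := by
    rw [Subgroup.commutator_le]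
    intro a ha b hb
    rw [commutatorElement_def]
    exact mul_mem (mul_mem (mul_mem ha hb) (inv_mem ha)) (inv_mem hb)
  have hcoe := Subgroup.coe_mul_of_left_le_normalizer_right ⁅D.X s, D.X s⁆ R (hX'.trans hUn)
  have key : ⁅U, U⁆ ≤ ⁅D.X s, D.X s⁆ ⊔ R := by
    rw [Subgroup.commutator_le]
    intro a ha b hb
    obtain ⟨x, hx, r, hr, rfl⟩ := D.exists_X_mul s ha
    obtain ⟨y, hy, t, ht, rfl⟩ := D.exists_X_mul s hb
    have h1 := Subgroup.commutator_mem_commutator (H₁ := D.X s) (H₂ := D.X s) hx hy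
    have e : ⁅x * r, y * t⁆ = ⁅x, y⁆ * ((y * x * y⁻¹) * r * (y * x * y⁻¹)⁻¹ *
        ((y * x) * (t * r⁻¹) * (y * x)⁻¹) * (y * t⁻¹ * y⁻¹)) := by
      simp only [commutatorElement_def]; group
    rw [e]
    refine mul_mem (Subgroup.mem_sup_left h1) (Subgroup.mem_sup_right (mul_mem (mul_mem ?_ ?_) ?_))
    · exact hn _ (mul_mem (mul_mem (D.X_le s hy) (D.X_le s hx)) (inv_mem (D.X_le s hy))) _ hr
    · exact hn _ (mul_mem (D.X_le s hy) (D.X_le s hx)) _ (mul_mem ht (inv_mem hr))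
    · exact hn _ (D.X_le s hy) _ (inv_mem ht)
  intro x hx
  obtain ⟨c, hc, hcr⟩ := hsq x (D.X_le s hx)
  have hc' : c ∈ ((⁅D.X s, D.X s⁆ ⊔ R : Subgroup G) : Set G) := key hc
  rw [hcoe] at hc'
  obtain ⟨d, hd, r, hr, rfl⟩ := hc'
  have : d⁻¹ * x ^ 2 ∈ R ⊓ D.X s := by
    refine Subgroup.mem_inf.2 ⟨?_, mul_mem (inv_mem (hX'X hd)) (pow_mem hx 2)⟩
    have := mul_mem (show r ∈ R from hr) hcr
    convert this using 1
    group
  rw [D.X_inf, Subgroup.mem_bot, inv_mul_eq_one] at this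
  exact this ▸ hd

/-- The squares of `U` are commutators. -/
theorem sqComm (hsq : ∀ s : P.S, ∀ u ∈ U, ∃ c ∈ ⁅U, U⁆, c⁻¹ * u ^ 2 ∈ D.Rw (BN.refl P s)) :
    SqComm U := by
  let T : Weyl P → Set G := fun w => {z | ∃ A : Subgroup G, A ≤ D.Rw w ∧ SqComm A ∧ z ∈ A}
  have hTle : ∀ w, Subgroup.closure (T w) ≤ D.Rw w := fun w =>
    (Subgroup.closure_le _).2 fun z ⟨_, hA, _, hz⟩ => hA hz
  have hgen : ∀ L : List P.S, L.length ≤ len P (wprod P L) → ∀ u ∈ U,
      ∃ g ∈ Subgroup.closure (T (wprod P L * w0 P)), g⁻¹ * u ∈ D.Rw (wprod P L) := by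
    intro L
    induction L with
    | nil => intro _ u hu; exact ⟨1, one_mem _, by rw [wprod_nil, D.Rw_one]; simpa using hu⟩
    | cons r L ih =>
      intro hl u hu
      rw [List.length_cons, wprod_cons] at hl
      have h1 := len_le P L
      have h2 := len_refl_mul_le P r (wprod P L)
      obtain ⟨x, hx, u1, hu1, rfl⟩ := D.exists_X_mul r hu
      obtain ⟨hu1U, hy⟩ := D.mem_Rw_refl.1 hu1
      obtain ⟨g', hg', hz⟩ := ih (by omega) _ hy
      have e1 := len_mul_w0 (wprod P L)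
      have e2 := len_mul_w0 (BN.refl P r * wprod P L)
      rw [mul_assoc] at e2
      have hle : ∀ z ∈ D.Rw (wprod P L * w0 P), r.1 * z * r.1⁻¹ ∈ D.Rw (BN.refl P r * (wprod P L * w0 P)) :=
        fun z hz => D.conj_Rw' hz (D.conj_sq.1 (D.mem_Rw_refl.1 (D.Rw_le_refl (s := r) (by omega) hz)).2)
      have hmap : (Subgroup.closure (T (wprod P L * w0 P))).map (MulAut.conj r.1).toMonoidHom ≤
          Subgroup.closure (T (BN.refl P r * (wprod P L * w0 P))) := by
        rw [MonoidHom.map_closure, Subgroup.closure_le]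
        rintro _ ⟨z, ⟨A, hA, hA2, hzA⟩, rfl⟩
        refine Subgroup.subset_closure ⟨A.map (MulAut.conj r.1).toMonoidHom, ?_, ?_, _, hzA, rfl⟩
        · rintro _ ⟨a, ha, rfl⟩
          exact hle a (hA ha)
        · rintro _ ⟨a, ha, rfl⟩
          rw [← map_pow, ← Subgroup.map_commutator]
          exact Subgroup.mem_map_of_mem _ (hA2 a ha)
      have hg2 : r.1 * g' * r.1⁻¹ ∈ Subgroup.closure (T (BN.refl P r * (wprod P L * w0 P))) :=
        hmap ⟨g', hg', rfl⟩
      rw [wprod_cons]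
      refine ⟨x * (r.1 * g' * r.1⁻¹), ?_, ?_⟩
      · rw [mul_assoc]
        refine mul_mem (Subgroup.subset_closure ⟨D.X r, D.X_le_Rw ?_, D.sqComm_X r (hsq r), hx⟩) hg2
        rw [← mul_assoc (BN.refl P r) (BN.refl P r), refl_sq, one_mul]
        omega
      · have hgU : r.1 * g' * r.1⁻¹ ∈ U := D.Rw_le _ (hle _ (hTle _ hg'))
        have hzU : r.1 * (g'⁻¹ * (r.1⁻¹ * u1 * r.1)) * r.1⁻¹ ∈ U := by
          have := mul_mem (inv_mem hgU) hu1U
          convert this using 1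
          group
        have := D.conj_Rw' (s := r) hz hzU
        convert this using 1
        group
  intro u hu
  obtain ⟨L, hL, hlen⟩ := exists_reduced P (w0 P)
  obtain ⟨g, hg, hgu⟩ := hgen L (hL.symm ▸ hlen.le) u hu
  rw [hL, D.Rw_w0, Subgroup.mem_bot, inv_mul_eq_one] at hgu
  subst hgu
  have : ∀ z ∈ Subgroup.closure (T (wprod P L * w0 P)), z ∈ U ∧ z ^ 2 ∈ ⁅U, U⁆ := by
    intro z hz
    induction hz using Subgroup.closure_induction with
    | mem z h =>
      obtain ⟨A, hA, hA2, hzA⟩ := h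
      have hAU : A ≤ U := hA.trans (D.Rw_le _)
      exact ⟨hAU hzA, Subgroup.commutator_mono hAU hAU (hA2 z hzA)⟩
    | one => exact ⟨one_mem _, by rw [one_pow]; exact one_mem _⟩
    | mul a b _ _ ha hb => exact ⟨mul_mem ha.1 hb.1, SqComm.mul ha.1 hb.1 ha.2 hb.2⟩
    | inv a _ ha => exact ⟨inv_mem ha.1, by rw [inv_pow]; exact inv_mem ha.2⟩
  exact (this g hg).2

/-- Transfer to any Sylow subgroup. -/
theorem sqComm_sylow [Fact p.Prime] (h : SqComm U) (Q : Sylow p G) :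
    ∀ x : (Q : Subgroup G), x ^ 2 ∈ commutator (Q : Subgroup G) := by
  obtain ⟨S, hS⟩ := D.sylow
  obtain ⟨g, hg⟩ := MulAction.exists_smul_eq G S Q
  have hQ : (Q : Subgroup G) = U.map (MulAut.conj g).toMonoidHom := by rw [← hS, ← hg]; rfl
  intro x
  rw [← Subgroup.mem_map_iff_mem (f := (Q : Subgroup G).subtype) (Subgroup.subtype_injective _),
    Subgroup.map_subtype_commutator, map_pow]
  obtain ⟨u, hu, e⟩ : (x : G) ∈ U.map (MulAut.conj g).toMonoidHom := hQ ▸ x.2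
  rw [Subgroup.subtype_apply, ← e, ← map_pow, hQ, ← Subgroup.map_commutator]
  exact Subgroup.mem_map_of_mem _ (h u hu)

end Split

end CfsgLib.SplitBN
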