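import Cfsg.Agent.SplitBN.Aut
import Cfsg.Agent.SplitBN.Blocks
import Cfsg.Agent.SplitBN.Squares

/-!
# Central quotients of split Tits systems
-/

set_option autoImplicit false
set_option linter.style.haveILetI false
set_option linter.unusedSectionVars false

namespace CfsgLib.SplitBN

open CfsgLib.BN CfsgLib.StCh

attribute [local instance] torus_normal

universe u v

variable {G : Type u} {H : Type v} [Group G] [Group H] [Finite G] {P : Cfsg.BNPair G} {p : ℕ}
  {U : Subgroup G}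

namespace Split

variable (D : Split P p U)
include D

theorem center_le : Subgroup.center G ≤ P.B := by
  intro z hz
  have hcomm : ∀ x : G, z⁻¹ * x * z = x := fun x => by
    rw [mul_assoc, Subgroup.mem_center_iff.1 hz x, inv_mul_cancel_left]
  obtain ⟨n, hn, hzn⟩ := BN.bruhat P z
  obtain ⟨u, hu, b, hb, e⟩ := (D.mem_cw_iff ⟨n, hn⟩).1 hzn
  set w : Weyl P := QuotientGroup.mk (⟨n, hn⟩ : P.N) with hw
  have hR : D.Rw w = U := le_antisymm (D.Rw_le _) fun x hx => by
    refine (D.mem_Rw rfl).2 ⟨hx, ?_⟩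
    have h : u * x * u⁻¹ ∈ U := mul_mem (mul_mem hu hx) (inv_mem hu)
    rw [← hcomm (u * x * u⁻¹), e] at h
    refine (D.conj_iff hb).1 ?_
    convert h using 1
    simp only
    group
  obtain ⟨L, hL, hlen⟩ := exists_reduced P w
  cases L with
  | nil =>
    rw [mem_B_iff_cw_one P]
    rw [wprod_nil] at hL
    rw [hL, hw, cw_mk]
    exact hzn
  | cons s L =>
    exfalso
    rw [wprod_cons] at hL
    rw [List.length_cons] at hlen
    have h1 := len_le P L
    have hsw : BN.refl P s * w = wprod P L := by rw [← hL, ← mul_assoc, refl_sq, one_mul]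
    have hlt : len P (BN.refl P s * w) < len P w := by rw [hsw]; omega
    refine D.X_ne_bot s (eq_bot_iff.2 fun x hx => ?_)
    have : x ∈ D.Rw (BN.refl P s) ⊓ D.X s := ⟨D.Rw_le_refl hlt (hR.symm ▸ D.X_le s hx), hx⟩
    rwa [D.X_inf] at this

theorem center_eq_one {z : G} (hz : z ∈ Subgroup.center G) {k : ℕ} (hk : z ^ p ^ k = 1) : z = 1 := by
  have hzU := D.mem_of_pow (D.center_le hz) hk
  obtain ⟨n, hn⟩ := QuotientGroup.mk_surjective (w0 P)
  have : z ∈ D.Rw (w0 P) := (D.mem_Rw hn).2 ⟨hzU, by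
    rw [mul_assoc, ← Subgroup.mem_center_iff.1 hz, inv_mul_cancel_left]; exact hzU⟩
  rwa [D.Rw_w0, Subgroup.mem_bot] at this

theorem eq_of_map_eq {f : G →* H} (hker : f.ker ≤ Subgroup.center G) {x y : G}
    (hx : ∃ k : ℕ, x ^ p ^ k = 1) (hy : ∃ k : ℕ, y ^ p ^ k = 1) (h : f x = f y) : x = y := by
  have hz : x * y⁻¹ ∈ Subgroup.center G := hker (by rw [MonoidHom.mem_ker, map_mul, map_inv, h, mul_inv_cancel])
  obtain ⟨k, hk⟩ := hx
  obtain ⟨l, hl⟩ := hy
  have hc : Commute (x * y⁻¹) y := (Subgroup.mem_center_iff.1 hz y).symm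
  refine mul_inv_eq_one.1 (D.center_eq_one hz (k := k + l) ?_)
  have e : ((x * y⁻¹) * y) ^ p ^ (k + l) = 1 := by
    rw [inv_mul_cancel_right, pow_add, pow_mul, hk, one_pow]
  rwa [hc.mul_pow, pow_add, mul_comm (p ^ k), pow_mul y, hl, one_pow, mul_one, mul_comm (p ^ l),
    ← pow_add] at e

variable (f : G →* H) (hf : Function.Surjective f) (hker : f.ker ≤ Subgroup.center G)
include hker

theorem exists_of_map_mem {K : Subgroup G} (hK : P.B ≤ K ∨ Subgroup.center G ≤ K) {x : G}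
    (h : f x ∈ K.map f) : x ∈ K := by
  have hC : Subgroup.center G ≤ K := hK.elim (fun h' => D.center_le.trans h') id
  rw [← Subgroup.mem_comap, Subgroup.comap_map_eq, sup_eq_left.2 (hker.trans hC)] at h
  exact h

/-- The image of a Tits system. -/
def mapPair : Cfsg.BNPair H where
  B := P.B.map f
  N := P.N.map f
  S := f '' P.S
  sup_eq_top := by
    rw [← Subgroup.map_sup, P.sup_eq_top, ← MonoidHom.range_eq_map]
    exact MonoidHom.range_eq_top.2 hf
  conj_mem := by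
    rintro _ ⟨n, hn, rfl⟩ _ ⟨⟨b, hb, rfl⟩, c, hc, e⟩
    have hcB : c ∈ P.B := D.exists_of_map_mem f hker (Or.inl le_rfl) (e ▸ Subgroup.mem_map_of_mem f hb)
    rw [← e, ← map_inv, ← map_mul, ← map_mul]
    exact Subgroup.mem_map_of_mem f (P.conj_mem n hn c ⟨hcB, hc⟩)
  subset := by rintro _ ⟨s, hs, rfl⟩; exact ⟨s, P.subset hs, rfl⟩
  sq_mem := by rintro _ ⟨s, hs, rfl⟩; exact ⟨s * s, P.sq_mem s hs, map_mul _ _ _⟩
  inj := by
    rintro _ ⟨s, hs, rfl⟩ _ ⟨t, ht, rfl⟩ h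
    rw [← map_inv, ← map_mul] at h
    rw [P.inj s hs t ht (D.exists_of_map_mem f hker (Or.inl le_rfl) h)]
  closure_sup := by
    rw [← MonoidHom.map_closure]
    refine le_antisymm (sup_le (Subgroup.map_mono ?_) inf_le_right) ?_
    · conv_rhs => rw [← P.closure_sup]
      exact le_sup_left
    · conv_lhs => rw [← P.closure_sup, Subgroup.map_sup]
      exact sup_le_sup_left (Subgroup.map_inf_le _ _ f) _
  mul_mem_union := by
    rintro _ ⟨s, hs, rfl⟩ _ ⟨n, hn, rfl⟩ _ ⟨b, hb, rfl⟩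
    have key : ∀ m, s * b * n ∈ DoubleCoset.doubleCoset m (P.B : Set G) P.B →
        f s * f b * f n ∈ DoubleCoset.doubleCoset (f m) (P.B.map f : Set H) (P.B.map f) := by
      intro m h
      obtain ⟨c, hc, d, hd, e⟩ := DoubleCoset.mem_doubleCoset.1 h
      exact DoubleCoset.mem_doubleCoset.2 ⟨f c, ⟨c, hc, rfl⟩, f d, ⟨d, hd, rfl⟩, by simp [← map_mul, e]⟩
    rcases P.mul_mem_union s hs n hn b hb with h | h
    · left; rw [← map_mul f s n]; exact key _ h
    · exact Or.inr (key _ h)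
  conj_ne := by
    rintro _ ⟨s, hs, rfl⟩ h
    refine P.conj_ne s hs (Set.Subset.antisymm ?_ fun c hc => ?_)
    · rintro _ ⟨b, hb, rfl⟩
      refine D.exists_of_map_mem f hker (Or.inl le_rfl) (?_ : f (s * b * s) ∈ P.B.map f)
      rw [map_mul, map_mul, ← SetLike.mem_coe, ← h]
      exact ⟨f b, ⟨b, hb, rfl⟩, rfl⟩
    · have hfc : f c ∈ (P.B.map f : Set H) := ⟨c, hc, rfl⟩
      rw [← h] at hfc
      obtain ⟨_, ⟨b, hb, rfl⟩, e⟩ := hfc
      have e' : f (s * b * s) = f c := by simpa using e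
      have hz : (s * b * s)⁻¹ * c ∈ Subgroup.center G :=
        hker (by rw [MonoidHom.mem_ker, map_mul, map_inv, e', inv_mul_cancel])
      refine ⟨b * ((s * b * s)⁻¹ * c), mul_mem hb (D.center_le hz), ?_⟩
      have hcs := Subgroup.mem_center_iff.1 hz s
      calc s * (b * ((s * b * s)⁻¹ * c)) * s = s * b * (((s * b * s)⁻¹ * c) * s) := by group
        _ = _ := by rw [← hcs]; group

/-- The image is split. -/
theorem map [Fact p.Prime] : Split (D.mapPair f hf hker) p (U.map f) := by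
  have hpU : ∀ {u}, u ∈ U → ∃ k : ℕ, u ^ p ^ k = 1 := fun {u} hu => by
    obtain ⟨k, hk⟩ := D.isP ⟨u, hu⟩
    exact ⟨k, congrArg Subtype.val hk⟩
  have hpc : ∀ {u} (g : G), u ∈ U → ∃ k : ℕ, (g⁻¹ * u * g) ^ p ^ k = 1 := fun {u} g hu => by
    obtain ⟨k, hk⟩ := hpU hu
    refine ⟨k, ?_⟩
    have := conj_pow (a := g⁻¹) (b := u) (i := p ^ k)
    rw [inv_inv] at this
    rw [this, hk, mul_one, inv_mul_cancel]
  refine ⟨Subgroup.map_mono D.le, ?_, ?_, D.isP.map f, ?_, ?_, ?_⟩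
  · rintro _ ⟨b, hb, rfl⟩ _ ⟨u, hu, rfl⟩
    exact ⟨_, D.normal b hb u hu, by simp⟩
  · rintro _ ⟨b, hb, rfl⟩
    obtain ⟨u, hu, t, ht, rfl⟩ := D.split b hb
    exact ⟨f u, ⟨u, hu, rfl⟩, f t, Subgroup.map_inf_le _ _ f ⟨t, ht, rfl⟩, map_mul _ _ _⟩
  · obtain ⟨S, hS⟩ := D.sylow
    exact ⟨S.mapSurjective hf, by rw [Sylow.coe_mapSurjective, hS]⟩
  · obtain ⟨g, hg⟩ := D.opp
    refine ⟨f g, ?_⟩
    rintro _ ⟨x, hx, rfl⟩ ⟨y, hy, e⟩
    rw [← map_inv, ← map_mul, ← map_mul] at e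
    have := D.eq_of_map_eq hker (hpU hy) (hpc g hx) e
    rw [hg x hx (this ▸ hy), map_one]
  · rintro _ ⟨s, hs, rfl⟩ _ ⟨u, hu, rfl⟩ _ ⟨x, hx, rfl⟩ ⟨y, hy, e⟩
    rw [← map_inv, ← map_mul, ← map_mul] at e
    have := D.eq_of_map_eq hker (hpU hy) (hpc s hx) e
    exact ⟨_, D.rad s hs u hu x hx (this ▸ hy), by simp⟩

end Split

/-- `G` has a split Tits system in characteristic `p`. -/
def HasSplit (p : ℕ) (G : Type*) [Group G] : Prop :=
  ∃ (P : Cfsg.BNPair G) (U : Subgroup G), Split P p U ∧ P.S.Nonempty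

/-- `G` has a split Tits system in characteristic two whose unipotent radical has the squares in its
derived subgroup. -/
def HasSplitSq (G : Type*) [Group G] : Prop :=
  ∃ (P : Cfsg.BNPair G) (U : Subgroup G), Split P 2 U ∧ SqComm U

theorem SqComm.map {f : G →* H} (h : SqComm U) : SqComm (U.map f) := by
  rintro _ ⟨u, hu, rfl⟩
  rw [← map_pow, ← Subgroup.map_commutator]
  exact Subgroup.mem_map_of_mem f (h u hu)

theorem HasSplit.map [Fact p.Prime] (h : HasSplit p G) (f : G →* H) (hf : Function.Surjective f)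
    (hker : f.ker ≤ Subgroup.center G) : HasSplit p H := by
  obtain ⟨P, U, D, s, hs⟩ := h
  exact ⟨_, _, D.map f hf hker, f s, s, hs, rfl⟩

theorem HasSplit.congr [Fact p.Prime] (h : HasSplit p G) (e : G ≃* H) : HasSplit p H :=
  h.map e.toMonoidHom e.surjective (by
    intro x hx
    rw [show x = 1 from e.injective (hx.trans (map_one e).symm)]
    exact one_mem _)

theorem HasSplitSq.map (h : HasSplitSq G) (f : G →* H) (hf : Function.Surjective f)
    (hker : f.ker ≤ Subgroup.center G) : HasSplitSq H := by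
  obtain ⟨P, U, D, hU⟩ := h
  haveI : Fact (Nat.Prime 2) := ⟨Nat.prime_two⟩
  exact ⟨_, _, D.map f hf hker, hU.map⟩

theorem HasSplitSq.congr (h : HasSplitSq G) (e : G ≃* H) : HasSplitSq H :=
  h.map e.toMonoidHom e.surjective (by
    intro x hx
    rw [show x = 1 from e.injective (hx.trans (map_one e).symm)]
    exact one_mem _)

theorem HasSplit.aut_eq_one [Fact p.Prime] [IsSimpleGroup G] (h : HasSplit p G) (α : MulAut G)
    (hα : ¬ p ∣ orderOf α) (Q : Sylow p G) (hfix : ∀ x ∈ (Q : Subgroup G), α x = x) : α = 1 := by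
  obtain ⟨P, U, D, hS⟩ := h
  exact D.aut_eq_one hS α hα Q hfix

theorem HasSplitSq.sylow (h : HasSplitSq G) (Q : Sylow 2 G) :
    ∀ x : (Q : Subgroup G), x ^ 2 ∈ commutator (Q : Subgroup G) := by
  obtain ⟨P, U, D, hU⟩ := h
  haveI : Fact (Nat.Prime 2) := ⟨Nat.prime_two⟩
  exact D.sqComm_sylow hU Q

end CfsgLib.SplitBN
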