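import Cfsg.Agent.SplitBN.Overgroup

/-!
# Overgroups of a Sylow subgroup in a subgroup of index two

For a split Tits system with `B = U`, all involutions in `K` and `|P_s : B|` prime for each simple
reflection, a subgroup of `K` containing `U ∩ K` with trivial `2`-core is `K`. This is the Tits
group inside `²F₄(2)`.
-/

set_option autoImplicit false
set_option linter.style.haveILetI false
set_option linter.unusedSectionVars false

namespace CfsgLib.SplitBN

open CfsgLib.BN CfsgLib.StCh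

attribute [local instance] torus_normal

variable {G : Type*} [Group G] [Finite G] {P : Cfsg.BNPair G} {U : Subgroup G}

namespace Split

/-- The index of `B` in a minimal parabolic. -/
theorem card_par_singleton {p : ℕ} (D : Split P p U) (hB : P.B = U) (s : P.S) :
    Nat.card (par P ({s} : Set P.S)) =
      Nat.card U * (Nat.card {x : G ⧸ P.B // cell P x = BN.refl P s} + 1) := by
  classical
  have hmem : ∀ g : G, g ∈ par P ({s} : Set P.S) ↔ cellOf P g = 1 ∨ cellOf P g = BN.refl P s := by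
    intro g
    rw [show par P ({s} : Set P.S) = P.parabolic {s.1} by rw [par, Set.image_singleton],
      mem_parabolic_singleton P s.2]
    refine or_congr (cellOf_eq_one (P := P)).symm
      ⟨fun h => cellOf_eq h, fun h => ?_⟩
    have := mem_cellOf (P := P) g
    rwa [h] at this
  set C : Set (G ⧸ P.B) := {x | cell P x = 1 ∨ cell P x = BN.refl P s}
  have h1 : Nat.card (par P ({s} : Set P.S)) = Nat.card C * Nat.card P.B := by
    rw [← Nat.card_prod]
    refine Nat.card_congr ((Equiv.subtypeEquiv Subgroup.groupEquivQuotientProdSubgroup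
      (q := fun z : (G ⧸ P.B) × P.B => z.1 ∈ C) fun g => ?_).trans
      { toFun := fun z => (⟨z.1.1, z.2⟩, z.1.2)
        invFun := fun z => ⟨(z.1.1, z.2), z.1.2⟩
        left_inv := fun _ => rfl
        right_inv := fun _ => rfl })
    rw [hmem]
    show _ ↔ cell P (QuotientGroup.mk g) = 1 ∨ cell P (QuotientGroup.mk g) = _
    rw [cell_mk]
  have h2 : Nat.card C = Nat.card {x : G ⧸ P.B // cell P x = BN.refl P s} + 1 := by
    have hone : ∀ x : G ⧸ P.B, cell P x = 1 → x = QuotientGroup.mk 1 := by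
      intro x
      induction x using QuotientGroup.induction_on with
      | H g =>
        rw [cell_mk]
        intro h
        rw [QuotientGroup.eq, mul_one]
        exact inv_mem (cellOf_eq_one.1 h)
    have hnot : (QuotientGroup.mk 1 : G ⧸ P.B) ∉ {x : G ⧸ P.B | cell P x = BN.refl P s} := by
      intro (h : cell P _ = _)
      rw [cell_mk, cellOf_eq_one.2 (one_mem P.B)] at h
      exact refl_ne_one P s h.symm
    have e : C = insert (QuotientGroup.mk 1) {x : G ⧸ P.B | cell P x = BN.refl P s} := by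
      ext x
      constructor
      · rintro (h | h)
        · exact Or.inl (hone x h)
        · exact Or.inr h
      · rintro (rfl | h)
        · exact Or.inl (by rw [cell_mk, cellOf_eq_one.2 (one_mem P.B)])
        · exact Or.inr h
    rw [e, Nat.card_coe_set_eq, Set.ncard_insert_of_notMem hnot (Set.toFinite _), ← Nat.card_coe_set_eq]
    rfl
  rw [h1, h2, show Nat.card P.B = Nat.card U from congrArg (fun V : Subgroup G => Nat.card V) hB,
    mul_comm]

/-- A Sylow `2`-subgroup is not inside a subgroup of index two. -/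
theorem not_le_indexTwo (D : Split P 2 U) {K : Subgroup G} (hK : K.index = 2) : ¬ U ≤ K := fun h => by
  haveI : Fact (Nat.Prime 2) := ⟨Nat.prime_two⟩
  obtain ⟨S, hS⟩ := D.sylow
  have h2 : 2 ∣ U.index := hK ▸ Subgroup.index_dvd_of_le h
  exact S.not_dvd_index (show 2 ∣ (S : Subgroup G).index from hS.symm ▸ h2)

/-- With `B = U` an overgroup of `U` meeting every simple reflection is everything. -/
theorem eq_top_of_borel {p : ℕ} (D : Split P p U) (hB : P.B = U) {M : Subgroup G} (hM : U ≤ M)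
    (hS : ∀ s : P.S, ∃ m : P.N, m.1 ∈ M ∧ (QuotientGroup.mk m : Weyl P) = BN.refl P s) : M = ⊤ := by
  refine eq_top_iff.2 fun g _ => ?_
  have hW : ∀ L : List P.S, ∃ m : P.N, m.1 ∈ M ∧ (QuotientGroup.mk m : Weyl P) = wprod P L := by
    intro L
    induction L with
    | nil => exact ⟨1, M.one_mem, rfl⟩
    | cons s L ih =>
      obtain ⟨a, ha, ea⟩ := hS s
      obtain ⟨c, hc, ec⟩ := ih
      exact ⟨a * c, M.mul_mem ha hc, by rw [QuotientGroup.mk_mul, ea, ec, wprod_cons]⟩
  obtain ⟨w, hw⟩ := exists_mem_cw P g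
  obtain ⟨L, rfl⟩ := exists_word P w
  obtain ⟨m, hm, em⟩ := hW L
  rw [← em] at hw
  obtain ⟨u, hu, b, hb, rfl⟩ := (D.mem_cw_iff m).1 hw
  exact M.mul_mem (M.mul_mem (hM hu) hm) (hM (hB ▸ hb))

/-- With `B = U` the whole group is the normal closure of `U`. -/
theorem normalClosure_eq_top {p : ℕ} (D : Split P p U) (hB : P.B = U) :
    Subgroup.normalClosure (U : Set G) = ⊤ := by
  refine D.eq_top_of_borel hB Subgroup.le_normalClosure fun s => ?_
  set N := Subgroup.normalClosure (U : Set G)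
  obtain ⟨⟨x, hx⟩, hx'⟩ := Subgroup.ne_bot_iff_exists_ne_one.1 (D.X_ne_bot s)
  set y := s.1 * x * s.1⁻¹ with hy
  have hyN : y ∈ N :=
    Subgroup.normalClosure_normal.conj_mem x (Subgroup.le_normalClosure (D.X_le s hx)) s.1
  have hyB : y ∉ P.B := fun h => by
    have : x ∈ D.Rw (BN.refl P s) ⊓ D.X s :=
      ⟨D.mem_Rw_refl.2 ⟨D.X_le s hx, D.conj_sq.2 (hB ▸ h)⟩, hx⟩
    rw [D.X_inf, Subgroup.mem_bot] at this
    exact hx' (Subtype.ext this)
  have hcell : y ∈ cw P (BN.refl P s) := by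
    have h1 : s.1 * x ∈ cw P (BN.refl P s) := mem_cw_right P (D.le (D.X_le s hx)) (s_mem_cw P s)
    have h3 : s.1⁻¹ ∈ cw P (BN.refl P s) := by
      have := inv_mem_cw P (s_mem_cw P s); rwa [refl_inv] at this
    rcases mul_cw_refl P h1 h3 with e | e
    · rw [refl_sq] at e; exact absurd ((mem_B_iff_cw_one P).2 e) hyB
    · exact e
  obtain ⟨u, hu, b, hb, e⟩ := (D.mem_cw_iff ⟨s.1, P.subset s.2⟩).1 hcell
  refine ⟨⟨s.1, P.subset s.2⟩, ?_, rfl⟩
  have := N.mul_mem (N.mul_mem (N.inv_mem (Subgroup.le_normalClosure hu)) hyN)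
    (N.inv_mem (Subgroup.le_normalClosure (hB ▸ hb : b ∈ U)))
  convert this using 1
  rw [e]
  group

variable (D : Split P 2 U) (hB : P.B = U) (K : Subgroup G) (hK : K.index = 2)
  (hinv : ∀ g : G, orderOf g = 2 → g ∈ K)
  (hq : ∀ s : P.S, (Nat.card {x : G ⧸ P.B // cell P x = BN.refl P s} + 1).Prime)
include D hB hK hinv hq

/-- A non-trivial `2`-subgroup meets `K`. -/
theorem exists_mem_inf {Q : Subgroup G} (hQU : Q ≤ U) (hQ : Q ≠ ⊥) :
    ∃ x ∈ Q, x ∈ K ∧ x ≠ 1 := by
  haveI : Fact (Nat.Prime 2) := ⟨Nat.prime_two⟩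
  obtain ⟨n, hn⟩ := IsPGroup.iff_card.1 (D.isP.to_le hQU)
  have hn0 : n ≠ 0 := fun h => hQ (Subgroup.eq_bot_of_card_eq Q (by rw [hn, h, pow_zero]))
  obtain ⟨x, hx⟩ := exists_prime_orderOf_dvd_card' (G := Q) 2 (hn ▸ dvd_pow_self 2 hn0)
  refine ⟨x, x.2, hinv _ (by rw [Subgroup.orderOf_coe, hx]), fun h => ?_⟩
  rw [← Subgroup.orderOf_coe, h, orderOf_one] at hx
  omega

/-- A subgroup containing `U ∩ K` and leaving `B` inside a minimal parabolic contains all of it. -/
theorem par_inf_le {M : Subgroup G} (hMK : M ≤ K) (hM : U ⊓ K ≤ M) {s : P.S} {y : G}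
    (hy : y ∈ M) (hys : y ∈ par P ({s} : Set P.S)) (hyB : y ∉ P.B) :
    par P ({s} : Set P.S) ⊓ K ≤ M := by
  haveI : Fact (Nat.Prime 2) := ⟨Nat.prime_two⟩
  set A := par P ({s} : Set P.S)
  set q := Nat.card {x : G ⧸ P.B // cell P x = BN.refl P s} + 1
  have hUA : U ≤ A := hB ▸ borel_le_par (P := P) _
  have hUK : ¬ U ≤ K := D.not_le_indexTwo hK
  obtain ⟨u, huU, huK⟩ := SetLike.not_le_iff_exists.1 hUK
  have key : ∀ V : Subgroup G, u ∈ V → Nat.card V = 2 * Nat.card (V ⊓ K : Subgroup G) := by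
    intro V huV
    have h1 : (K.subgroupOf V).index = 2 := by
      refine Subgroup.index_eq_two_iff.2 ⟨⟨u, huV⟩, fun b => ?_⟩
      have := (Subgroup.mul_mem_iff_of_index_two hK (a := (b : G)) (b := u))
      simp only [Subgroup.mem_subgroupOf, Subgroup.coe_mul, this, huK, iff_false]
      by_cases h : (b : G) ∈ K <;> simp [h]
    rw [← Subgroup.card_mul_index (K.subgroupOf V), h1, mul_comm,
      Nat.card_congr (Subgroup.equivMapOfInjective _ _ V.subtype_injective).toEquiv,
      Subgroup.subgroupOf_map_subtype, inf_comm]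
  have hU2 := key U huU
  have hA2 := key A (hUA huU)
  have hA : Nat.card A = Nat.card U * q := D.card_par_singleton hB s
  set H := M ⊓ A
  have hUH : U ⊓ K ≤ H := le_inf hM (inf_le_left.trans hUA)
  have hHA : H ≤ A ⊓ K := le_inf inf_le_right (inf_le_left.trans hMK)
  have hd1 : Nat.card (U ⊓ K : Subgroup G) ∣ Nat.card H := Subgroup.card_dvd_of_le hUH
  have hd2 : Nat.card H ∣ Nat.card (A ⊓ K : Subgroup G) := Subgroup.card_dvd_of_le hHA
  have hAK : Nat.card (A ⊓ K : Subgroup G) = Nat.card (U ⊓ K : Subgroup G) * q := by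
    have := hA2; rw [hA, hU2, mul_assoc] at this; omega
  obtain ⟨r, hr⟩ := hd1
  rw [hr, hAK] at hd2
  have hr2 : r ∣ q := (Nat.mul_dvd_mul_iff_left Nat.card_pos).1 hd2
  rcases (hq s).eq_one_or_self_of_dvd r hr2 with h | h
  · exfalso
    have he : (U ⊓ K : Subgroup G) = H := Subgroup.eq_of_le_of_card_ge hUH (by rw [hr, h, mul_one])
    have : y ∈ U ⊓ K := he.symm ▸ (⟨hy, hys⟩ : y ∈ H)
    exact hyB (hB.symm ▸ this.1)
  · have he : H = A ⊓ K := Subgroup.eq_of_le_of_card_ge hHA (by rw [hr, h, hAK])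
    exact he ▸ inf_le_left

/-- An element of `M` with a descent at `s` gives the minimal parabolic inside `M`. -/
theorem par_inf_le_of_descent {M : Subgroup G} (hMK : M ≤ K) (hM : U ⊓ K ≤ M) {n : P.N} {g : G}
    (hg : g ∈ M) (hgn : g ∈ cw P (QuotientGroup.mk n)) {s : P.S}
    (h : len P (BN.refl P s * QuotientGroup.mk n) < len P (QuotientGroup.mk n)) :
    par P ({s} : Set P.S) ⊓ K ≤ M := by
  haveI : Fact (Nat.Prime 2) := ⟨Nat.prime_two⟩
  haveI hKn : K.Normal := Subgroup.normal_of_index_eq_two hK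
  obtain ⟨u, hu, b, hb, rfl⟩ := (D.mem_cw_iff n).1 hgn
  obtain ⟨x, hx, hxK, hx1⟩ := exists_mem_inf D hB K hK hinv hq (D.X_le s) (D.X_ne_bot s)
  set sN : P.N := ⟨s.1, P.subset s.2⟩
  have hv : (QuotientGroup.mk (sN⁻¹ * n) : Weyl P) = BN.refl P s * QuotientGroup.mk n := by
    rw [QuotientGroup.mk_mul, QuotientGroup.mk_inv]
    exact congrArg (· * _) (refl_inv P s)
  have hxv : x ∈ D.Rw (BN.refl P s * QuotientGroup.mk n) :=
    D.X_le_Rw (by rwa [← mul_assoc, refl_sq, one_mul]) hx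
  have h2 : b⁻¹ * ((sN⁻¹ * n : P.N).1⁻¹ * x * (sN⁻¹ * n : P.N).1) * b ∈ U ⊓ K :=
    ⟨D.normal' hb ((D.mem_Rw hv).1 hxv).2, by
      simpa using hKn.conj_mem _ (hKn.conj_mem _ hxK (sN⁻¹ * n : P.N).1⁻¹) b⁻¹⟩
  set y := u * (s.1 * x * s.1⁻¹) * u⁻¹ with hy
  have hyM : y ∈ M := by
    have := M.mul_mem (M.mul_mem hg (hM h2)) (M.inv_mem hg)
    convert this using 1
    simp only [hy, sN, Subgroup.coe_mul, Subgroup.coe_inv]
    group
  have hs : s.1 ∈ par P ({s} : Set P.S) := simple_mem_par (P := P) rfl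
  have hU : U ≤ par P ({s} : Set P.S) := hB ▸ borel_le_par (P := P) _
  refine par_inf_le D hB K hK hinv hq hMK hM hyM
    (mul_mem (mul_mem (hU hu) (mul_mem (mul_mem hs (hU (D.X_le s hx))) (inv_mem hs)))
      (inv_mem (hU hu))) fun hyB => ?_
  have hyU : s.1 * x * s.1⁻¹ ∈ U := by
    rw [hB] at hyB
    have := mul_mem (mul_mem (inv_mem hu) hyB) hu
    convert this using 1
    simp only [hy]; group
  have : x ∈ D.Rw (BN.refl P s) ⊓ D.X s :=
    ⟨D.mem_Rw_refl.2 ⟨D.X_le s hx, D.conj_sq.2 hyU⟩, hx⟩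
  rw [D.X_inf, Subgroup.mem_bot] at this
  exact hx1 this

/-- Multiplying by the minimal parabolic inside `M` shortens an element. -/
theorem exists_shorter {s : P.S} {n : P.N} {g : G} (hgn : g ∈ cw P (QuotientGroup.mk n)) :
    ∃ z ∈ par P ({s} : Set P.S) ⊓ K, z * g ∈ cw P (BN.refl P s * QuotientGroup.mk n) := by
  obtain ⟨u, hu, b, hb, rfl⟩ := (D.mem_cw_iff n).1 hgn
  have hs : s.1 ∈ par P ({s} : Set P.S) := simple_mem_par (P := P) rfl
  have hU : U ≤ par P ({s} : Set P.S) := hB ▸ borel_le_par (P := P) _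
  set z₀ := s.1⁻¹ * u⁻¹ with hz₀
  have hz₀m : z₀ ∈ par P ({s} : Set P.S) := mul_mem (inv_mem hs) (inv_mem (hU hu))
  set sN : P.N := ⟨s.1, P.subset s.2⟩
  have hcell : z₀ * (u * n.1 * b) ∈ cw P (BN.refl P s * QuotientGroup.mk n) := by
    have h1 : (sN⁻¹ * n : P.N).1 ∈ cw P (QuotientGroup.mk (sN⁻¹ * n)) := by
      rw [cw_mk]; exact self_mem_cosetOf P _
    have h2 := mem_cw_right P hb h1
    have h3 : (QuotientGroup.mk (sN⁻¹ * n) : Weyl P) = BN.refl P s * QuotientGroup.mk n := by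
      rw [QuotientGroup.mk_mul, QuotientGroup.mk_inv]
      exact congrArg (· * _) (refl_inv P s)
    rw [h3] at h2
    convert h2 using 1
    simp only [hz₀, sN, Subgroup.coe_mul, Subgroup.coe_inv]
    group
  by_cases hzK : z₀ ∈ K
  · exact ⟨z₀, ⟨hz₀m, hzK⟩, hcell⟩
  obtain ⟨v, hv, hvK⟩ := SetLike.not_le_iff_exists.1 (D.not_le_indexTwo hK)
  refine ⟨v * z₀, ⟨mul_mem (hU hv) hz₀m, ?_⟩, ?_⟩
  · show v * z₀ ∈ K
    rw [Subgroup.mul_mem_iff_of_index_two hK]
    simp [hvK, hzK]
  · rw [mul_assoc]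
    exact mem_cw_left P (D.le hv) hcell

/-- A subgroup of `K` over `U ∩ K` lies in the parabolic of the reflections it meets. -/
theorem le_par_indexTwo {M : Subgroup G} (hMK : M ≤ K) (hM : U ⊓ K ≤ M) :
    M ≤ par P {t : P.S | par P ({t} : Set P.S) ⊓ K ≤ M} := by
  set J : Set P.S := {t | par P ({t} : Set P.S) ⊓ K ≤ M}
  have hbase : ∀ g ∈ K, ∀ n : P.N, g ∈ cw P (QuotientGroup.mk n) → len P (QuotientGroup.mk n) = 0 →
      g ∈ U ⊓ K := by
    intro g hg n hgn h0
    rw [eq_one_of_len P h0] at hgn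
    exact ⟨hB ▸ (mem_B_iff_cw_one P).2 hgn, hg⟩
  suffices h : ∀ (k : ℕ) (g : G) (n : P.N), g ∈ M → g ∈ cw P (QuotientGroup.mk n) →
      len P (QuotientGroup.mk n) ≤ k → g ∈ par P J by
    intro g hg
    obtain ⟨w, hw⟩ := exists_mem_cw P g
    obtain ⟨n, rfl⟩ := QuotientGroup.mk_surjective w
    exact h _ g n hg hw le_rfl
  intro k
  induction k with
  | zero =>
    exact fun g n hg hgn hk => borel_le_par (P := P) J
      (hB ▸ (hbase g (hMK hg) n hgn (Nat.le_zero.1 hk)).1)
  | succ k ih =>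
    intro g n hg hgn hk
    obtain ⟨L, hL, hlen⟩ := exists_reduced P (QuotientGroup.mk n)
    cases L with
    | nil => exact ih g n hg hgn (by rw [List.length_nil] at hlen; omega)
    | cons t L =>
      rw [wprod_cons] at hL
      rw [List.length_cons] at hlen
      have htl : BN.refl P t * QuotientGroup.mk n = wprod P L := by
        rw [← hL, ← mul_assoc, refl_sq, one_mul]
      have hlt : len P (BN.refl P t * QuotientGroup.mk n) < len P (QuotientGroup.mk n) := by
        rw [htl]; have := len_le P L; omega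
      have htJ : t ∈ J := par_inf_le_of_descent D hB K hK hinv hq hMK hM hg hgn hlt
      obtain ⟨z, hz, hzg⟩ := exists_shorter D hB K hK hinv hq (s := t) hgn
      obtain ⟨m, hm⟩ := QuotientGroup.mk_surjective (BN.refl P t * QuotientGroup.mk n)
      have hrec := ih (z * g) m (M.mul_mem (htJ hz) hg) (hm ▸ hzg) (by rw [hm]; omega)
      have hzJ : z ∈ par P J := par_mono (P := P) (Set.singleton_subset_iff.2 htJ) hz.1
      simpa using mul_mem (inv_mem hzJ) hrec

/-- A subgroup of `K` over `U ∩ K` with trivial `2`-core is `K`. -/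
theorem eq_of_indexTwo {M : Subgroup G} (hMK : M ≤ K) (hM : U ⊓ K ≤ M)
    (hcore : ∀ Q : Subgroup G, Q ≤ M → IsPGroup 2 Q → M ≤ Subgroup.normalizer (Q : Set G) → Q = ⊥) :
    M = K := by
  haveI hKn : K.Normal := Subgroup.normal_of_index_eq_two hK
  set J : Set P.S := {t | par P ({t} : Set P.S) ⊓ K ≤ M}
  have hbase : ∀ g ∈ K, ∀ n : P.N, g ∈ cw P (QuotientGroup.mk n) → len P (QuotientGroup.mk n) = 0 →
      g ∈ U ⊓ K := by
    intro g hg n hgn h0
    rw [eq_one_of_len P h0] at hgn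
    exact ⟨hB ▸ (mem_B_iff_cw_one P).2 hgn, hg⟩
  have hle : M ≤ par P J := D.le_par_indexTwo hB K hK hinv hq hMK hM
  have hall : ∀ t, t ∈ J := by
    by_contra hcon
    obtain ⟨t, ht⟩ := not_forall.1 hcon
    obtain ⟨x, hx, hxK, hx1⟩ :=
      exists_mem_inf D hB K hK hinv hq (D.Qr_le J) (D.Qr_ne_bot ht)
    have h0 := hcore (D.Qr J ⊓ K) ((inf_le_inf_right K (D.Qr_le J)).trans hM)
      (D.isP.to_le (inf_le_left.trans (D.Qr_le J))) fun m hm => by
        have hn := Subgroup.mem_normalizer_iff.1 (D.par_le_normalizer J (hle hm))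
        refine Subgroup.mem_normalizer_iff.2 fun y => ?_
        rw [Subgroup.mem_inf, Subgroup.mem_inf, ← hn y]
        exact and_congr_right fun _ =>
          ⟨fun h => hKn.conj_mem _ h _, fun h => by simpa [mul_assoc] using hKn.conj_mem _ h m⁻¹⟩
    exact hx1 (Subgroup.mem_bot.1 (h0 ▸ ⟨hx, hxK⟩ : x ∈ (⊥ : Subgroup G)))
  refine le_antisymm hMK ?_
  suffices h : ∀ (k : ℕ) (g : G) (n : P.N), g ∈ K → g ∈ cw P (QuotientGroup.mk n) →
      len P (QuotientGroup.mk n) ≤ k → g ∈ M by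
    intro g hg
    obtain ⟨w, hw⟩ := exists_mem_cw P g
    obtain ⟨n, rfl⟩ := QuotientGroup.mk_surjective w
    exact h _ g n hg hw le_rfl
  intro k
  induction k with
  | zero => exact fun g n hg hgn hk => hM (hbase g hg n hgn (Nat.le_zero.1 hk))
  | succ k ih =>
    intro g n hg hgn hk
    obtain ⟨L, hL, hlen⟩ := exists_reduced P (QuotientGroup.mk n)
    cases L with
    | nil => exact ih g n hg hgn (by rw [List.length_nil] at hlen; omega)
    | cons t L =>
      rw [wprod_cons] at hL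
      rw [List.length_cons] at hlen
      have htl : BN.refl P t * QuotientGroup.mk n = wprod P L := by
        rw [← hL, ← mul_assoc, refl_sq, one_mul]
      have hlt : len P (BN.refl P t * QuotientGroup.mk n) ≤ k := by
        rw [htl]; have := len_le P L; omega
      obtain ⟨z, hz, hzg⟩ := exists_shorter D hB K hK hinv hq (s := t) hgn
      obtain ⟨m, hm⟩ := QuotientGroup.mk_surjective (BN.refl P t * QuotientGroup.mk n)
      have hrec := ih (z * g) m (K.mul_mem hz.2 hg) (hm ▸ hzg) (by rwa [hm])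
      simpa using M.mul_mem (M.inv_mem (hall t hz)) hrec

omit hK in
/-- The conjugated form, allowing `K` to be everything. -/
theorem eq_top_indexTwo [K.Normal] (hK : K.index ≤ 2) (M : Subgroup K)
    (hcore : Cfsg.pCore 2 ↥M = ⊥) (hidx : ¬ 2 ∣ M.index) : M = ⊤ := by
  haveI : Fact (Nat.Prime 2) := ⟨Nat.prime_two⟩
  obtain ⟨S, hSU⟩ := D.sylow
  obtain ⟨T⟩ := (inferInstance : Nonempty (Sylow 2 M))
  set e₀ : M →* G := K.subtype.comp M.subtype
  have hinj₀ : Function.Injective e₀ := K.subtype_injective.comp M.subtype_injective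
  obtain ⟨V, hV⟩ := (IsPGroup.map T.isPGroup' e₀).exists_le_sylow
  obtain ⟨g, hg⟩ := MulAction.exists_smul_eq G V S
  set e : M →* G := (MulAut.conj g).toMonoidHom.comp e₀
  have hinj : Function.Injective e := (MulAut.conj g).injective.comp hinj₀
  have hMK : e.range ≤ K := by
    rintro _ ⟨m, rfl⟩
    exact Subgroup.Normal.conj_mem inferInstance _ m.1.2 g
  have hUM : U ⊓ K ≤ e.range := by
    have hle : (T : Subgroup M).map e ≤ U ⊓ K := by
      rintro _ ⟨t, ht, rfl⟩
      refine ⟨?_, hMK ⟨t, rfl⟩⟩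
      rw [← hSU, ← hg]
      show e t ∈ ((g • V : Sylow 2 G) : Subgroup G)
      rw [Sylow.coe_subgroup_smul, Subgroup.mem_smul_pointwise_iff_exists]
      exact ⟨e₀ t, hV ⟨t, ht, rfl⟩, rfl⟩
    have hge : Nat.card (U ⊓ K : Subgroup G) ≤ Nat.card ((T : Subgroup M).map e) := by
      obtain ⟨a, ha⟩ := IsPGroup.iff_card.1 (D.isP.to_le (inf_le_left : U ⊓ K ≤ U))
      rw [Nat.card_congr (Subgroup.equivMapOfInjective _ _ hinj).symm.toEquiv, T.card_eq_multiplicity,
        ha]
      refine Nat.pow_le_pow_right (by norm_num) ?_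
      have h1 : 2 ^ a ∣ Nat.card K := ha ▸ Subgroup.card_dvd_of_le inf_le_right
      rw [Nat.Prime.pow_dvd_iff_le_factorization Nat.prime_two Nat.card_pos.ne',
        ← Subgroup.card_mul_index M, Nat.factorization_mul Nat.card_pos.ne'
        Subgroup.index_ne_zero_of_finite, Finsupp.add_apply,
        Nat.factorization_eq_zero_of_not_dvd hidx, Nat.add_zero] at h1
      exact h1
    exact (Subgroup.eq_of_le_of_card_ge hle hge) ▸ Subgroup.map_le_range _ _
  have hall : ∀ Q : Subgroup G, Q ≤ e.range → IsPGroup 2 Q →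
      e.range ≤ Subgroup.normalizer (Q : Set G) → Q = ⊥ := by
    intro Q hQ hQp hQn
    have hn : (Q.comap e).Normal := by
      refine ⟨fun a ha m => ?_⟩
      rw [Subgroup.mem_comap, map_mul, map_mul, map_inv]
      exact (Subgroup.mem_normalizer_iff.1 (hQn ⟨m, rfl⟩) (e a)).1 ha
    have h0 : Q.comap e = ⊥ :=
      le_bot_iff.1 (hcore ▸ le_sSup (Set.mem_ofPred.2 ⟨hn, hQp.comap_of_injective e hinj⟩))
    rw [← Subgroup.map_comap_eq_self hQ, h0, Subgroup.map_bot]
  have htop : e.range = K := by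
    rcases Nat.lt_or_eq_of_le hK with h | h
    · have hKtop : K = ⊤ := Subgroup.index_eq_one.1
        (by have := K.index_ne_zero_of_finite; omega)
      subst hKtop
      rw [inf_top_eq] at hUM
      exact D.eq_top_of_borel hB hUM (D.overgroup_refl hUM hall)
    · exact D.eq_of_indexTwo hB K h hinv hq hMK hUM hall
  refine eq_top_iff.2 fun k _ => ?_
  obtain ⟨m, hm⟩ : g * (k : G) * g⁻¹ ∈ e.range :=
    htop.symm ▸ Subgroup.Normal.conj_mem inferInstance _ k.2 g
  have : (m : K) = k := Subtype.ext ((MulAut.conj g).injective hm)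
  exact this ▸ m.2

end Split

end CfsgLib.SplitBN
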