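import Cfsg.Prelude.Def_Solvable
import Cfsg.Agent.SplitBN.Chev
import Cfsg.Agent.SplitBN.IndexTwo
import Cfsg.Agent.Chev.TwistedF4Two
import Cfsg.Agent.Chev.TwistedOut

/-!
# Overgroups of a Sylow `2`-subgroup in the Tits group
-/

set_option autoImplicit false
set_option linter.style.haveILetI false
set_option linter.unusedSectionVars false

namespace CfsgLib.SplitBN

open Cfsg.Lie CfsgLib.Chev CfsgLib.Chev.Tab CfsgLib.BN CfsgLib.StCh Matrix
open scoped MatrixGroups

attribute [local instance] torus_normal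

theorem pCore_eq_bot_of_equiv {p : ℕ} {A B : Type*} [Group A] [Group B] (e : A ≃* B)
    (h : Cfsg.pCore p A = ⊥) : Cfsg.pCore p B = ⊥ := by
  refine sSup_eq_bot.2 fun V hV => ?_
  obtain ⟨hn, hp⟩ := hV
  have h1 : V.comap e.toMonoidHom ≤ Cfsg.pCore p A :=
    le_sSup (Set.mem_ofPred.2 ⟨hn.comap _, hp.comap_of_injective _ e.injective⟩)
  rw [h, le_bot_iff] at h1
  rw [← Subgroup.map_comap_eq_self_of_surjective (f := e.toMonoidHom) e.surjective V, h1, Subgroup.map_bot]

/-- The Borel subgroup of `²F₄(2)` is a `2`-group. -/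
theorem tits_borel (C : F4Tw.Ctx (ZMod 2) 0) :
    (C.Z.bnPair C.xNontrivial).B = C.Z.U1.subgroupOf C.Z.G1 := by
  haveI : Fact (Nat.Prime 2) := ⟨Nat.prime_two⟩
  have hG : Nat.card C.Z.G1 = 2 ^ 12 * 8775 := by rw [C.card_group]; norm_num
  haveI : Finite C.Z.G1 := Nat.finite_of_card_ne_zero (by omega)
  have hS := C.Z.exists_sylow_of_card (p := 2) (a := 12) (m := 8775)
    (by rw [C.card_U1]; norm_num) hG (by norm_num)
  have D := C.Z.split 2 C.xNontrivial hS
  have hT : C.Z.H0 = ⊥ := Subgroup.eq_bot_of_card_eq _ (by rw [C.card_torus]; norm_num)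
  refine le_antisymm (fun b hb => ?_) D.le
  obtain ⟨u, hu, h, hh, e⟩ := C.Z.mem_B1 b.2 (C.Z.mem_B1'.mp hb)
  rw [hT, Subgroup.mem_bot] at hh
  rw [Subgroup.mem_subgroupOf, e, hh, mul_one]
  exact hu

/-- The derived group of `²F₄(2)` has index at most two. -/
theorem tits_index_le (C : F4Tw.Ctx (ZMod 2) 0) : (commutator C.Z.G1).index ≤ 2 := by
  haveI : Fact (Nat.Prime 2) := ⟨Nat.prime_two⟩
  have hG : Nat.card C.Z.G1 = 2 ^ 12 * 8775 := by rw [C.card_group]; norm_num
  haveI : Finite C.Z.G1 := Nat.finite_of_card_ne_zero (by omega)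
  have hS := C.Z.exists_sylow_of_card (p := 2) (a := 12) (m := 8775)
    (by rw [C.card_U1]; norm_num) hG (by norm_num)
  have D := C.Z.split 2 C.xNontrivial hS
  have hB := tits_borel C
  show (commutator C.grp).index ≤ 2
  have hnc : Subgroup.normalClosure ((C.Z.U1.subgroupOf C.grp : Subgroup C.grp) : Set C.grp) = ⊤ :=
    D.normalClosure_eq_top hB
  set t := Abelianization.of (F4Two.gG C 2)
  have himg : ∀ u : C.grp, u ∈ C.Z.U1.subgroupOf C.grp →
      Abelianization.of u = 1 ∨ Abelianization.of u = t := by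
    intro u hu
    obtain ⟨a, -, e⟩ := F4Two.exists_elt C (g := u) (Subgroup.mem_subgroupOf.mp hu)
    rw [← e, F4Two.ab_elt]
    split_ifs
    · exact Or.inr rfl
    · exact Or.inl rfl
  have hall : ∀ g : C.grp, Abelianization.of g ∈ Subgroup.zpowers t := by
    intro g
    have h : Subgroup.normalClosure ((C.Z.U1.subgroupOf C.grp : Subgroup C.grp) : Set C.grp) ≤
        (Subgroup.zpowers t).comap Abelianization.of := by
      haveI : (Subgroup.zpowers t).Normal := inferInstance
      refine Subgroup.normalClosure_le_normal fun u hu => ?_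
      rcases himg u hu with e | e <;> rw [SetLike.mem_coe, Subgroup.mem_comap, e]
      · exact one_mem _
      · exact Subgroup.mem_zpowers t
    exact h (hnc ▸ Subgroup.mem_top g)
  have ht : t ^ 2 = 1 := by
    rw [pow_two]
    have h := F4Two.gG_rel C (L := [2, 2]) (L' := [3]) (by decide)
    simp only [List.map_cons, List.map_nil, List.prod_cons, List.prod_nil, mul_one] at h
    rw [h, F4Two.ab_values C 3]
    rfl
  rw [← Abelianization.ker_of, Subgroup.index_ker,
    show (Abelianization.of (G := C.grp)).range = Subgroup.zpowers t from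
      le_antisymm (by rintro _ ⟨g, rfl⟩; exact hall g)
        (Subgroup.zpowers_le.2 ⟨_, rfl⟩), Nat.card_zpowers]
  exact orderOf_le_of_pow_eq_one two_pos ht

theorem tits_eq_top_of_ctx (C : F4Tw.Ctx (ZMod 2) 0) (M : Subgroup (commutator C.Z.G1))
    (hcore : Cfsg.pCore 2 ↥M = ⊥) (hidx : ¬ 2 ∣ M.index) : M = ⊤ := by
  haveI : Fact (Nat.Prime 2) := ⟨Nat.prime_two⟩
  have hG : Nat.card C.Z.G1 = 2 ^ 12 * 8775 := by rw [C.card_group]; norm_num
  haveI : Finite C.Z.G1 := Nat.finite_of_card_ne_zero (by omega)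
  have hS := C.Z.exists_sylow_of_card (p := 2) (a := 12) (m := 8775)
    (by rw [C.card_U1]; norm_num) hG (by norm_num)
  have D := C.Z.split 2 C.xNontrivial hS
  have hB := tits_borel C
  have hinv : ∀ g : C.Z.G1, orderOf g = 2 → g ∈ commutator C.Z.G1 :=
    fun g hg => F4Two.involution_mem C g hg
  have hK : (commutator C.Z.G1).index ≤ 2 := tits_index_le C
  -- the minimal parabolics have three or five Borel cosets
  have hq : ∀ s : (C.Z.bnPair C.xNontrivial).S,
      (Nat.card {x : C.Z.G1 ⧸ (C.Z.bnPair C.xNontrivial).B //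
        cell (C.Z.bnPair C.xNontrivial) x = BN.refl _ s} + 1).Prime := by
    intro s
    obtain ⟨J, hJ⟩ := s.2
    set U := C.Z.U1.subgroupOf C.Z.G1
    set R := D.Rw (BN.refl _ s)
    have hcell := D.card_cell (BN.refl _ s)
    have h2 := Split.two_le_cell D s
    have hle : (R.subgroupOf U).index ≤ Nat.card (C.Z.XJ J) := by
      haveI : Finite (C.Z.XJ J) :=
        Nat.finite_of_card_ne_zero (by rw [C.card_X J]; positivity)
      obtain ⟨K, hKJ⟩ := C.Z.keep_w J
      let f : C.Z.XJ J → U ⧸ R.subgroupOf U := fun b => QuotientGroup.mk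
        (⟨⟨b.1, C.Z.U1_le (C.Z.XJ_le_U1 J b.2)⟩, Subgroup.mem_subgroupOf.2 (C.Z.XJ_le_U1 J b.2)⟩ : U)
      refine Nat.card_le_card_of_surjective f fun c => ?_
      induction c using QuotientGroup.induction_on with
      | H u =>
        have hu := Subgroup.mem_subgroupOf.1 u.2
        have hu' := hu.2
        rw [good_F4.posUnipotent_eq] at hu'
        obtain ⟨a, ha, b, hb, e⟩ :=
          C.Z.split_fix J good_F4.closed_pos (inv_mem hu.1) (inv_mem hu') fun r ⟨_, h, _⟩ => h
        refine ⟨⟨b⁻¹, inv_mem hb⟩, QuotientGroup.eq.2 (Subgroup.mem_subgroupOf.2 ?_)⟩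
        have hau : a ∈ C.Z.U1 := ⟨ha.1, by
          rw [good_F4.posUnipotent_eq]; exact good_F4.US_mono (fun r hr => hr.1) ha.2⟩
        have hval : ((u : C.Z.G1) : GL chevF4.Idx (ZMod 2)) = b⁻¹ * a⁻¹ := by
          rw [← inv_inv ((u : C.Z.G1) : GL chevF4.Idx (ZMod 2)), e, _root_.mul_inv_rev]
        have ha' : (⟨a⁻¹, C.Z.U1_le (inv_mem hau)⟩ : C.Z.G1) ∈ R := by
          refine D.mem_Rw_refl.2 ⟨Subgroup.mem_subgroupOf.2 (inv_mem hau), ?_⟩
          rw [Subgroup.mem_subgroupOf]
          simp only [Subgroup.coe_mul, Subgroup.coe_inv, hJ]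
          have hk : a⁻¹ ∈ good_F4.US (ZMod 2) (keepSet (C.Z.w J)) :=
            inv_mem (good_F4.US_mono (fun r hr => hr.2) ha.2)
          have := good_F4.conj_x_act (C.Z.rootAct_n_inv J) (S' := {r | IsPos chevF4 r})
            (fun r hr => by obtain ⟨h, -, h2⟩ := hr; exact ⟨h, h2⟩) hk
          rw [inv_inv, ← good_F4.posUnipotent_eq] at this
          exact Subgroup.mem_inf.2
            ⟨mul_mem (mul_mem (inv_mem (C.Z.n_fix J)) (inv_mem ha.1)) (C.Z.n_fix J), this⟩
        convert ha' using 1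
        refine Subtype.ext ?_
        simp only [Subgroup.coe_mul, Subgroup.coe_inv, inv_inv, hval, mul_inv_cancel_left]
    have hk : Nat.card (C.Z.XJ J) ≤ 4 := by
      rw [C.card_X J]
      have h : ∀ j : Fin 2, (2 ^ (2 * 0 + 1)) ^ F4Tw.kJ j ≤ 4 := by decide
      exact h J
    have hidx : (R.subgroupOf U).index =
        Nat.card {x : C.Z.G1 ⧸ (C.Z.bnPair C.xNontrivial).B //
          cell (C.Z.bnPair C.xNontrivial) x = BN.refl _ s} := by
      have h := Subgroup.card_mul_index (R.subgroupOf U)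
      rw [Nat.card_congr (Subgroup.subgroupOfEquivOfLe (D.Rw_le _)).toEquiv, ← hcell, mul_comm] at h
      exact Nat.eq_of_mul_eq_mul_right Nat.card_pos h
    obtain ⟨a, ha⟩ := IsPGroup.iff_card.1 D.isP
    obtain ⟨i, -, hi⟩ := (Nat.dvd_prime_pow Nat.prime_two).1
      (ha ▸ (R.subgroupOf U).index_dvd_card)
    rw [← hidx, hi]
    rw [← hidx, hi] at h2
    have h4 : 2 ^ i ≤ 2 ^ 2 := hi ▸ (hle.trans hk)
    have h5 := (Nat.pow_le_pow_iff_right (by norm_num : 1 < 2)).1 h4
    interval_cases i <;> first | (norm_num at h2; done) | norm_num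
  exact D.eq_top_indexTwo hB _ hinv hq hK M hcore hidx

/-- Overgroups of a Sylow `2`-subgroup of the Tits group with trivial `2`-core are everything. -/
theorem tits_eq_top {X : Type*} [Group X] (h : IsoTits X) (M : Subgroup X)
    (hcore : Cfsg.pCore 2 ↥M = ⊥) (hidx : ¬ 2 ∣ M.index) : M = ⊤ := by
  obtain ⟨C⟩ := F4Tw.exists_ctx (K := ZMod 2) (m := 0) (ZMod.card 2)
  have key : ∀ (e : ℕ), e = 2 ^ 0 → ∀ M : Subgroup (commutator ↥(twistedF4 (ZMod 2) e)),
      Cfsg.pCore 2 ↥M = ⊥ → ¬ 2 ∣ M.index → M = ⊤ := by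
    rintro e rfl M hcore hidx
    exact tits_eq_top_of_ctx C M hcore hidx
  obtain ⟨f⟩ := h
  have hb : Function.Bijective f.toMonoidHom := f.bijective
  have h1 : ¬ 2 ∣ (M.map f.toMonoidHom).index := by
    rw [Subgroup.index_map_of_bijective hb]; exact hidx
  have h2 : Cfsg.pCore 2 ↥(M.map f.toMonoidHom) = ⊥ :=
    pCore_eq_bot_of_equiv (M.equivMapOfInjective f.toMonoidHom hb.injective) hcore
  have h3 : M.map f.toMonoidHom = ⊤ := key 1 (pow_zero 2).symm (M.map f.toMonoidHom) h2 h1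
  exact Subgroup.map_injective hb.injective
    (h3.trans (Subgroup.map_top_of_surjective _ hb.surjective).symm)

end CfsgLib.SplitBN
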