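import Cfsg.Agent.SplitBN.Tits
import Cfsg.Agent.Chev.TitsParity
import Cfsg.Agent.BN.NormalSup
import Mathlib.GroupTheory.Transfer

/-!
The Tits group: index two in `²F₄(2)` and simplicity.

The parity on a Sylow 2-subgroup is invariant under fusion, so its transfer is nontrivial.
-/

set_option autoImplicit false
set_option linter.style.haveILetI false
set_option linter.unusedSectionVars false

namespace CfsgLib.SplitBN

open Cfsg.Lie CfsgLib.Chev CfsgLib.Chev.Tab CfsgLib.BN CfsgLib.StCh Matrix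
open scoped MatrixGroups

attribute [local instance] torus_normal

section General

variable {G : Type*} [Group G] [Finite G] {P : Cfsg.BNPair G} {p : ℕ} {U : Subgroup G}

/-- A function on `U` invariant under the simple reflections is invariant under fusion. -/
theorem Split.fusion_invariant (D : Split P p U) (hB : P.B = U) {A : Type*} [CommGroup A] (φ : U →* A)
    (hs : ∀ (s : P.S) (x : U) (h : s.1 * (x : G) * s.1⁻¹ ∈ U), φ ⟨_, h⟩ = φ x)
    (g : G) (x : U) (h : g⁻¹ * (x : G) * g ∈ U) : φ ⟨_, h⟩ = φ x := by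
  have htor : ∀ n : P.N, (QuotientGroup.mk n : Weyl P) = 1 → n.1 = 1 := by
    intro n hn
    have hnB : n.1 ∈ P.B ⊓ P.N := Subgroup.mem_subgroupOf.1 ((QuotientGroup.eq_one_iff n).1 hn)
    obtain ⟨m, hm⟩ := QuotientGroup.mk_surjective (w0 P)
    have hmem : n.1 ∈ D.Rw (w0 P) := by
      refine (D.mem_Rw hm).2 ⟨hB ▸ hnB.1, ?_⟩
      have := P.conj_mem (m : G)⁻¹ (P.N.inv_mem m.2) n.1 hnB
      rw [inv_inv] at this
      exact hB ▸ this
    rwa [D.Rw_w0, Subgroup.mem_bot] at hmem
  have hsq : ∀ s : P.S, s.1⁻¹ = s.1 := fun s => by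
    refine inv_eq_of_mul_eq_one_right (htor (⟨s.1, P.subset s.2⟩ * ⟨s.1, P.subset s.2⟩) ?_)
    rw [QuotientGroup.mk_mul]
    exact refl_sq P s
  have key : ∀ (k : ℕ) (n : P.N), len P (QuotientGroup.mk n) ≤ k → ∀ (y : U)
      (h : n.1⁻¹ * (y : G) * n.1 ∈ U), φ ⟨_, h⟩ = φ y := by
    intro k
    induction k with
    | zero =>
      intro n hn y h
      refine congrArg φ (Subtype.ext ?_)
      simp [htor n (eq_one_of_len P (Nat.le_zero.1 hn))]
    | succ k ih =>
      intro n hn y h
      obtain ⟨L, hL, hlen⟩ := exists_reduced P (QuotientGroup.mk n)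
      cases L with
      | nil => exact ih n (by rw [List.length_nil] at hlen; omega) y h
      | cons s L =>
        set sN : P.N := ⟨s.1, P.subset s.2⟩
        set m : P.N := sN⁻¹ * n with hm
        have hmk : (QuotientGroup.mk m : Weyl P) = wprod P L := by
          rw [hm, QuotientGroup.mk_mul, QuotientGroup.mk_inv, ← hL, wprod_cons, ← mul_assoc]
          show (BN.refl P s)⁻¹ * BN.refl P s * _ = _
          rw [inv_mul_cancel, one_mul]
        rw [List.length_cons] at hlen
        have hlm : len P (QuotientGroup.mk m) ≤ k := by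
          rw [hmk]; exact (len_le P L).trans (by omega)
        have hle : D.Rw (QuotientGroup.mk n) ≤ D.Rw (BN.refl P s) := by
          refine D.Rw_le_prefix ?_
          have h1 : (BN.refl P s)⁻¹ * QuotientGroup.mk n = wprod P L := by
            rw [← hL, wprod_cons, inv_mul_cancel_left]
          have h2 := len_refl_mul_le P s (wprod P L)
          rw [← wprod_cons, hL] at h2
          have h3 := len_le P L
          rw [h1, len_refl]
          omega
        have hy : (y : G) ∈ D.Rw (BN.refl P s) := hle ((D.mem_Rw rfl).2 ⟨y.2, h⟩)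
        have hy' : s.1 * (y : G) * s.1⁻¹ ∈ U := D.conj_sq.1 (D.mem_Rw_refl.1 hy).2
        have e0 : s.1⁻¹ * (y : G) * s.1 = s.1 * (y : G) * s.1⁻¹ := by rw [hsq s]
        have e : m.1⁻¹ * (s.1 * (y : G) * s.1⁻¹) * m.1 = n.1⁻¹ * (y : G) * n.1 := by
          rw [← e0, show m.1 = s.1⁻¹ * n.1 from rfl]
          group
        rw [← hs s y hy', ← ih m hlm ⟨_, hy'⟩ (e.symm ▸ h)]
        exact congrArg φ (Subtype.ext e.symm)
  obtain ⟨n, hn, hgn⟩ := BN.bruhat P g
  obtain ⟨u, hu, b, hb, rfl⟩ := (D.mem_cw_iff ⟨n, hn⟩).1 hgn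
  have hbU : b ∈ U := hB ▸ hb
  have h1 : n⁻¹ * (u⁻¹ * (x : G) * u) * n ∈ U := by
    have := mul_mem (mul_mem hbU h) (inv_mem hbU)
    convert this using 1
    group
  have := key _ ⟨n, hn⟩ le_rfl (⟨u, hu⟩⁻¹ * x * ⟨u, hu⟩) h1
  rw [map_mul, map_mul, map_inv, mul_comm (φ ⟨u, hu⟩)⁻¹, inv_mul_cancel_right] at this
  rw [← this]
  have e : (⟨_, h⟩ : U) = ⟨b, hbU⟩⁻¹ * ⟨_, h1⟩ * ⟨b, hbU⟩ := Subtype.ext (by
    simp only [Subgroup.coe_mul, Subgroup.coe_inv]; group)
  rw [e, map_mul, map_mul, map_inv, mul_comm (φ ⟨b, hbU⟩)⁻¹, inv_mul_cancel_right]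
  rfl

end General

/-- The transfer of a fusion-invariant map to a group of exponent two from a subgroup of odd index
extends it. -/
theorem transfer_extends {G : Type*} [Group G] [Finite G] (H : Subgroup G) (hodd : Odd H.index)
    {A : Type*} [CommGroup A] (hA : ∀ a : A, a ^ 2 = 1) (φ : H →* A)
    (hinv : ∀ (g : G) (x : H) (h : g⁻¹ * (x : G) * g ∈ H), φ ⟨_, h⟩ = φ x) (x : H) :
    MonoidHom.transfer φ (x : G) = φ x := by
  classical
  haveI : Fintype (Quotient (MulAction.orbitRel (Subgroup.zpowers (x : G)) (G ⧸ H))) :=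
    Fintype.ofFinite _
  letI : Fintype (G ⧸ H) := Fintype.ofFinite _
  rw [MonoidHom.transfer_eq_prod_quotient_orbitRel_zpowers_quot]
  have hterm : ∀ q : Quotient (MulAction.orbitRel (Subgroup.zpowers (x : G)) (G ⧸ H)),
      φ ⟨q.out.out⁻¹ * (x : G) ^ Function.minimalPeriod ((x : G) • ·) q.out * q.out.out,
        QuotientGroup.out_conj_pow_minimalPeriod_mem H (x : G) q.out⟩ =
      φ x ^ Function.minimalPeriod ((x : G) • ·) q.out := fun q => by
    rw [← map_pow]
    exact hinv q.out.out (x ^ Function.minimalPeriod ((x : G) • ·) q.out) _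
  rw [Finset.prod_congr rfl fun q _ => hterm q, Finset.prod_pow_eq_pow_sum]
  have hsum : ∑ q : Quotient (MulAction.orbitRel (Subgroup.zpowers (x : G)) (G ⧸ H)),
      Function.minimalPeriod ((x : G) • ·) q.out = H.index := by
    rw [Subgroup.index, Nat.card_congr (Subgroup.quotientEquivSigmaZMod H (x : G)), Nat.card_sigma]
    exact Finset.sum_congr rfl fun q _ => (Nat.card_zmod _).symm
  obtain ⟨r, hr⟩ := hodd
  rw [hsum, hr, pow_succ, pow_mul, hA, one_pow, one_mul]

theorem sq_mult_two : ∀ a : Multiplicative (ZMod 2), a ^ 2 = 1 := by decide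

theorem one_ne_mult_two : (1 : Multiplicative (ZMod 2)) ≠ Multiplicative.ofAdd 1 := by decide

/-- A subgroup of index two inside every nontrivial normal subgroup is simple unless its order is a
square. -/
theorem isSimple_of_index_two {G : Type*} [Group G] [Finite G] {K : Subgroup G} (hidx : K.index = 2)
    (hle : ∀ N : Subgroup G, N.Normal → N ≠ ⊥ → K ≤ N) [Nontrivial K]
    (hsq : ∀ n : ℕ, n * n ≠ Nat.card K) : IsSimpleGroup K := by
  haveI : K.Normal := Subgroup.normal_of_index_eq_two hidx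
  obtain ⟨u, -, huK⟩ := SetLike.not_le_iff_exists.1 (fun h : (⊤ : Subgroup G) ≤ K => by
    have := Subgroup.index_eq_one.2 (top_le_iff.1 h)
    omega)
  refine ⟨fun M hM => ?_⟩
  by_contra hcon
  push Not at hcon
  obtain ⟨hne, hne'⟩ := hcon
  set c : MulAut K := MulAut.conjNormal u
  set M' := M.map c.toMonoidHom
  haveI : M'.Normal := hM.map _ c.surjective
  have hcc : ∀ k : K, c (c k) ∈ M ↔ k ∈ M := fun k => by
    have hu2 : u * u ∈ K := (Subgroup.mul_mem_iff_of_index_two (hidx)).2 Iff.rfl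
    have e : c (c k) = ⟨u * u, hu2⟩ * k * (⟨u * u, hu2⟩ : K)⁻¹ := Subtype.ext (by
      simp only [c, MulAut.conjNormal_apply, Subgroup.coe_mul, Subgroup.coe_inv]
      group)
    rw [e]
    exact ⟨fun h => by simpa [mul_assoc] using hM.conj_mem _ h (⟨u * u, hu2⟩ : K)⁻¹,
      fun h => hM.conj_mem k h _⟩
  have hswap : M'.map c.toMonoidHom = M := by
    ext k
    constructor
    · rintro ⟨_, ⟨m, hm, rfl⟩, rfl⟩
      exact (hcc m).2 hm
    · intro hk
      refine ⟨c.symm k, ⟨c.symm (c.symm k), (hcc _).1 ?_, c.apply_symm_apply _⟩, c.apply_symm_apply k⟩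
      rw [c.apply_symm_apply, c.apply_symm_apply]; exact hk
  have hnormal : ∀ H : Subgroup K, H.Normal → H.map c.toMonoidHom = H → (H.map K.subtype).Normal := by
    intro H hH hc
    refine ⟨fun h hh g => ?_⟩
    obtain ⟨y, hy, rfl⟩ := hh
    have hcy : c y ∈ H := (SetLike.ext_iff.1 hc (c y)).1 ⟨y, hy, rfl⟩
    by_cases hg : g ∈ K
    · exact ⟨⟨g, hg⟩ * y * ⟨g, hg⟩⁻¹, hH.conj_mem y hy _, rfl⟩
    · have hgu : g * u⁻¹ ∈ K := by
        refine (Subgroup.mul_mem_iff_of_index_two (hidx)).2 ?_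
        rw [inv_mem_iff]
        exact iff_of_false hg huK
      refine ⟨⟨_, hgu⟩ * c y * ⟨_, hgu⟩⁻¹, hH.conj_mem _ hcy _, ?_⟩
      simp only [c, Subgroup.coe_subtype, Subgroup.coe_mul, Subgroup.coe_inv, MulAut.conjNormal_apply]
      group
  have hall : ∀ H : Subgroup K, H.Normal → H.map c.toMonoidHom = H → H ≠ ⊥ → H = ⊤ := by
    intro H hH hc hne
    haveI := hnormal H hH hc
    have h1 := hle (H.map K.subtype) inferInstance (by
      rwa [Ne, Subgroup.map_eq_bot_iff_of_injective _ K.subtype_injective])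
    exact eq_top_iff.2 fun k _ => by
      obtain ⟨y, hy, e⟩ := h1 k.2
      exact Subtype.ext e ▸ hy
  have hinf : M ⊓ M' = ⊥ := by
    by_contra h
    refine hne' (top_le_iff.1 ((hall (M ⊓ M') inferInstance ?_ h).ge.trans inf_le_left))
    rw [Subgroup.map_inf _ _ (f := c.toMonoidHom) c.injective, hswap, inf_comm]
  have hsup : M ⊔ M' = ⊤ := by
    refine hall _ inferInstance ?_ (fun h => hne (le_bot_iff.1 (h ▸ le_sup_left)))
    rw [Subgroup.map_sup, hswap, sup_comm]
  have h2 := (Subgroup.isComplement'_of_disjoint_and_mul_eq_univ (disjoint_iff.2 hinf)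
    (by rw [← Subgroup.mul_normal, hsup]; rfl)).card_mul_card
  rw [Nat.card_congr (Subgroup.equivMapOfInjective M c.toMonoidHom c.injective).symm.toEquiv] at h2
  exact hsq _ h2

section Tits

variable (C : F4Tw.Ctx (ZMod 2) 0)

theorem tits_card_G1 : Nat.card C.Z.G1 = 2 ^ 12 * 8775 := by rw [C.card_group]; norm_num

/-- The parity as a homomorphism. -/
noncomputable def parHom : (C.Z.U1.subgroupOf C.Z.G1 : Subgroup C.Z.G1) →* Multiplicative (ZMod 2) :=
  MonoidHom.mk' (fun u => Multiplicative.ofAdd (Collect.fval (F4Two.par C (u : C.Z.G1).1)))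
    fun u v => by
      simp only [Subgroup.coe_mul, F4Two.par_mul C (Subgroup.mem_subgroupOf.1 u.2)
        (Subgroup.mem_subgroupOf.1 v.2), Collect.fval_xor, ofAdd_add]

theorem tits_index : (commutator C.Z.G1).index = 2 := by
  haveI : Fact (Nat.Prime 2) := ⟨Nat.prime_two⟩
  have hG := tits_card_G1 C
  haveI : Finite C.Z.G1 := Nat.finite_of_card_ne_zero (by omega)
  have hS := C.Z.exists_sylow_of_card (p := 2) (a := 12) (m := 8775)
    (by rw [C.card_U1]; norm_num) hG (by norm_num)
  have D := C.Z.split 2 C.xNontrivial hS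
  set U := C.Z.U1.subgroupOf C.Z.G1
  have hinv := D.fusion_invariant (tits_borel C) (parHom C) fun s x h => by
    obtain ⟨J, hJ⟩ := s.2
    show Multiplicative.ofAdd (Collect.fval _) = Multiplicative.ofAdd (Collect.fval _)
    refine congrArg _ (congrArg Collect.fval ?_)
    have h' := Subgroup.mem_subgroupOf.1 h
    simp only [Subgroup.coe_mul, Subgroup.coe_inv, hJ] at h' ⊢
    exact F4Two.par_conj C J (Subgroup.mem_subgroupOf.1 x.2) h'
  obtain ⟨S, hS'⟩ := hS
  have hodd : Odd U.index := by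
    rw [Nat.odd_iff, ← Nat.two_dvd_ne_zero]
    exact hS' ▸ S.not_dvd_index
  have hne : commutator C.Z.G1 ≠ ⊤ := fun htop => by
    let u : U := ⟨F4Two.elt C 4, Subgroup.mem_subgroupOf.2 (F4Two.elt_mem_U1 C 4)⟩
    have h1 := transfer_extends U hodd (A := Multiplicative (ZMod 2)) sq_mult_two (parHom C) hinv u
    have h2 : MonoidHom.transfer (parHom C) (u : C.Z.G1) = 1 :=
      Abelianization.commutator_subset_ker _ (htop ▸ Subgroup.mem_top _)
    rw [h2] at h1
    have h3 : F4Two.par C (u : C.Z.G1).1 = true :=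
      (F4Two.par_elt C (a := 4) (by norm_num)).trans (by decide)
    have h4 : (parHom C) u = Multiplicative.ofAdd (1 : ZMod 2) := by
      show Multiplicative.ofAdd (Collect.fval (F4Two.par C (u : C.Z.G1).1)) = _
      rw [h3]; rfl
    rw [h4] at h1
    exact one_ne_mult_two h1
  have h1 := tits_index_le C
  have h0 : (commutator C.Z.G1).index ≠ 0 := Subgroup.index_ne_zero_of_finite
  have h2 : (commutator C.Z.G1).index ≠ 1 := fun e => hne (Subgroup.index_eq_one.1 e)
  omega

theorem tits_card : Nat.card (commutator C.Z.G1) = 2 ^ 11 * 8775 := by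
  have h := (commutator C.Z.G1).card_mul_index
  rw [tits_index C, tits_card_G1 C] at h
  norm_num at h ⊢
  omega

/-- A nontrivial normal subgroup of `²F₄(2)` contains the Tits group. -/
theorem tits_le_normal (N : Subgroup C.Z.G1) [hN : N.Normal] (hne : N ≠ ⊥) :
    commutator C.Z.G1 ≤ N := by
  haveI : Fact (Nat.Prime 2) := ⟨Nat.prime_two⟩
  haveI : Finite C.Z.G1 := Nat.finite_of_card_ne_zero (by rw [tits_card_G1 C]; norm_num)
  have hS := C.Z.exists_sylow_of_card (p := 2) (a := 12) (m := 8775)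
    (by rw [C.card_U1]; norm_num) (tits_card_G1 C) (by norm_num)
  have D := C.Z.split 2 C.xNontrivial hS
  set P := C.Z.bnPair C.xNontrivial
  have hsup : P.B ⊔ N = ⊤ := by
    refine (le_borel_or_sup_eq_top P (C.Z.irreducible C.xNontrivial C.connected) N).resolve_left
      fun h => hne ?_
    rw [eq_bot_iff, ← C.Z.normalCore_B1 C.faithful]
    exact Subgroup.normal_le_normalCore.mpr h
  set π := QuotientGroup.mk' N
  have hπ : Function.Surjective π := QuotientGroup.mk'_surjective N
  haveI : Group.IsNilpotent (C.Z.G1 ⧸ N) := by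
    have hB : IsPGroup 2 P.B := tits_borel C ▸ D.isP
    refine IsPGroup.isNilpotent (p := 2) ((hB.of_surjective (π.comp P.B.subtype) fun y => ?_))
    obtain ⟨g, rfl⟩ := hπ y
    obtain ⟨b, hb, k, hk, rfl⟩ := Subgroup.mem_sup_of_normal_right.mp (hsup ▸ Subgroup.mem_top g)
    exact ⟨⟨b, hb⟩, by
      show π b = π (b * k)
      rw [map_mul, show π k = 1 from (QuotientGroup.eq_one_iff k).2 hk, mul_one]⟩
  set K := commutator C.Z.G1
  obtain ⟨u, -, huK⟩ := SetLike.not_le_iff_exists.1 (fun h : (⊤ : Subgroup C.Z.G1) ≤ K => by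
    have := Subgroup.index_eq_one.2 (top_le_iff.1 h)
    rw [tits_index C] at this
    omega)
  have hgen : ∀ g, g ∈ K ∨ g * u⁻¹ ∈ K := fun g => by
    by_cases hg : g ∈ K
    · exact Or.inl hg
    · refine Or.inr ((Subgroup.mul_mem_iff_of_index_two (tits_index C)).2 ?_)
      rw [inv_mem_iff]
      exact iff_of_false hg huK
  have hcyc : Subgroup.zpowers (π u) = ⊤ := by
    by_contra hlt
    obtain ⟨M, hM, hWM⟩ := (eq_top_or_exists_le_coatom (Subgroup.zpowers (π u))).resolve_left hlt
    haveI : M.Normal := Subgroup.NormalizerCondition.normal_of_coatom M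
      (Group.normalizerCondition_of_isNilpotent) hM
    have hKM : K.map π ≤ M := by
      have hc : commutator (C.Z.G1 ⧸ N) ≤ M := by
        obtain ⟨g, -, hgM⟩ := SetLike.not_le_iff_exists.1 (fun h : (⊤ : Subgroup (C.Z.G1 ⧸ N)) ≤ M =>
          hM.1 (top_le_iff.1 h))
        have htop : Subgroup.zpowers g ⊔ M = ⊤ :=
          hM.2 _ (lt_of_le_of_ne le_sup_right fun e => hgM (e ▸ Subgroup.mem_sup_left (Subgroup.mem_zpowers g)))
        have hpow : ∀ x : C.Z.G1 ⧸ N, ∃ i : ℤ, QuotientGroup.mk' M x = QuotientGroup.mk' M g ^ i := fun x => by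
          obtain ⟨a, ha, k, hk, rfl⟩ := Subgroup.mem_sup_of_normal_right.mp (htop ▸ Subgroup.mem_top x)
          obtain ⟨i, rfl⟩ := Subgroup.mem_zpowers_iff.1 ha
          exact ⟨i, by rw [map_mul, show QuotientGroup.mk' M k = 1 from (QuotientGroup.eq_one_iff k).2 hk,
            mul_one, map_zpow]⟩
        rw [← QuotientGroup.ker_mk' M]
        refine Subgroup.commutator_le.2 fun a _ b _ => ?_
        obtain ⟨i, hi⟩ := hpow a
        obtain ⟨j, hj⟩ := hpow b
        rw [MonoidHom.mem_ker, map_commutatorElement, commutatorElement_eq_one_iff_mul_comm, hi, hj]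
        exact zpow_mul_comm _ _ _
      refine le_trans (le_of_eq ?_) hc
      rw [show K = commutator C.Z.G1 from rfl, commutator_def, commutator_def, Subgroup.map_commutator,
        Subgroup.map_top_of_surjective _ hπ]
    refine hM.1 (eq_top_iff.2 fun y _ => ?_)
    obtain ⟨g, rfl⟩ := hπ y
    have hu : π u ∈ M := hWM (Subgroup.mem_zpowers _)
    rcases hgen g with hg | hg
    · exact hKM (Subgroup.mem_map_of_mem π hg)
    · have := mul_mem (hKM (Subgroup.mem_map_of_mem π hg)) hu
      rwa [← map_mul, inv_mul_cancel_right] at this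
  intro k hk
  have h1 : π k ∈ commutator (C.Z.G1 ⧸ N) := by
    have := Subgroup.mem_map_of_mem π hk
    rwa [show K = commutator C.Z.G1 from rfl, commutator_def, Subgroup.map_commutator,
      Subgroup.map_top_of_surjective _ hπ, ← commutator_def] at this
  have hbot : commutator (C.Z.G1 ⧸ N) = ⊥ := by
    rw [commutator_def, eq_bot_iff, Subgroup.commutator_le]
    intro a _ b _
    obtain ⟨i, rfl⟩ := Subgroup.mem_zpowers_iff.1 (hcyc ▸ Subgroup.mem_top a)
    obtain ⟨j, rfl⟩ := Subgroup.mem_zpowers_iff.1 (hcyc ▸ Subgroup.mem_top b)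
    rw [Subgroup.mem_bot, commutatorElement_eq_one_iff_mul_comm]
    exact zpow_mul_comm _ _ _
  rw [hbot, Subgroup.mem_bot] at h1
  exact (QuotientGroup.eq_one_iff k).1 h1

theorem tits_isSimple : IsSimpleGroup (commutator C.Z.G1) := by
  haveI : Finite C.Z.G1 := Nat.finite_of_card_ne_zero (by rw [tits_card_G1 C]; norm_num)
  have hcard := tits_card C
  haveI : Nontrivial (commutator C.Z.G1) := by
    rw [← Finite.one_lt_card_iff_nontrivial, hcard]; norm_num
  refine isSimple_of_index_two (tits_index C) (fun N hN hne => tits_le_normal C N (hN := hN) hne)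
    fun n => ?_
  rw [hcard]
  norm_num
  intro h
  rcases Nat.lt_or_ge n 4240 with h' | h'
  · have : n * n ≤ 4239 * 4239 := Nat.mul_le_mul (by omega) (by omega)
    omega
  · have : 4240 * 4240 ≤ n * n := Nat.mul_le_mul h' h'
    omega

theorem tits_not_comm : ¬ IsMulCommutative (commutator C.Z.G1) := by
  intro hc
  haveI : Finite C.Z.G1 := Nat.finite_of_card_ne_zero (by rw [tits_card_G1 C]; norm_num)
  haveI := tits_isSimple C
  haveI : Fact (Nat.Prime 2) := ⟨Nat.prime_two⟩
  have hcard := tits_card C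
  obtain ⟨x, hx⟩ := exists_prime_orderOf_dvd_card' (G := commutator C.Z.G1) 2
    (by rw [hcard]; norm_num)
  haveI : (Subgroup.zpowers x).Normal := ⟨fun a ha g => by
    rwa [hc.is_comm.comm g a, mul_inv_cancel_right]⟩
  rcases IsSimpleGroup.eq_bot_or_eq_top_of_normal (Subgroup.zpowers x) inferInstance with h | h
  · rw [Subgroup.zpowers_eq_bot] at h
    rw [h, orderOf_one] at hx
    omega
  · have h1 := Nat.card_zpowers x
    rw [h, Subgroup.card_top, hcard, hx] at h1
    norm_num at h1

end Tits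

end CfsgLib.SplitBN
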