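import Cfsg.Agent.SplitBN.TitsParabolic
import Mathlib.GroupTheory.GroupAction.MultipleTransitivity
import Mathlib.GroupTheory.GroupAction.Quotient
import Mathlib.Data.Finset.Powerset
import Mathlib.Algebra.Group.Action.Pointwise.Finset

/-!
# The Tits group has no two-transitive action

The degree `n` has `n (n - 1)` dividing the order. Subgroups of small odd index do not exist, and
in the degrees 16 and 40 the parabolic subgroup of index 1755 would fix too much.
-/

set_option autoImplicit false
set_option maxRecDepth 8192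
set_option linter.style.haveILetI false
set_option linter.unusedSectionVars false

namespace CfsgLib.SplitBN

open Cfsg.Lie CfsgLib.Chev CfsgLib.Chev.Tab CfsgLib.Chev.Collect CfsgLib.Chev.F4Two CfsgLib.BN CfsgLib.StCh
  Matrix
open scoped MatrixGroups Pointwise

attribute [local instance] torus_normal

section OddIndex

variable {G : Type*} [Group G] [Finite G] {P : Cfsg.BNPair G} {U : Subgroup G}

/-- A subgroup of odd index of the subgroup of index two is everything or inside a minimal parabolic. -/
theorem eq_top_of_odd_index (D : Split P 2 U) (hB : P.B = U) (K : Subgroup G) (hK : K.index = 2)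
    (hinv : ∀ g : G, orderOf g = 2 → g ∈ K)
    (hq : ∀ s : P.S, (Nat.card {x : G ⧸ P.B // cell P x = BN.refl P s} + 1).Prime)
    (htwo : ∀ t : P.S, ∃ s, ∀ x, x ≠ t → x = s) (M : Subgroup K) (hodd : ¬ 2 ∣ M.index)
    (hb : ∀ s : P.S, Nat.card (par P ({s} : Set P.S)) * M.index < Nat.card K) : M = ⊤ := by
  haveI : Fact (Nat.Prime 2) := ⟨Nat.prime_two⟩
  obtain ⟨T⟩ := (inferInstance : Nonempty (Sylow 2 M))
  have hSK : IsPGroup 2 (U.subgroupOf K) := D.isP.comap_of_injective K.subtype K.subtype_injective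
  obtain ⟨V, hV⟩ := hSK.exists_le_sylow
  obtain ⟨V', hV'⟩ := (T.isPGroup'.map M.subtype).exists_le_sylow
  obtain ⟨g, hg⟩ := MulAction.exists_smul_eq K V' V
  have hTeq : (T : Subgroup M).map M.subtype = V' := by
    refine Subgroup.eq_of_le_of_card_ge hV' ?_
    rw [Subgroup.card_map_of_injective M.subtype_injective, T.card_eq_multiplicity, V'.card_eq_multiplicity,
      ← M.card_mul_index, Nat.factorization_mul Nat.card_pos.ne' Subgroup.index_ne_zero_of_finite,
      Finsupp.add_apply, Nat.factorization_eq_zero_of_not_dvd hodd, Nat.add_zero]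
  set M' := M.map (MulAut.conj g).toMonoidHom
  have hUM : U ⊓ K ≤ M'.map K.subtype := by
    intro u hu
    have h1 : (⟨u, hu.2⟩ : K) ∈ (V : Subgroup K) := hV (Subgroup.mem_subgroupOf.2 hu.1)
    rw [← hg, Sylow.coe_subgroup_smul, Subgroup.mem_smul_pointwise_iff_exists] at h1
    obtain ⟨y, hy, e⟩ := h1
    rw [← hTeq] at hy
    obtain ⟨t, -, rfl⟩ := hy
    exact ⟨_, ⟨(t : K), t.2, rfl⟩, congrArg Subtype.val e⟩
  have hidx : M'.index = M.index := Subgroup.index_map_of_bijective (MulAut.conj g).bijective M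
  have hMK : M'.map K.subtype ≤ K := Subgroup.map_subtype_le M'
  have hJ := D.le_par_indexTwo hB K hK hinv hq hMK hUM
  by_cases hall : ∀ t : P.S, par P ({t} : Set P.S) ⊓ K ≤ M'.map K.subtype
  · have h := D.eq_of_all hB K hK hinv hq hMK hUM hall
    have h' : M' = ⊤ := Subgroup.map_injective K.subtype_injective
      (h.trans (by rw [← MonoidHom.range_eq_map, Subgroup.range_subtype]))
    exact Subgroup.map_injective (MulAut.conj g).injective
      (h'.trans (Subgroup.map_top_of_surjective _ (MulAut.conj g).surjective).symm)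
  · exfalso
    obtain ⟨t, ht⟩ := not_forall.1 hall
    obtain ⟨s, hs⟩ := htwo t
    have hsub : {x : P.S | par P ({x} : Set P.S) ⊓ K ≤ M'.map K.subtype} ⊆ {s} :=
      fun x hx => hs x fun e => ht (e ▸ hx)
    have h := Subgroup.card_le_of_le (hJ.trans (par_mono (P := P) hsub))
    rw [Subgroup.card_map_of_injective K.subtype_injective] at h
    have h2 := hb s
    rw [← M'.card_mul_index, hidx] at h2
    exact absurd h2 (not_lt.2 (Nat.mul_le_mul_right _ h))

end OddIndex

namespace TitsPar

/-- A subgroup of index eight cannot, and one of index sixteen contains the centre. -/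
theorem center_le {Γ : Type*} [Group Γ] [Finite Γ] (hcard : Nat.card Γ = 2 ^ 11 * 5)
    (hquot : ∀ N : Subgroup Γ, N.Normal → ∀ i, N.index = 2 ^ i → N.index ≤ 4) (L : Subgroup Γ) {k : ℕ}
    (hk : k = 3 ∨ k = 4) (hL : L.index = 2 ^ k) {z : Γ} (hz : ∀ g, z * g = g * z) : k = 4 ∧ z ∈ L := by
  haveI : Fact (Nat.Prime 5) := ⟨by norm_num⟩
  have hLc : Nat.card L * 2 ^ k = 2 ^ 11 * 5 := by rw [← hL, L.card_mul_index, hcard]
  obtain ⟨x, hx⟩ := exists_prime_orderOf_dvd_card' (G := L) 5 (by
    refine ((show Nat.Coprime 5 (2 ^ k) from Nat.Coprime.pow_right k (by norm_num))).dvd_of_dvd_mul_right ?_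
    rw [hLc]; exact dvd_mul_left 5 _)
  have hx' : orderOf (x : Γ) = 5 := by rw [Subgroup.orderOf_coe, hx]
  set P : Subgroup Γ := Subgroup.zpowers (x : Γ)
  have hP : IsPGroup 5 P := IsPGroup.of_card (n := 1) (by rw [Nat.card_zpowers, hx', pow_one])
  have hPL : P ≤ L := (Subgroup.zpowers_le).2 x.2
  have hPmax : ∀ Q : Subgroup Γ, IsPGroup 5 Q → P ≤ Q → Q = P := fun Q hQ hle => by
    obtain ⟨i, hi⟩ := IsPGroup.iff_card.1 hQ
    refine (Subgroup.eq_of_le_of_card_ge hle ?_).symm
    rw [hi, Nat.card_zpowers, hx']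
    refine Nat.le_of_dvd (by norm_num) ?_
    have hd : 5 ^ i ∣ 2 ^ 11 * 5 := by rw [← hi, ← hcard]; exact Q.card_subgroup_dvd_card
    exact (Nat.Coprime.pow (i) 11 (by norm_num : Nat.Coprime 5 2)).dvd_of_dvd_mul_left hd
  set N : Subgroup Γ := Subgroup.normalizer (P : Set Γ)
  set o : Γ ⧸ L := QuotientGroup.mk 1
  have hfix : MulAction.fixedPoints P (Γ ⧸ L) = MulAction.orbit N o := by
    ext q
    induction q using QuotientGroup.induction_on with
    | H g =>
      constructor
      · intro hq
        have hconj : ∀ p ∈ P, g⁻¹ * p * g ∈ L := fun p hp => by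
          have h : (QuotientGroup.mk (p * g) : Γ ⧸ L) = QuotientGroup.mk g := hq ⟨p, hp⟩
          rw [QuotientGroup.eq] at h
          have := L.inv_mem h
          simpa [mul_assoc] using this
        let S1 : Sylow 5 L := ⟨P.subgroupOf L, hP.comap_of_injective _ L.subtype_injective, fun {Q} hQ hle => by
          have h := hPmax (Q.map L.subtype) (hQ.map _) (by
            rw [← inf_eq_left.2 hPL, ← Subgroup.subgroupOf_map_subtype]
            exact Subgroup.map_mono hle)
          rw [← h, Subgroup.subgroupOf, Subgroup.comap_map_eq_self_of_injective L.subtype_injective]⟩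
        set P2 : Subgroup Γ := P.map (MulAut.conj g⁻¹).toMonoidHom
        have hP2L : P2 ≤ L := by
          rintro _ ⟨p, hp, rfl⟩
          simpa using hconj p hp
        have hcP2 : Nat.card (P2.subgroupOf L) = Nat.card P := by
          rw [Nat.card_congr (Subgroup.subgroupOfEquivOfLe hP2L).toEquiv,
            Subgroup.card_map_of_injective (MulAut.conj g⁻¹).injective]
        obtain ⟨S2, hS2⟩ : ∃ S2 : Sylow 5 L, P2.subgroupOf L ≤ S2 :=
          ((hP.map _).comap_of_injective _ L.subtype_injective).exists_le_sylow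
        obtain ⟨l, hl⟩ := MulAction.exists_smul_eq L S1 S2
        have hS2eq : ((S2 : Subgroup L) : Subgroup L) = P2.subgroupOf L := by
          refine (Subgroup.eq_of_le_of_card_ge hS2 ?_).symm
          rw [hcP2, ← hl, Sylow.coe_subgroup_smul, ← Nat.card_congr (Subgroup.equivSMul (MulAut.conj l) (S1 : Subgroup L)).toEquiv]
          exact (Nat.card_congr (Subgroup.subgroupOfEquivOfLe hPL).toEquiv).le
        have hN : g * (l : Γ) ∈ N := by
          refine Subgroup.mem_normalizer_fintype fun p hp => ?_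
          have h1 : l * ⟨p, hPL hp⟩ * l⁻¹ ∈ P2.subgroupOf L := by
            rw [← hS2eq, ← hl, Sylow.coe_subgroup_smul, Subgroup.mem_smul_pointwise_iff_exists]
            exact ⟨⟨p, hPL hp⟩, hp, rfl⟩
          obtain ⟨p', hp', e⟩ := Subgroup.mem_subgroupOf.1 h1
          simp only [Subgroup.coe_mul, Subgroup.coe_inv, MulEquiv.coe_toMonoidHom, MulAut.conj_apply] at e
          have : g * (l : Γ) * p * (g * l)⁻¹ = p' := by
            rw [show g * (l : Γ) * p * (g * l)⁻¹ = g * ((l : Γ) * p * (l : Γ)⁻¹) * g⁻¹ by group, ← e]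
            group
          exact this ▸ hp'
        refine ⟨⟨_, hN⟩, ?_⟩
        show (g * (l : Γ)) • o = _
        rw [MulAction.Quotient.smul_mk, QuotientGroup.eq, smul_eq_mul]
        simp [mul_assoc]
      · rintro ⟨n, e⟩ p
        rw [← e]
        show (QuotientGroup.mk ((p : Γ) * ((n : Γ) * 1)) : Γ ⧸ L) = QuotientGroup.mk ((n : Γ) * 1)
        rw [QuotientGroup.eq, mul_one]
        have := (Subgroup.mem_normalizer_iff''.1 n.2 (p : Γ)⁻¹).1 (P.inv_mem p.2)
        simpa [mul_assoc] using hPL this
  have hf1 : Nat.card (MulAction.fixedPoints P (Γ ⧸ L)) ≡ 2 ^ k [MOD 5] := by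
    rw [← hL, Subgroup.index]
    exact (hP.card_modEq_card_fixedPoints (Γ ⧸ L)).symm
  have hf2 : Nat.card (MulAction.fixedPoints P (Γ ⧸ L)) ∣ 2 ^ 11 * 5 := by
    rw [hfix, Nat.card_coe_set_eq, ← MulAction.index_stabilizer, ← hcard]
    exact (Subgroup.index_dvd_card _).trans N.card_subgroup_dvd_card
  have hf3 : Nat.card (MulAction.fixedPoints P (Γ ⧸ L)) ≤ 2 ^ k := by
    rw [← hL, Subgroup.index]
    exact Nat.card_le_card_of_injective _ Subtype.val_injective
  have hall : Nat.card (MulAction.fixedPoints P (Γ ⧸ L)) ≠ 2 ^ k := by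
    intro e
    have htriv : MulAction.fixedPoints P (Γ ⧸ L) = Set.univ := by
      refine Set.eq_univ_of_forall fun q => ?_
      have hb := (Function.Injective.bijective_of_nat_card_le
        (f := (Subtype.val : MulAction.fixedPoints P (Γ ⧸ L) → Γ ⧸ L)) Subtype.val_injective
        (by rw [e, ← hL, Subgroup.index])).2 q
      obtain ⟨⟨q', hq'⟩, rfl⟩ := hb
      exact hq'
    have hcore : P ≤ L.normalCore := fun p hp g => by
      have h : (QuotientGroup.mk (p * g⁻¹) : Γ ⧸ L) = QuotientGroup.mk g⁻¹ :=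
        (htriv.symm ▸ Set.mem_univ (QuotientGroup.mk g⁻¹) :
          (QuotientGroup.mk g⁻¹ : Γ ⧸ L) ∈ MulAction.fixedPoints P (Γ ⧸ L)) ⟨p, hp⟩
      rw [QuotientGroup.eq] at h
      have := L.inv_mem h
      simpa [mul_assoc] using this
    have h5 : ¬ 5 ∣ L.normalCore.index := fun h5 => by
      have h1 : 5 * 5 ∣ Nat.card L.normalCore * L.normalCore.index := mul_dvd_mul
        (by rw [← hx', ← Nat.card_zpowers]; exact Subgroup.card_dvd_of_le hcore) h5
      rw [L.normalCore.card_mul_index, hcard] at h1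
      norm_num at h1
    have h2 : L.normalCore.index ∣ 2 ^ 11 :=
      ((Nat.Prime.coprime_iff_not_dvd (by norm_num)).2 h5).symm.dvd_of_dvd_mul_right
        (hcard ▸ L.normalCore.index_dvd_card)
    obtain ⟨i, -, hi⟩ := (Nat.dvd_prime_pow Nat.prime_two).1 h2
    have h4 := hquot L.normalCore inferInstance i hi
    have h8 : 2 ^ k ∣ L.normalCore.index := hL ▸ Subgroup.index_dvd_of_le L.normalCore_le
    have := Nat.le_of_dvd (Nat.pos_of_ne_zero L.normalCore.index_ne_zero_of_finite) h8
    rcases hk with rfl | rfl <;> omega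
  set f := Nat.card (MulAction.fixedPoints P (Γ ⧸ L))
  have hk4 : k = 4 ∧ f = 1 := by
    rcases hk with rfl | rfl
    · exfalso
      have : ∀ m ≤ 8, m % 5 = 8 % 5 → m ≠ 8 → ¬ m ∣ 2 ^ 11 * 5 := by decide
      exact this f (by simpa using hf3) hf1 (by simpa using hall) hf2
    · refine ⟨rfl, ?_⟩
      have : ∀ m ≤ 16, m % 5 = 16 % 5 → m ≠ 16 → m ∣ 2 ^ 11 * 5 → m = 1 := by decide
      exact this f (by simpa using hf3) hf1 (by simpa using hall) hf2
  refine ⟨hk4.1, ?_⟩
  have hzN : z ∈ N := Subgroup.mem_normalizer_fintype fun p hp => by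
    rwa [hz, mul_inv_cancel_right]
  have hs : (MulAction.stabilizer N o).index = 1 := by
    rw [MulAction.index_stabilizer, ← Nat.card_coe_set_eq, ← hfix]
    exact hk4.2
  have h : (⟨z, hzN⟩ : N) • o = o := by
    rw [Subgroup.index_eq_one] at hs
    exact MulAction.mem_stabilizer_iff.1 (hs ▸ Subgroup.mem_top _)
  have h' : (QuotientGroup.mk (z * 1) : Γ ⧸ L) = QuotientGroup.mk 1 := h
  rw [QuotientGroup.eq] at h'
  simpa using h'

/-- A cyclic group of order sixteen meets a subgroup of index at most eight in its involution. -/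
theorem pow_eight_mem {G : Type*} [Group G] [Finite G] {x : G} (hx : x ^ 16 = 1) (L : Subgroup G)
    (hL : L.index ≤ 8) : x ^ 8 ∈ L := by
  obtain ⟨d, hd0, hd, hdL⟩ := Subgroup.exists_pow_mem_of_index_ne_zero (H := L) Subgroup.index_ne_zero_of_finite x
  have : ∀ d ≤ 8, 0 < d → ∃ e ≤ 8, d * e % 16 = 8 := by decide
  obtain ⟨e, -, he⟩ := this d (hd.trans hL) hd0
  have h := L.pow_mem hdL e
  rwa [← pow_mul, pow_eq_pow_mod _ hx, he] at h

variable (C : F4Tw.Ctx (ZMod 2) 0)

theorem zTop_ne_one : zTop C ≠ 1 := fun h => by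
  have h2 : elt C 128 = elt C 0 := by
    rw [(elt_single C).1, (elt_single C).2]
    refine Subtype.ext ?_
    rw [gG_val, show ((7 : Fin 12) : ℕ) = 7 from rfl]
    exact (zTop_val C).symm.trans (congrArg Subtype.val h)
  exact absurd (elt_inj C (by norm_num) (by norm_num) h2) (by norm_num)

theorem zTop_eq : zTop C = gv C 7 := by
  refine Subtype.ext ?_
  rw [zTop_val, ← gG_eq]
  exact (gG_val C 7).symm

theorem exists_sixteen : ∃ x ∈ C.Z.U1.subgroupOf C.Z.G1 ⊓ commutator C.Z.G1,
    x ^ 16 = 1 ∧ x ^ 8 = zTop C := by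
  refine ⟨w C 0 * w C 8, mul_mem (w_mem C 0) (w_mem C 8), ?_⟩
  have h8 : (w C 0 * w C 8) ^ 8 = zTop C := by
    have h := wl_same C (L := ex [0, 8, 0, 8, 0, 8, 0, 8, 0, 8, 0, 8, 0, 8, 0, 8]) (L' := [7]) (by decide)
    rw [wl_ex, wl_single, ← zTop_eq] at h
    rw [← h]
    simp only [List.map_cons, List.map_nil, List.prod_cons, List.prod_nil, mul_one, pow_succ, pow_zero,
      one_mul, mul_assoc]
  refine ⟨?_, h8⟩
  have h := wl_same C (L := [7, 7]) (L' := []) (by decide)
  rw [wl_cons, wl_single, ← zTop_eq] at h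
  rw [show (16 : ℕ) = 8 * 2 from rfl, pow_mul, h8, pow_two, h]
  rfl

/-- The parabolic subgroup has order `2¹¹ · 5`. -/
theorem card_parT [Finite C.Z.G1] : Nat.card (parT C) = 2 ^ 11 * 5 := by
  haveI : Fact (Nat.Prime 2) := ⟨Nat.prime_two⟩
  have hS := exists_sylow_tits C
  have D := C.Z.split 2 C.xNontrivial hS
  have hc := D.card_par_singleton (tits_borel C) (s1 C)
  have hP2 : Nat.card (par (C.Z.bnPair C.xNontrivial) ({s1 C} : Set _)) = 2 * Nat.card (parT C) :=
    card_eq_two_mul_inf (tits_index C) (D.not_le_indexTwo (tits_index C))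
      (tits_borel C ▸ borel_le_par (P := C.Z.bnPair C.xNontrivial) _)
  have h4 := card_cell_twRef C.Z C.xNontrivial hS (1 : Fin 2)
  rw [C.card_X (1 : Fin 2)] at h4
  have h4' : Nat.card {x : C.Z.G1 ⧸ (C.Z.bnPair C.xNontrivial).B //
      cell (C.Z.bnPair C.xNontrivial) x = BN.refl _ (s1 C)} = 4 := h4.trans rfl
  rw [hP2, h4',
    Nat.card_congr (Subgroup.subgroupOfEquivOfLe C.Z.U1_le).toEquiv, C.card_U1] at hc
  norm_num at hc ⊢
  omega

/-- The Tits group has no proper subgroup of odd index at most 877. -/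
theorem eq_top_of_odd [Finite C.Z.G1] (M : Subgroup (commutator C.Z.G1)) (hodd : ¬ 2 ∣ M.index)
    (hle : M.index ≤ 877) : M = ⊤ := by
  haveI : Fact (Nat.Prime 2) := ⟨Nat.prime_two⟩
  have hS := exists_sylow_tits C
  have hU : Nat.card (C.Z.U1.subgroupOf C.Z.G1) = 2 ^ 12 := by
    rw [Nat.card_congr (Subgroup.subgroupOfEquivOfLe C.Z.U1_le).toEquiv, C.card_U1]; norm_num
  have hq : ∀ s : (C.Z.bnPair C.xNontrivial).S,
      (Nat.card {x : C.Z.G1 ⧸ (C.Z.bnPair C.xNontrivial).B //
        cell (C.Z.bnPair C.xNontrivial) x = BN.refl _ s} + 1).Prime ∧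
      Nat.card {x : C.Z.G1 ⧸ (C.Z.bnPair C.xNontrivial).B //
        cell (C.Z.bnPair C.xNontrivial) x = BN.refl _ s} ≤ 4 := by
    intro s
    obtain ⟨J, rfl⟩ := (twRef_bijective C.Z C.xNontrivial).2 s
    rw [card_cell_twRef C.Z C.xNontrivial hS J, C.card_X J]
    have hk : ∀ j : Fin 2, ((2 ^ (2 * 0 + 1)) ^ F4Tw.kJ j + 1).Prime ∧ (2 ^ (2 * 0 + 1)) ^ F4Tw.kJ j ≤ 4 := by
      intro j; fin_cases j <;> norm_num [F4Tw.kJ]
    exact hk J
  refine eq_top_of_odd_index (C.Z.split 2 C.xNontrivial hS) (tits_borel C) _ (tits_index C)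
    (fun g hg => F4Two.involution_mem C g hg) (fun s => (hq s).1) (fun t => ?_) M hodd fun s => ?_
  · obtain ⟨j, rfl⟩ := (twRef_bijective C.Z C.xNontrivial).2 t
    refine ⟨twRef C.Z C.xNontrivial ((fun i : Fin 2 => 1 - i) j), fun x hx => ?_⟩
    obtain ⟨i, rfl⟩ := (twRef_bijective C.Z C.xNontrivial).2 x
    have : ∀ i j : Fin 2, i ≠ j → i = 1 - j := by decide
    exact congrArg _ (this i j fun e => hx (congrArg _ e))
  · rw [Split.card_par_singleton (C.Z.split 2 C.xNontrivial hS) (tits_borel C) s, hU, tits_card C]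
    have := Nat.mul_le_mul (Nat.mul_le_mul_left (2 ^ 12) (Nat.add_le_add_right (hq s).2 1)) hle
    omega

/-- Every divisor pair of consecutive numbers. -/
theorem degrees {n : ℕ} (h3 : 3 ≤ n) (h : n * (n - 1) ∣ 2 ^ 11 * 8775) :
    n ∈ [3, 4, 5, 6, 9, 10, 13, 16, 25, 26, 27, 40, 65] := by
  have hle := Nat.le_of_dvd (by norm_num) h
  have hn : n < 66 * 66 := by
    by_contra hn
    push Not at hn
    have : (66 * 66) * (66 * 66 - 1) ≤ n * (n - 1) := Nat.mul_le_mul hn (by omega)
    omega
  have chk : allBelow (fun i => allBelow (fun j =>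
      Nat.blt (66 * i + j) 3 || !(Nat.beq (17971200 % ((66 * i + j) * (66 * i + j - 1))) 0) ||
        ([3, 4, 5, 6, 9, 10, 13, 16, 25, 26, 27, 40, 65] : List ℕ).elem (66 * i + j)) 66) 66 = true := by
    decide +kernel
  simp only [allBelow_iff] at chk
  have h1 := chk (n / 66) (by omega) (n % 66) (Nat.mod_lt n (by norm_num))
  rw [Nat.div_add_mod] at h1
  simp only [Bool.or_eq_true, Bool.not_eq_true', Nat.blt_eq, List.elem_iff] at h1
  rcases h1 with (h1 | h1) | h1
  · omega
  · exfalso
    have : 17971200 % (n * (n - 1)) = 0 := Nat.mod_eq_zero_of_dvd (by simpa using h) 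
    rw [this] at h1
    simp at h1
  · exact h1

/-- A group like the Tits group has no faithful two-transitive action. -/
theorem no_two_trans {K : Type*} [Group K] [Finite K] (hK : Nat.card K = 2 ^ 11 * 8775)
    (hodd : ∀ M : Subgroup K, ¬ 2 ∣ M.index → M.index ≤ 877 → M = ⊤)
    (M1 : Subgroup K) (hM1 : Nat.card M1 = 2 ^ 11 * 5)
    (hquot : ∀ N : Subgroup M1, N.Normal → ∀ i, N.index = 2 ^ i → N.index ≤ 4)
    {z : M1} (hz : ∀ g : M1, z * g = g * z) (hz1 : z ≠ 1) {x : M1} (hx16 : x ^ 16 = 1) (hx8 : x ^ 8 = z)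
    {X : Type*} [Fintype X] [MulAction K X] [FaithfulSMul K X] (h3 : 3 ≤ Fintype.card X)
    (h2 : MulAction.IsMultiplyPretransitive K X 2) : False := by
  classical
  haveI : Fact (Nat.Prime 2) := ⟨Nat.prime_two⟩
  haveI : MulAction.IsMultiplyPretransitive K X 2 := h2
  have htwo : ∀ {a b c d : X}, a ≠ b → c ≠ d → ∃ g : K, g • a = c ∧ g • b = d :=
    MulAction.is_two_pretransitive_iff.1 h2
  haveI : MulAction.IsPretransitive K X := MulAction.isPretransitive_of_is_two_pretransitive
  set n := Nat.card X with hn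
  have hn3 : 3 ≤ n := by rwa [hn, Nat.card_eq_fintype_card]
  obtain ⟨a, b, hab⟩ := Fintype.exists_pair_of_one_lt_card (α := X) (by omega)
  have hH : ∀ c : X, Nat.card (MulAction.stabilizer K c) * n = 2 ^ 11 * 8775 := fun c => by
    rw [← hK, ← (MulAction.stabilizer K c).card_mul_index, MulAction.index_stabilizer_of_transitive]
  have hdiv : n * (n - 1) ∣ 2 ^ 11 * 8775 := by
    rw [← hH a, mul_comm n]
    refine mul_dvd_mul_right ?_ n
    have horb : MulAction.orbit (MulAction.stabilizer K a) b = {a}ᶜ := by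
      ext c
      constructor
      · rintro ⟨⟨g, hg⟩, rfl⟩ (h : g • b = a)
        exact hab ((MulAction.injective g) (h.trans (MulAction.mem_stabilizer_iff.1 hg).symm)).symm
      · intro hc
        obtain ⟨g, hga, hgb⟩ := htwo hab (Ne.symm (show c ≠ a from hc))
        exact ⟨⟨g, hga⟩, hgb⟩
    have h := MulAction.index_stabilizer (MulAction.stabilizer K a) b
    rw [horb, Set.ncard_compl, Set.ncard_singleton, ← hn] at h
    exact h ▸ Subgroup.index_dvd_card _
  have hmem := degrees hn3 hdiv
  have hnodd : ¬ 2 ∣ n → n ≤ 877 → False := fun h h' => by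
    have e := MulAction.index_stabilizer_of_transitive K a
    have := hodd (MulAction.stabilizer K a) (by rwa [e]) (by rwa [e])
    rw [this, Subgroup.index_top, ← hn] at e
    omega
  have hpair : ¬ 2 ∣ n.choose 2 → n.choose 2 ≤ 877 → False := fun h h' => by
    have horb : MulAction.orbit K ({a, b} : Finset X) =
        ((Finset.univ : Finset X).powersetCard 2 : Set (Finset X)) := by
      ext T
      constructor
      · rintro ⟨g, rfl⟩
        rw [Finset.mem_coe, Finset.mem_powersetCard]
        exact ⟨Finset.subset_univ _, by rw [Finset.card_smul_finset, Finset.card_pair hab]⟩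
      · intro hT
        rw [Finset.mem_coe, Finset.mem_powersetCard] at hT
        obtain ⟨c, d, hcd, rfl⟩ := Finset.card_eq_two.1 hT.2
        obtain ⟨g, hga, hgb⟩ := htwo hab hcd
        exact ⟨g, by
          show g • ({a, b} : Finset X) = {c, d}
          rw [Finset.smul_finset_insert, Finset.smul_finset_singleton, hga, hgb]⟩
    have e := MulAction.index_stabilizer K ({a, b} : Finset X)
    rw [horb, Set.ncard_coe_finset, Finset.card_powersetCard, Finset.card_univ,
      ← Nat.card_eq_fintype_card, ← hn] at e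
    have htop := hodd (MulAction.stabilizer K ({a, b} : Finset X)) (by rwa [e]) (by rwa [e])
    rw [htop, Subgroup.index_top] at e
    have : n ≤ n.choose 2 := by
      rw [Nat.choose_two_right, Nat.le_div_iff_mul_le (by norm_num)]
      exact Nat.mul_le_mul_left n (by omega)
    omega
  have hfaith : ∀ g : K, (∀ c : X, g • c = c) → g = 1 := fun g hg =>
    FaithfulSMul.eq_of_smul_eq_smul (α := X) fun c => by rw [hg c, one_smul]
  -- the point stabilisers in the parabolic subgroup
  have hsmall : n = 16 ∨ n = 40 → False := by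
    intro hn'
    let L : X → Subgroup M1 := fun c => MulAction.stabilizer M1 c
    have hidx : ∀ c, (L c).index = (MulAction.orbit M1 c).ncard := fun c => MulAction.index_stabilizer M1 c
    have hle : ∀ c, (L c).index ≤ n := fun c => (hidx c).trans_le (by
      rw [hn, ← Set.ncard_univ]
      exact Set.ncard_le_ncard (Set.subset_univ _) (Set.toFinite _))
    have hdvd : ∀ c, Nat.card (L c) * (L c).index = 10240 ∧ Nat.card (L c) * n ∣ 2 ^ 11 * 8775 := fun c => by
      refine ⟨by rw [(L c).card_mul_index, hM1]; rfl, ?_⟩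
      rw [← hH c]
      refine mul_dvd_mul_right ?_ n
      exact Subgroup.card_dvd_of_injective
        ((M1.subtype.comp (L c).subtype).codRestrict (MulAction.stabilizer K c) fun l => l.2)
        fun l l' h => by
          apply Subtype.ext
          apply Subtype.ext
          exact congrArg (fun s : MulAction.stabilizer K c => (s : K)) h
    have hval : ∀ c, (n = 16 → (L c).index = 16) ∧
        (n = 40 → (L c).index ∈ [8, 16, 32, 40]) := fun c => by
      obtain ⟨h1, h2⟩ := hdvd c
      have hl : Nat.card (L c) = 10240 / (L c).index :=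
        (Nat.div_eq_of_eq_mul_left (Nat.pos_of_ne_zero Subgroup.index_ne_zero_of_finite) h1.symm).symm
      have hi : (L c).index ∣ 10240 := ⟨_, by rw [← h1, mul_comm]⟩
      rw [hl] at h2
      have h3 := hle c
      constructor <;> intro e <;> rw [e] at h2 h3
      · have : ∀ i ≤ 16, i ∣ 10240 → 10240 / i * 16 ∣ 17971200 → i = 16 := by decide +kernel
        exact this _ h3 hi (by simpa using h2)
      · have : ∀ i ≤ 40, i ∣ 10240 → 10240 / i * 40 ∣ 17971200 → i ∈ [8, 16, 32, 40] := by decide +kernel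
        exact this _ h3 hi (by simpa using h2)
    have hall : (∀ c, z ∈ L c) → False := fun h => hz1 (Subtype.ext
      (hfaith z fun c => MulAction.mem_stabilizer_iff.1 (h c)))
    rcases hn' with hn' | hn'
    · exact hall fun c => (center_le hM1 hquot (L c) (k := 4) (Or.inr rfl) ((hval c).1 hn') hz).2
    · have h8 : ∀ c, (L c).index ≠ 8 := fun c h => by
        have := (center_le hM1 hquot (L c) (k := 3) (Or.inl rfl) h hz).1
        omega
      by_cases h40 : ∃ c, (L c).index = 40
      · obtain ⟨c, hc⟩ := h40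
        have horb : MulAction.orbit M1 c = Set.univ :=
          Set.eq_of_subset_of_ncard_le (Set.subset_univ _)
            (by rw [Set.ncard_univ, ← hn, hn', ← hidx, hc]) (Set.toFinite _)
        have hLc : Nat.card (L c) = 2 ^ 8 := by have := (hdvd c).1; rw [hc] at this; omega
        have hzc : z ∈ L c := by
          obtain ⟨V, hV⟩ := (IsPGroup.of_card (p := 2) hLc).exists_le_sylow
          obtain ⟨W, hW⟩ := (IsPGroup.of_card (p := 2) (G := Subgroup.zpowers x)
            (n := (Nat.card (Subgroup.zpowers x)).factorization 2) (by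
              rw [Nat.card_zpowers]
              obtain ⟨i, -, hi⟩ := (Nat.dvd_prime_pow Nat.prime_two).1
                (orderOf_dvd_of_pow_eq_one (show x ^ 2 ^ 4 = 1 from hx16))
              rw [hi, Nat.Prime.factorization_pow Nat.prime_two, Finsupp.single_eq_same])).exists_le_sylow
          obtain ⟨m, hm⟩ := MulAction.exists_smul_eq M1 W V
          have hx' : m * x * m⁻¹ ∈ (V : Subgroup M1) := by
            rw [← hm, Sylow.coe_subgroup_smul, Subgroup.mem_smul_pointwise_iff_exists]
            exact ⟨x, hW (Subgroup.mem_zpowers x), rfl⟩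
          have hV8 : ((L c).subgroupOf V).index ≤ 8 := by
            have e := ((L c).subgroupOf V).card_mul_index
            rw [Nat.card_congr (Subgroup.subgroupOfEquivOfLe hV).toEquiv, hLc] at e
            have hVc : Nat.card (V : Subgroup M1) ≤ 2 ^ 11 := by
              obtain ⟨i, hi⟩ := IsPGroup.iff_card.1 V.isPGroup'
              have hd := hM1 ▸ hi ▸ (V : Subgroup M1).card_subgroup_dvd_card
              rw [hi]
              exact Nat.le_of_dvd (by norm_num)
                ((Nat.Coprime.pow_left i (by norm_num : Nat.Coprime 2 5)).dvd_of_dvd_mul_right hd)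
            omega
          have h := pow_eight_mem (G := (V : Subgroup M1)) (x := ⟨m * x * m⁻¹, hx'⟩)
            (Subtype.ext (by simp [conj_pow, hx16])) _ hV8
          rw [Subgroup.mem_subgroupOf, SubmonoidClass.coe_pow, Subtype.coe_mk, conj_pow, hx8, ← hz, mul_inv_cancel_right] at h
          exact h
        refine hall fun d => ?_
        obtain ⟨g, rfl⟩ : d ∈ MulAction.orbit M1 c := horb ▸ Set.mem_univ d
        exact MulAction.mem_stabilizer_iff.2 (by
          show z • g • c = g • c
          rw [← mul_smul, hz, mul_smul, MulAction.mem_stabilizer_iff.1 hzc])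
      · push Not at h40
        have h16 : ∀ c, 16 ∣ (L c).index := fun c => by
          have h := (hval c).2 hn'
          simp only [List.mem_cons, List.not_mem_nil, or_false] at h
          rcases h with h | h | h | h
          · exact absurd h (h8 c)
          · rw [h]
          · rw [h]; norm_num
          · exact absurd h (h40 c)
        haveI : Fintype (Quotient (MulAction.orbitRel M1 X)) := Fintype.ofFinite _
        have : 16 ∣ n := by
          rw [hn, Nat.card_congr (MulAction.selfEquivSigmaOrbits M1 X), Nat.card_sigma]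
          refine Finset.dvd_sum fun q _ => ?_
          rw [Nat.card_coe_set_eq, ← hidx]
          exact h16 _
        omega
  simp only [List.mem_cons, List.not_mem_nil, or_false] at hmem
  rcases hmem with e | e | e | e | e | e | e | e | e | e | e | e | e
  · exact hnodd (by omega) (by omega)
  · have : Nat.card K ≤ Nat.card (Equiv.Perm X) :=
      Nat.card_le_card_of_injective (MulAction.toPermHom K X) MulAction.toPerm_injective
    rw [hK, Nat.card_perm, ← hn, e] at this
    norm_num [Nat.factorial] at this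
  · exact hnodd (by omega) (by omega)
  · exact hpair (by rw [e, Nat.choose_two_right]; norm_num) (by rw [e, Nat.choose_two_right]; norm_num)
  · exact hnodd (by omega) (by omega)
  · exact hpair (by rw [e, Nat.choose_two_right]; norm_num) (by rw [e, Nat.choose_two_right]; norm_num)
  · exact hnodd (by omega) (by omega)
  · exact hsmall (Or.inl e)
  · exact hnodd (by omega) (by omega)
  · exact hpair (by rw [e, Nat.choose_two_right]; norm_num) (by rw [e, Nat.choose_two_right]; norm_num)
  · exact hnodd (by omega) (by omega)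
  · exact hsmall (Or.inr e)
  · exact hnodd (by omega) (by omega)

/-- The criterion for subgroups of a common group. -/
theorem no_two_trans_sub.{u, v} {G : Type u} [Group G] [Finite G] (K R : Subgroup G) (hRK : R ≤ K)
    (hK : Nat.card K = 2 ^ 11 * 8775) (hodd : ∀ M : Subgroup K, ¬ 2 ∣ M.index → M.index ≤ 877 → M = ⊤)
    (hR : Nat.card R = 2 ^ 11 * 5)
    (hquot : ∀ (Q : Type u) [Group Q] [Finite Q], IsPGroup 2 Q → ∀ φ : R →* Q, Function.Surjective φ →
      Nat.card Q ≤ 4)
    {z : G} (hz : ∀ g ∈ R, z * g = g * z) (hz1 : z ≠ 1) {x : G} (hx : x ∈ R) (hx16 : x ^ 16 = 1) (hx8 : x ^ 8 = z)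
    {X : Type v} [Fintype X] [MulAction K X] [FaithfulSMul K X] (h3 : 3 ≤ Fintype.card X)
    (h2 : MulAction.IsMultiplyPretransitive K X 2) : False := by
  let e : R.subgroupOf K ≃* R := Subgroup.subgroupOfEquivOfLe hRK
  have hzR : z ∈ R := hx8 ▸ pow_mem hx 8
  refine no_two_trans hK hodd (R.subgroupOf K) ?_ ?_ (z := e.symm ⟨z, hzR⟩) ?_ ?_
    (x := e.symm ⟨x, hx⟩) ?_ ?_ h3 h2
  · rw [Nat.card_congr e.toEquiv, hR]
  · intro N hN i hi
    haveI := hN
    exact hquot _ (IsPGroup.of_card (n := i) hi) ((QuotientGroup.mk' N).comp e.symm.toMonoidHom)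
      ((QuotientGroup.mk'_surjective N).comp e.symm.surjective)
  · intro g
    apply e.injective
    rw [map_mul, map_mul, e.apply_symm_apply]
    exact Subtype.ext (hz _ (e g).2)
  · intro h
    have := congrArg e h
    rw [e.apply_symm_apply, map_one] at this
    exact hz1 (congrArg Subtype.val this)
  · rw [← map_pow, show (⟨x, hx⟩ : R) ^ 16 = 1 from Subtype.ext hx16, map_one]
  · rw [← map_pow, show (⟨x, hx⟩ : R) ^ 8 = ⟨z, hzR⟩ from Subtype.ext hx8]

/-- The Tits group has no faithful two-transitive action. -/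
theorem no_two_trans_of_ctx {X : Type*} [Fintype X] [MulAction (commutator C.Z.G1) X]
    [FaithfulSMul (commutator C.Z.G1) X] (h3 : 3 ≤ Fintype.card X)
    (h2 : MulAction.IsMultiplyPretransitive (commutator C.Z.G1) X 2) : False := by
  haveI : Finite C.Z.G1 := Nat.finite_of_card_ne_zero (by rw [tits_card_G1 C]; norm_num)
  obtain ⟨x, hx, hx16, hx8⟩ := exists_sixteen C
  exact no_two_trans_sub (commutator C.Z.G1) (parT C) inf_le_right (tits_card C) (eq_top_of_odd C)
    (card_parT C) (fun Q _ _ hQ φ hφ => quot_le_four C hQ φ hφ)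
    (fun g hg => top_par C (s1 C) rfl g hg.1) (zTop_ne_one C) (inf_le_parT C hx) hx16 hx8 h3 h2

end TitsPar

end CfsgLib.SplitBN
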