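import Cfsg.Agent.SplitBN.Basic
import Mathlib.GroupTheory.Subgroup.Simple

/-!
# Radicals of parabolic subgroups and their centralisers
-/

set_option autoImplicit false
set_option linter.style.haveILetI false
set_option linter.unusedSectionVars false

namespace CfsgLib.SplitBN

open CfsgLib.BN CfsgLib.StCh

attribute [local instance] torus_normal

variable {G : Type*} [Group G] {P : Cfsg.BNPair G} [Finite G]

/-- Two distinct simple reflections that do not commute give a word of length three. -/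
theorem len_aba {a b : P.S} (h : BN.refl P a * BN.refl P b ≠ BN.refl P b * BN.refl P a) :
    len P (BN.refl P a * (BN.refl P b * BN.refl P a)) = 3 ∧
      len P (BN.refl P b * BN.refl P a) = 2 ∧ len P (BN.refl P a * BN.refl P b) = 2 := by
  have hne : a ≠ b := fun e => h (by rw [e])
  have h2 : ∀ x y : P.S, x ≠ y → len P (BN.refl P x * BN.refl P y) = 2 := by
    intro x y hxy
    rcases len_refl_mul_cases P x (BN.refl P y) with e | e
    · rw [e, len_refl]
    · exfalso
      rw [len_refl] at e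
      have h0 := eq_one_of_len P (show len P (BN.refl P x * BN.refl P y) = 0 by omega)
      rw [← refl_inv P y, mul_inv_eq_one] at h0
      exact hxy (refl_injective P h0)
  refine ⟨?_, h2 b a hne.symm, h2 a b hne⟩
  rcases len_refl_mul_cases P a (BN.refl P b * BN.refl P a) with e | e
  · rw [e, h2 b a hne.symm]
  · exfalso
    rw [h2 b a hne.symm] at e
    have hw : WJ P {a, b} (BN.refl P a * (BN.refl P b * BN.refl P a)) :=
      wJ_mul (wJ_refl (Set.mem_insert _ _))
        (wJ_mul (wJ_refl (Set.mem_insert_of_mem _ rfl)) (wJ_refl (Set.mem_insert _ _)))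
    obtain ⟨c, hc, hce⟩ := exists_refl_of_len_one hw (by omega)
    have key : BN.refl P b * BN.refl P a = BN.refl P a * BN.refl P c := by
      rw [← hce, ← mul_assoc, refl_sq, one_mul]
    rcases hc with rfl | rfl
    · rw [refl_sq] at key
      have := h2 b c hne.symm
      rw [key, len_one] at this
      omega
    · exact h key.symm

/-- The longest element of `W_J`. -/
noncomputable def wS (J : Set P.S) : Weyl P := wlP P (Set.toFinite J).toFinset

theorem wS_spec (J : Set P.S) :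
    WJ P J (wS J) ∧ ∀ s ∈ J, len P (wS J * BN.refl P s) < len P (wS J) := by
  have h := ((hasLongest_wlP P) (Set.toFinite J).toFinset (wS J)).2 rfl
  rw [Set.Finite.coe_toFinset] at h
  exact ⟨h.1, fun s hs => h.2 s ((Set.Finite.mem_toFinset _).2 hs)⟩

theorem len_inv_mul_wS {J : Set P.S} {v : Weyl P} (hv : WJ P J v) :
    len P (v⁻¹ * wS J) + len P v = len P (wS J) :=
  len_inv_mul_longest (hasLongest_wlP P) _ (by rwa [Set.Finite.coe_toFinset])

/-- The last letter of the longest element can be chosen to follow any first letter. -/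
theorem exists_wS_split {J : Set P.S} {r : P.S} (hr : r ∈ J) :
    ∃ s ∈ J, len P (BN.refl P r * wS J) < len P (wS J) ∧ BN.refl P r * wS J * BN.refl P s = wS J := by
  obtain ⟨hw, -⟩ := wS_spec J
  have h1 := len_inv_mul_wS (wJ_refl hr)
  rw [refl_inv, len_refl] at h1
  obtain ⟨s, hs, hlt⟩ : ∃ s ∈ J, len P (BN.refl P r * wS J) < len P (BN.refl P r * wS J * BN.refl P s) := by
    by_contra hc
    push Not at hc
    have heq : BN.refl P r * wS J = wS J := by
      refine ((hasLongest_wlP P) (Set.toFinite J).toFinset _).1 ⟨?_, fun s hs => ?_⟩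
      · rw [Set.Finite.coe_toFinset]; exact wJ_mul (wJ_refl hr) hw
      · have := hc s ((Set.Finite.mem_toFinset _).1 hs)
        rcases len_lt_or (BN.refl P r * wS J) s with h | h <;> omega
    rw [heq] at h1
    omega
  have hv : WJ P J (BN.refl P r * wS J * BN.refl P s) := wJ_mul (wJ_mul (wJ_refl hr) hw) (wJ_refl hs)
  have h2 := len_inv_mul_wS hv
  refine ⟨s, hs, by omega, inv_mul_eq_one.1 (eq_one_of_len P ?_)⟩
  omega

namespace Split

variable {p : ℕ} {U : Subgroup G} (D : Split P p U)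
include D

/-- The radical of the parabolic subgroup of `J`. -/
noncomputable def Qr (D : Split P p U) (J : Set P.S) : Subgroup G := D.Rw (wS J)

theorem Qr_le (J : Set P.S) : D.Qr J ≤ U := D.Rw_le _

theorem Qr_le_Rw {J : Set P.S} {v : Weyl P} (hv : WJ P J v) : D.Qr J ≤ D.Rw v :=
  D.Rw_le_prefix (by rw [Nat.add_comm]; exact len_inv_mul_wS hv)

theorem X_le_Qr {J : Set P.S} {t : P.S} (ht : t ∉ J) : D.X t ≤ D.Qr J :=
  D.X_le_Rw (len_lt_of_notMem (wS_spec J).1 ht)

theorem refl_conj_Qr {J : Set P.S} {r : P.S} (hr : r ∈ J) {x : G} (hx : x ∈ D.Qr J) :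
    r.1⁻¹ * x * r.1 ∈ D.Qr J ∧ r.1 * x * r.1⁻¹ ∈ D.Qr J := by
  have hy : r.1⁻¹ * x * r.1 ∈ U := (D.mem_Rw_refl.1 (D.Qr_le_Rw (wJ_refl hr) hx)).2
  have hx' : x ∈ D.Rw (BN.refl P r * wS J) := D.Qr_le_Rw (wJ_mul (wJ_refl hr) (wS_spec J).1) hx
  have h1 := D.conj_Rw hx' hy
  have h2 := D.conj_Rw' hx' (D.conj_sq.1 hy)
  rw [← mul_assoc, refl_sq, one_mul] at h1 h2
  exact ⟨h1, h2⟩

theorem torus_conj_Rw {t : G} (ht : t ∈ P.B ⊓ P.N) {w : Weyl P} {x : G} (hx : x ∈ D.Rw w) :
    t * x * t⁻¹ ∈ D.Rw w := by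
  obtain ⟨n, rfl⟩ := QuotientGroup.mk_surjective w
  obtain ⟨h1, h2⟩ := (D.mem_Rw rfl).1 hx
  refine (D.mem_Rw rfl).2 ⟨D.normal t ht.1 x h1, ?_⟩
  have hc := P.conj_mem n.1⁻¹ (P.N.inv_mem n.2) t ht
  rw [inv_inv] at hc
  have := D.normal _ hc _ h2
  convert this using 1
  group

theorem X_conj_Qr {J : Set P.S} {r : P.S} (hr : r ∈ J) {x u : G} (hx : x ∈ D.X r) (hu : u ∈ D.Qr J) :
    x * u * x⁻¹ ∈ D.Qr J := by
  obtain ⟨s, hs, hlt, e⟩ := exists_wS_split hr
  obtain ⟨n, hn⟩ := QuotientGroup.mk_surjective (BN.refl P r * wS J)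
  set sN : P.N := ⟨s.1, P.subset s.2⟩
  have hns : (QuotientGroup.mk (n * sN) : Weyl P) = wS J := by
    rw [QuotientGroup.mk_mul, hn]; exact e
  have hx' : x ∈ D.Rw (BN.refl P r * wS J) := D.X_le_Rw (by rwa [← mul_assoc, refl_sq, one_mul]) hx
  have hu' : u ∈ D.Rw (BN.refl P r * wS J) := D.Qr_le_Rw (wJ_mul (wJ_refl hr) (wS_spec J).1) hu
  obtain ⟨hxU, hy⟩ := (D.mem_Rw hn).1 hx'
  obtain ⟨huU, hz⟩ := (D.mem_Rw hn).1 hu'
  have hzs := ((D.mem_Rw hns).1 hu).2
  simp only [Subgroup.coe_mul, sN] at hzs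
  have hzs' : s.1⁻¹ * ((n : G)⁻¹ * u * n) * s.1 ∈ U := by
    convert hzs using 1
    group
  have := D.rad s.1 s.2 _ hy _ hz hzs'
  refine (D.mem_Rw hns).2 ⟨mul_mem (mul_mem hxU huU) (inv_mem hxU), ?_⟩
  simp only [Subgroup.coe_mul, sN]
  convert this using 1
  group

theorem borel_conj_Qr {J : Set P.S} {b : G} (hb : b ∈ P.B) :
    b ∈ Subgroup.normalizer (D.Qr J : Set G) := by
  set H := Subgroup.normalizer (D.Qr J : Set G)
  obtain ⟨u, hu, t, ht, rfl⟩ := D.split b hb
  refine mul_mem ?_ ?_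
  · obtain ⟨g, hg, -, hgu⟩ := D.exists_gen (J := J) (H := (H : Set G)) (one_mem H)
      (fun r hr x hx => Subgroup.mem_normalizer_iff.2 fun y => ⟨D.X_conj_Qr hr hx, fun h => by
        simpa [mul_assoc] using D.X_conj_Qr hr (inv_mem hx) h⟩)
      (fun a ha c hc => H.mul_mem ha hc) (fun r hr g hg _ _ => by
        have hrH : r.1 ∈ H := Subgroup.mem_normalizer_iff.2 fun y =>
          ⟨fun h => (D.refl_conj_Qr hr h).2, fun h => by
            simpa [mul_assoc] using (D.refl_conj_Qr hr h).1⟩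
        exact H.mul_mem (H.mul_mem hrH hg) (H.inv_mem hrH))
      (wS_spec J).1 hu
    simpa using H.mul_mem hg (Subgroup.le_normalizer hgu)
  · exact Subgroup.mem_normalizer_iff.2 fun y => ⟨D.torus_conj_Rw ht, fun h => by
      simpa [mul_assoc, Qr] using D.torus_conj_Rw (inv_mem ht) h⟩

theorem par_le_normalizer (J : Set P.S) :
    par P J ≤ Subgroup.normalizer (D.Qr J : Set G) := by
  refine sup_le (fun b hb => D.borel_conj_Qr hb) ((Subgroup.closure_le _).2 ?_)
  rintro _ ⟨r, hr, rfl⟩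
  exact Subgroup.mem_normalizer_iff.2 fun y =>
    ⟨fun h => (D.refl_conj_Qr hr h).2, fun h => by simpa [mul_assoc] using (D.refl_conj_Qr hr h).1⟩

theorem borel_ne_top (t : P.S) : P.B ≠ ⊤ := fun h => not_mem_B P t (h ▸ Subgroup.mem_top _)

theorem Qr_ne_bot {J : Set P.S} {t : P.S} (ht : t ∉ J) : D.Qr J ≠ ⊥ := fun h =>
  D.X_ne_bot t (eq_bot_iff.2 (h ▸ D.X_le_Qr ht))

variable [IsSimpleGroup G]

theorem notMem_normalizer {t : P.S} :
    t.1 ∉ Subgroup.normalizer (D.Qr {s | s ≠ t} : Set G) := by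
  intro ht
  set J : Set P.S := {s | s ≠ t}
  have htop : Subgroup.normalizer (D.Qr J : Set G) = ⊤ := by
    rw [eq_top_iff, ← parabolic_univ P]
    refine sup_le (fun b hb => D.borel_conj_Qr hb) ((Subgroup.closure_le _).2 fun s hs => ?_)
    by_cases h : (⟨s, hs⟩ : P.S) = t
    · have hst : s = t.1 := congrArg Subtype.val h
      rw [hst]; exact ht
    · exact D.par_le_normalizer J (simple_mem_par (J := J) (s := ⟨s, hs⟩) h)
  haveI : (D.Qr J).Normal := Subgroup.normalizer_eq_top_iff.1 htop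
  rcases IsSimpleGroup.eq_bot_or_eq_top_of_normal (D.Qr J) inferInstance with h | h
  · exact D.Qr_ne_bot (t := t) (by simp [J]) h
  · exact D.borel_ne_top t (eq_top_iff.2 (h ▸ (D.Qr_le J).trans D.le))

/-- The simple reflections do not fall into two commuting parts. -/
theorem exists_noncomm {A : Set P.S} {a t : P.S} (ha : a ∈ A) (ht : t ∉ A) :
    ∃ x ∈ A, ∃ y ∉ A, BN.refl P x * BN.refl P y ≠ BN.refl P y * BN.refl P x := by
  by_contra hc
  push Not at hc
  have hcomm : ∀ x : P.S, x ∉ A → ∀ u, WJ P A u → BN.refl P x * u = u * BN.refl P x := by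
    rintro x hx u ⟨L, hL, rfl⟩
    induction L with
    | nil => simp [wprod_nil]
    | cons c L ih =>
      have hc' := hc c (hL c List.mem_cons_self) x hx
      rw [wprod_cons, ← mul_assoc, ← hc', mul_assoc, ih fun s hs => hL s (List.mem_cons_of_mem _ hs),
        mul_assoc]
  have hdec : ∀ L : List P.S, ∃ u v, WJ P A u ∧ WJ P Aᶜ v ∧ wprod P L = u * v := by
    intro L
    induction L with
    | nil => exact ⟨1, 1, wJ_one A, wJ_one Aᶜ, by simp [wprod_nil]⟩
    | cons x L ih =>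
      obtain ⟨u, v, hu, hv, e⟩ := ih
      by_cases hx : x ∈ A
      · exact ⟨_, v, wJ_mul (wJ_refl hx) hu, hv, by rw [wprod_cons, e, mul_assoc]⟩
      · exact ⟨u, _, hu, wJ_mul (wJ_refl (J := Aᶜ) hx) hv,
          by rw [wprod_cons, e, ← mul_assoc, hcomm x hx u hu, mul_assoc]⟩
  set N := Subgroup.normalClosure (D.Qr Aᶜ : Set G)
  have hle : N ≤ par P A := by
    refine (Subgroup.closure_le _).2 ?_
    intro z hz
    obtain ⟨q, hq, g, rfl⟩ : ∃ q ∈ D.Qr Aᶜ, ∃ g, g * q * g⁻¹ = z := by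
      obtain ⟨q, hq, hconj⟩ := Group.mem_conjugatesOfSet_iff.1 hz
      exact ⟨q, hq, isConj_iff.1 hconj⟩
    obtain ⟨L, hL⟩ := exists_word P (cellOf P g)
    obtain ⟨u, v, hu, hv, e⟩ := hdec L
    obtain ⟨m, rfl⟩ := QuotientGroup.mk_surjective u
    obtain ⟨n, rfl⟩ := QuotientGroup.mk_surjective v
    have hg := mem_cellOf (P := P) g
    rw [← hL, e, ← QuotientGroup.mk_mul, cw_mk] at hg
    obtain ⟨b, hb, c, hc', rfl⟩ := (mem_cosetOf P).1 hg
    have hpar : (n : G) * c ∈ par P Aᶜ := mul_mem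
      (mem_par_iff.2 (by rw [cellOf_eq (P := P) (w := QuotientGroup.mk n)
        (by rw [cw_mk]; exact self_mem_cosetOf P _)]; exact hv)) (borel_le_par _ hc')
    have hbm : b * (m : G) ∈ par P A := mul_mem (borel_le_par _ hb)
      (mem_par_iff.2 (by rw [cellOf_eq (P := P) (w := QuotientGroup.mk m)
        (by rw [cw_mk]; exact self_mem_cosetOf P _)]; exact hu))
    have hq' : ((n : G) * c) * q * ((n : G) * c)⁻¹ ∈ par P A :=
      borel_le_par A (D.le (D.Qr_le _
        ((Subgroup.mem_normalizer_iff.1 (D.par_le_normalizer _ hpar) q).1 hq)))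
    have := mul_mem (mul_mem hbm hq') (inv_mem hbm)
    simp only [SetLike.mem_coe, Subgroup.coe_mul]
    convert this using 1
    group
  rcases IsSimpleGroup.eq_bot_or_eq_top_of_normal N inferInstance with h | h
  · exact D.Qr_ne_bot (J := Aᶜ) (t := a) (fun hh => hh ha)
      (eq_bot_iff.2 fun x hx => h ▸ Subgroup.subset_normalClosure hx)
  · have htA : t.1 ∈ par P A := hle (h ▸ Subgroup.mem_top _)
    rw [mem_par_iff, cellOf_eq (s_mem_cw P t)] at htA
    exact ht (mem_of_refl_wJ htA)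

theorem torus_pow_eq_one {x : G} (hx : x ∈ P.B ⊓ P.N) {k : ℕ} (hk : x ^ p ^ k = 1) : x = 1 := by
  have hxU := D.mem_of_pow hx.1 hk
  obtain ⟨n, hn⟩ := QuotientGroup.mk_surjective (w0 P)
  have hmem : x ∈ D.Rw (w0 P) := by
    refine (D.mem_Rw hn).2 ⟨hxU, D.mem_of_pow (k := k) ?_ ?_⟩
    · simpa using P.conj_mem n.1⁻¹ (P.N.inv_mem n.2) x hx
    · have := conj_pow (a := (n : G)⁻¹) (b := x) (i := p ^ k)
      rw [inv_inv] at this
      rw [this, hk, mul_one, inv_mul_cancel]
  rwa [D.Rw_w0, Subgroup.mem_bot] at hmem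

theorem centralizer_le_borel (t : P.S) :
    Subgroup.centralizer (D.Qr {s | s ≠ t} : Set G) ≤ P.B := by
  set J : Set P.S := {s | s ≠ t}
  set C := Subgroup.centralizer (D.Qr J : Set G)
  set H := Subgroup.normalizer (D.Qr J : Set G)
  have hCH : C ≤ H := Subgroup.centralizer_le_normalizer _
  have hHC : ∀ h ∈ H, ∀ c ∈ C, h * c * h⁻¹ ∈ C := by
    intro h hh c hc
    rw [Subgroup.mem_centralizer_iff] at hc ⊢
    intro q hq
    have hq' : h⁻¹ * q * h ∈ D.Qr J := by
      simpa using (Subgroup.mem_normalizer_iff.1 (inv_mem hh) q).1 hq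
    have e := congrArg (fun z => h * z * h⁻¹) (hc _ hq')
    simpa [mul_assoc] using e
  have hBnorm : P.B ≤ Subgroup.normalizer (C : Set G) := fun b hb =>
    Subgroup.mem_normalizer_iff.2 fun y => ⟨hHC b (D.borel_conj_Qr hb) y, fun h => by
      simpa [mul_assoc] using hHC b⁻¹ (inv_mem (D.borel_conj_Qr hb)) _ h⟩
  set M := C ⊔ P.B
  have hMH : M ≤ H := sup_le hCH fun b hb => D.borel_conj_Qr hb
  set A : Set P.S := {s | s.1 ∈ M}
  have hMA : M = par P A := by
    have hBM : P.B ≤ M := le_sup_right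
    refine (eq_parabolic P hBM).trans ?_
    rw [par]
    congr 1
    ext x
    simp [A, and_comm]
  have htA : t ∉ A := fun h => D.notMem_normalizer (hMH h)
  rcases Set.eq_empty_or_nonempty A with hA | ⟨a, ha⟩
  · intro c hc
    have : c ∈ M := Subgroup.mem_sup_left hc
    rw [hMA, hA, par_empty] at this
    exact this
  exfalso
  obtain ⟨s, hs, r, hr, hne⟩ := D.exists_noncomm ha htA
  obtain ⟨h3, h2, h2'⟩ := len_aba hne.symm
  have hsM : s.1 ∈ ((C ⊔ P.B : Subgroup G) : Set G) := hs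
  rw [Subgroup.coe_mul_of_right_le_normalizer_left C P.B hBnorm] at hsM
  obtain ⟨c, hc, β, hβ, e⟩ := hsM
  have hce : c = s.1 * β⁻¹ := by rw [← e]; simp
  by_cases hrt : r = t
  · subst hrt
    have hsr : s ≠ r := fun h => hr (h ▸ hs)
    refine D.X_ne_bot r (eq_bot_iff.2 fun y hy => ?_)
    have hyQ : y ∈ D.Qr J := D.X_le_Qr (by simp [J]) hy
    have hq : β * y * β⁻¹ ∈ D.Qr J :=
      (Subgroup.mem_normalizer_iff.1 (D.borel_conj_Qr hβ) y).1 hyQ
    have hcq := Subgroup.mem_centralizer_iff.1 hc _ hq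
    rw [hce] at hcq
    have hkey : β⁻¹ * (s.1 * y * s.1⁻¹) * β = β⁻¹ * (β * y * β⁻¹) * β := by
      have : s.1 * y * β⁻¹ = β * y * β⁻¹ * (s.1 * β⁻¹) := by
        rw [hcq]; group
      calc β⁻¹ * (s.1 * y * s.1⁻¹) * β = β⁻¹ * (s.1 * y * β⁻¹) * β * s.1⁻¹ * β := by group
        _ = _ := by rw [this]; group
    have hsy : s.1 * y * s.1⁻¹ = β * y * β⁻¹ := mul_left_cancel (mul_right_cancel hkey)
    have hsyU : s.1 * y * s.1⁻¹ ∈ U := by rw [hsy]; exact D.normal β hβ y (D.X_le r hy)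
    have hw := D.conj_Rw' hy hsyU
    have e1 := len_mul_w0 (BN.refl P s * BN.refl P r)
    have e2 := len_mul_w0 (BN.refl P r * (BN.refl P s * BN.refl P r))
    rw [mul_assoc] at e1
    rw [mul_assoc, mul_assoc] at e2
    have hlen := D.Rw_le_refl (s := r) (by omega) hw
    obtain ⟨hU, hr'⟩ := D.mem_Rw_refl.1 hlen
    rw [hsy] at hU hr'
    obtain ⟨u, hu, τ, hτ, rfl⟩ := D.split β hβ
    have h4 := D.rad r.1 r.2 _ (inv_mem hu) _ hU hr'
    have hrt : r.1⁻¹ * (τ * y * τ⁻¹) * r.1 ∈ U := by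
      convert h4 using 1
      group
    have h5 := D.torus_conj_Rw (inv_mem hτ)
      (D.mem_Rw_refl.2 ⟨D.normal τ hτ.1 y (D.X_le r hy), hrt⟩)
    rw [show τ⁻¹ * (τ * y * τ⁻¹) * τ⁻¹⁻¹ = y by group] at h5
    have h6 : y ∈ D.Rw (BN.refl P r) ⊓ D.X r := ⟨h5, hy⟩
    rwa [D.X_inf] at h6
  · have hrH : r.1 ∈ H := D.par_le_normalizer J (simple_mem_par (J := J) hrt)
    have hcs : c ∈ cw P (BN.refl P s) := by
      rw [hce]; exact mem_cw_right P (inv_mem hβ) (s_mem_cw P s)
    have h1 := mul_of_len_ge P r _ (BN.refl P s) le_rfl (by rw [h2', len_refl]; omega) _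
      (s_mem_cw P r) _ hcs
    have hrinv : r.1⁻¹ ∈ cw P (BN.refl P r) := by
      have := inv_mem_cw P (s_mem_cw P r); rwa [refl_inv] at this
    have hmem : r.1 * c * r.1⁻¹ ∈ cw P (BN.refl P r * (BN.refl P s * BN.refl P r)) := by
      rcases refl_mul_cw P h1 hrinv with h | h
      · rwa [mul_assoc] at h
      · exfalso
        have hsr' : len P (BN.refl P r * BN.refl P s) <
            len P (BN.refl P r * BN.refl P s * BN.refl P r) := by rw [mul_assoc]; omega
        have h' := mul_of_len_ge P r _ (BN.refl P s * BN.refl P r) le_rfl (by omega) _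
          (s_mem_cw P r) _ (mul_of_len_ge P s _ (BN.refl P r) le_rfl (by rw [len_refl]; omega) _
            hcs _ hrinv)
        rw [← mul_assoc, ← mul_assoc] at h'
        have := eq_of_mem P h h'
        rw [eq_comm, mul_eq_left] at this
        exact refl_ne_one P r this
    have hM : r.1 * c * r.1⁻¹ ∈ M := Subgroup.mem_sup_left (hHC _ hrH _ hc)
    rw [hMA, mem_par_iff, cellOf_eq hmem] at hM
    have := len_lt_of_notMem hM hr
    rw [← mul_assoc (BN.refl P r) (BN.refl P r), refl_sq, one_mul] at this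
    omega

/-- The centraliser of a maximal radical is a `p`-group. -/
theorem isPGroup_centralizer [Fact p.Prime] (t : P.S) :
    IsPGroup p (Subgroup.centralizer (D.Qr {s | s ≠ t} : Set G)) := by
  set J : Set P.S := {s | s ≠ t}
  set C := Subgroup.centralizer (D.Qr J : Set G)
  have hCB : C ≤ P.B := D.centralizer_le_borel t
  have hp : p.Prime := Fact.out
  have hinv : ∀ h ∈ par P J, ∀ z ∈ C, z ∈ U → h * z * h⁻¹ ∈ U := by
    intro h hh z hz hzU
    obtain ⟨k, hk⟩ := D.isP ⟨z, hzU⟩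
    have hk' : z ^ p ^ k = 1 := congrArg Subtype.val hk
    refine D.mem_of_pow (k := k) (hCB ?_) ?_
    · rw [Subgroup.mem_centralizer_iff]
      intro q hq
      have hn := D.par_le_normalizer J hh
      have hq' : h⁻¹ * q * h ∈ D.Qr J := by
        simpa using (Subgroup.mem_normalizer_iff.1 (inv_mem hn) q).1 hq
      have e := congrArg (fun w => h * w * h⁻¹) (Subgroup.mem_centralizer_iff.1 hz _ hq')
      simpa [mul_assoc] using e
    · rw [conj_pow, hk', mul_one, mul_inv_cancel]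
  have hCU : ∀ z ∈ C, z ∈ U → z ∈ D.Qr J := by
    intro z hz hzU
    obtain ⟨n, hn⟩ := QuotientGroup.mk_surjective (wS J)
    refine (D.mem_Rw hn).2 ⟨hzU, ?_⟩
    have hnp : (n : G) ∈ par P J := mem_par_iff.2 (by
      rw [cellOf_eq (P := P) (w := wS J) (by rw [← hn, cw_mk]; exact self_mem_cosetOf P _)]
      exact (wS_spec J).1)
    simpa using hinv _ (inv_mem hnp) z hz hzU
  -- elements of order prime to `p` are trivial
  have key : ∀ k ∈ C, ¬ p ∣ orderOf k → k = 1 := by
    intro k hk hkp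
    have hco : ∀ e, (orderOf k).Coprime (p ^ e) := fun e =>
      ((hp.coprime_iff_not_dvd.2 hkp).symm).pow_right e
    obtain ⟨u₀, hu₀, τ, hτ, hk_eq⟩ := D.split k (hCB hk)
    have hcU : ∀ u ∈ U, u * k = k * u := by
      intro u hu
      set z := u * k * u⁻¹ * k⁻¹ with hz
      have hzU : z ∈ U := by
        rw [hz, show u * k * u⁻¹ * k⁻¹ = u * (k * u⁻¹ * k⁻¹) by group]
        exact mul_mem hu (D.normal k (hCB hk) _ (inv_mem hu))
      have hzC : z ∈ C := by
        refine mul_mem ?_ (inv_mem hk)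
        rw [Subgroup.mem_centralizer_iff]
        intro q hq
        have hn := D.borel_conj_Qr (J := J) (D.le hu)
        have hq' : u⁻¹ * q * u ∈ D.Qr J := by
          simpa using (Subgroup.mem_normalizer_iff.1 (inv_mem hn) q).1 hq
        have e := congrArg (fun w => u * w * u⁻¹) (Subgroup.mem_centralizer_iff.1 hk _ hq')
        simpa [mul_assoc] using e
      have hzk : Commute z k := Subgroup.mem_centralizer_iff.1 hk z (hCU z hzC hzU)
      have h1 : (z * k) ^ orderOf k = 1 := by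
        rw [show z * k = u * k * u⁻¹ by rw [hz]; group, conj_pow, pow_orderOf_eq_one, mul_one,
          mul_inv_cancel]
      rw [hzk.mul_pow, pow_orderOf_eq_one, mul_one] at h1
      obtain ⟨e, he⟩ := D.isP ⟨z, hzU⟩
      have he' : z ^ p ^ e = 1 := congrArg Subtype.val he
      have hz1 : z = 1 := by
        have := Nat.dvd_gcd (orderOf_dvd_of_pow_eq_one h1) (orderOf_dvd_of_pow_eq_one he')
        rw [(hco e).gcd_eq_one, Nat.dvd_one, orderOf_eq_one_iff] at this
        exact this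
      rw [hz1, eq_comm, mul_inv_eq_one, mul_inv_eq_iff_eq_mul] at hz
      exact hz
    have hkT : k ∈ P.B ⊓ P.N := by
      have hcom : Commute u₀⁻¹ k := hcU _ (inv_mem hu₀)
      have hτe : τ = u₀⁻¹ * k := by rw [hk_eq, inv_mul_cancel_left]
      obtain ⟨e, he⟩ := D.isP ⟨_, inv_mem hu₀⟩
      have he' : u₀⁻¹ ^ p ^ e = 1 := congrArg Subtype.val he
      have hpow : τ ^ orderOf k = u₀⁻¹ ^ orderOf k := by
        rw [hτe, hcom.mul_pow, pow_orderOf_eq_one, mul_one]
      have h2 : τ ^ orderOf k = 1 := by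
        refine D.torus_pow_eq_one ((P.B ⊓ P.N).pow_mem hτ _) (k := e) ?_
        rw [hpow, ← pow_mul, mul_comm, pow_mul, he', one_pow]
      rw [hpow] at h2
      have : u₀⁻¹ = 1 := by
        have := Nat.dvd_gcd (orderOf_dvd_of_pow_eq_one h2) (orderOf_dvd_of_pow_eq_one he')
        rw [(hco e).gcd_eq_one, Nat.dvd_one, orderOf_eq_one_iff] at this
        exact this
      rw [hk_eq, inv_eq_one.1 this, one_mul]
      exact hτ
    have hcore : k ∈ P.B.normalCore := by
      intro g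
      obtain ⟨n, hn, hgn⟩ := BN.bruhat P g⁻¹
      obtain ⟨u, hu, b, hb, e⟩ := (D.mem_cw_iff ⟨n, hn⟩).1 hgn
      have hg : g = b⁻¹ * n⁻¹ * u⁻¹ := by
        rw [← inv_inv g, e]; simp [mul_assoc]
      have hku : u⁻¹ * k * u = k := by
        rw [mul_assoc, ← hcU u hu, inv_mul_cancel_left]
      have h := P.conj_mem n⁻¹ (P.N.inv_mem hn) k hkT
      rw [inv_inv] at h
      have h' := mul_mem (mul_mem (inv_mem hb) h) hb
      rw [hg, show b⁻¹ * n⁻¹ * u⁻¹ * k * (b⁻¹ * n⁻¹ * u⁻¹)⁻¹ = b⁻¹ * (n⁻¹ * (u⁻¹ * k * u) * n) * b by group,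
        hku]
      exact h'
    rcases IsSimpleGroup.eq_bot_or_eq_top_of_normal P.B.normalCore inferInstance with h | h
    · rwa [h, Subgroup.mem_bot] at hcore
    · exact absurd (eq_top_iff.2 (h ▸ P.B.normalCore_le)) (D.borel_ne_top t)
  rintro ⟨x, hx⟩
  obtain ⟨e, m, hm, hxo⟩ := Nat.exists_eq_pow_mul_and_not_dvd (orderOf_pos x).ne' p hp.ne_one
  refine ⟨e, Subtype.ext (key (x ^ p ^ e) (pow_mem hx _) ?_)⟩
  have : orderOf (x ^ p ^ e) = m := by
    rw [orderOf_pow_of_dvd (pow_ne_zero _ hp.ne_zero) (hxo ▸ dvd_mul_right _ _), hxo,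
      Nat.mul_div_cancel_left _ (pow_pos hp.pos _)]
  rw [this]
  exact hm

end Split

end CfsgLib.SplitBN
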