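import Cfsg.Agent.SplitBN.Quot
import Cfsg.Prelude.Def_Local

/-!
# Overgroups of a Sylow subgroup in a split Tits system
-/

set_option autoImplicit false
set_option linter.style.haveILetI false
set_option linter.unusedSectionVars false

namespace CfsgLib.SplitBN

open CfsgLib.BN CfsgLib.StCh

attribute [local instance] torus_normal

variable {G : Type*} [Group G] [Finite G] {P : Cfsg.BNPair G} {p : ℕ} {U : Subgroup G}

namespace Split

variable (D : Split P p U)
include D

/-- A monomial element of `M` descending at `s` yields one with image `s`. -/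
theorem exists_refl_of_descent {M : Subgroup G} (hM : U ≤ M) {n : P.N} (hn : n.1 ∈ M) {s : P.S}
    (h : len P (BN.refl P s * QuotientGroup.mk n) < len P (QuotientGroup.mk n)) :
    ∃ m : P.N, m.1 ∈ M ∧ (QuotientGroup.mk m : Weyl P) = BN.refl P s := by
  obtain ⟨⟨x, hx⟩, hx'⟩ := Subgroup.ne_bot_iff_exists_ne_one.1 (D.X_ne_bot s)
  have hx1 : x ≠ 1 := fun e => hx' (Subtype.ext e)
  set sN : P.N := ⟨s.1, P.subset s.2⟩
  have hv : (QuotientGroup.mk (sN⁻¹ * n) : Weyl P) = BN.refl P s * QuotientGroup.mk n := by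
    rw [QuotientGroup.mk_mul, QuotientGroup.mk_inv]
    exact congrArg (· * _) (refl_inv P s)
  have hxv : x ∈ D.Rw (BN.refl P s * QuotientGroup.mk n) :=
    D.X_le_Rw (by rwa [← mul_assoc, refl_sq, one_mul]) hx
  have h2 := ((D.mem_Rw hv).1 hxv).2
  set y := s.1 * x * s.1⁻¹ with hy
  have hyM : y ∈ M := by
    have := M.mul_mem (M.mul_mem hn (hM h2)) (M.inv_mem hn)
    convert this using 1
    simp only [hy, sN, Subgroup.coe_mul, Subgroup.coe_inv]
    group
  have hyB : y ∉ P.B := fun hB => by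
    obtain ⟨k, hk⟩ := D.isP ⟨x, D.X_le s hx⟩
    have hk' : x ^ p ^ k = 1 := congrArg Subtype.val hk
    have hyU : y ∈ U := D.mem_of_pow hB (k := k) (by rw [hy, conj_pow, hk', mul_one, mul_inv_cancel])
    have : x ∈ D.Rw (BN.refl P s) ⊓ D.X s :=
      ⟨D.mem_Rw_refl.2 ⟨D.X_le s hx, D.conj_sq.2 hyU⟩, hx⟩
    rw [D.X_inf, Subgroup.mem_bot] at this
    exact hx1 this
  have hcell : y ∈ cw P (BN.refl P s) := by
    have h1 : s.1 * x ∈ cw P (BN.refl P s) := mem_cw_right P (D.le (D.X_le s hx)) (s_mem_cw P s)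
    have h3 : s.1⁻¹ ∈ cw P (BN.refl P s) := by
      have := inv_mem_cw P (s_mem_cw P s); rwa [refl_inv] at this
    rcases mul_cw_refl P h1 h3 with e | e
    · rw [refl_sq] at e; exact absurd ((mem_B_iff_cw_one P).2 e) hyB
    · exact e
  obtain ⟨u, hu, b, hb, e⟩ := (D.mem_cw_iff sN).1 hcell
  obtain ⟨u', hu', t, ht, rfl⟩ := D.split b hb
  have htu : t⁻¹ * u' * t ∈ U := D.normal' ht.1 hu'
  refine ⟨sN * ⟨t, ht.2⟩, ?_, ?_⟩
  · have := M.mul_mem (M.mul_mem (M.inv_mem (hM hu)) hyM) (M.inv_mem (hM htu))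
    convert this using 1
    rw [e]
    simp only [sN, Subgroup.coe_mul]
    group
  · rw [QuotientGroup.mk_mul, (QuotientGroup.eq_one_iff (⟨t, ht.2⟩ : P.N)).2 (Subgroup.mem_subgroupOf.2 ht), mul_one]
    rfl

/-- A subgroup containing `U` and a monomial element for each simple reflection contains every
conjugate of `U`. -/
theorem normalClosure_le {M : Subgroup G} (hM : U ≤ M)
    (hS : ∀ s : P.S, ∃ m : P.N, m.1 ∈ M ∧ (QuotientGroup.mk m : Weyl P) = BN.refl P s) :
    Subgroup.normalClosure (U : Set G) ≤ M := by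
  have hW : ∀ L : List P.S, ∃ m : P.N, m.1 ∈ M ∧ (QuotientGroup.mk m : Weyl P) = wprod P L := by
    intro L
    induction L with
    | nil => exact ⟨1, M.one_mem, rfl⟩
    | cons s L ih =>
      obtain ⟨a, ha, ea⟩ := hS s
      obtain ⟨c, hc, ec⟩ := ih
      exact ⟨a * c, M.mul_mem ha hc, by rw [QuotientGroup.mk_mul, ea, ec, wprod_cons]⟩
  refine (Subgroup.closure_le _).2 fun z hz => ?_
  obtain ⟨v, hv, hc⟩ := Group.mem_conjugatesOfSet_iff.1 hz
  obtain ⟨g, hg⟩ := isConj_iff.1 hc
  obtain ⟨w, hw⟩ := exists_mem_cw P g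
  obtain ⟨L, rfl⟩ := exists_word P w
  obtain ⟨m, hm, em⟩ := hW L
  rw [← em] at hw
  obtain ⟨u, hu, b, hb, rfl⟩ := (D.mem_cw_iff m).1 hw
  rw [← hg]
  have := M.mul_mem (M.mul_mem (hM hu) (M.mul_mem (M.mul_mem hm (hM (D.normal b hb v hv))) (M.inv_mem hm)))
    (M.inv_mem (hM hu))
  show _ ∈ M
  convert this using 1
  group

/-- An overgroup of `U` with trivial `p`-core meets every simple reflection class. -/
theorem overgroup_refl {M : Subgroup G} (hM : U ≤ M)
    (hcore : ∀ Q : Subgroup G, Q ≤ M → IsPGroup p Q → M ≤ Subgroup.normalizer (Q : Set G) → Q = ⊥)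
    (s : P.S) : ∃ m : P.N, m.1 ∈ M ∧ (QuotientGroup.mk m : Weyl P) = BN.refl P s := by
  by_contra hcon
  set J : Set P.S := {t | ∃ m : P.N, m.1 ∈ M ∧ (QuotientGroup.mk m : Weyl P) = BN.refl P t}
  have hs : s ∉ J := hcon
  have hpar : ∀ (k : ℕ) (n : P.N), n.1 ∈ M → len P (QuotientGroup.mk n) ≤ k → n.1 ∈ par P J := by
    intro k
    induction k with
    | zero =>
      intro n _ hk
      have h1 := eq_one_of_len P (Nat.le_zero.1 hk)
      have h2 : n ∈ torus P := (QuotientGroup.eq_one_iff n).1 h1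
      exact Subgroup.mem_sup_left (Subgroup.mem_subgroupOf.1 h2).1
    | succ k ih =>
      intro n hn hk
      obtain ⟨L, hL, hlen⟩ := exists_reduced P (QuotientGroup.mk n)
      cases L with
      | nil => exact ih n hn (by rw [List.length_nil] at hlen; omega)
      | cons t L =>
        rw [wprod_cons] at hL
        rw [List.length_cons] at hlen
        have htl : BN.refl P t * QuotientGroup.mk n = wprod P L := by
          rw [← hL, ← mul_assoc, refl_sq, one_mul]
        have hlt : len P (BN.refl P t * QuotientGroup.mk n) < len P (QuotientGroup.mk n) := by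
          rw [htl]; have := len_le P L; omega
        obtain ⟨m, hm, em⟩ := D.exists_refl_of_descent hM hn hlt
        have hrec := ih (m⁻¹ * n) (M.mul_mem (M.inv_mem hm) hn) (by
          rw [QuotientGroup.mk_mul, QuotientGroup.mk_inv, em, refl_inv]; omega)
        have hmP : m.1 ∈ par P J := by
          have htm : t ∈ J := ⟨m, hm, em⟩
          have ht : t.1 ∈ par P J :=
            Subgroup.mem_sup_right (Subgroup.subset_closure (Set.mem_image_of_mem _ htm))
          have e : ((⟨t.1, P.subset t.2⟩ : P.N)⁻¹ * m).1 ∈ P.B := by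
            have h2 : (⟨t.1, P.subset t.2⟩ : P.N)⁻¹ * m ∈ torus P :=
              (QuotientGroup.eq_one_iff _).1 (by
                rw [QuotientGroup.mk_mul, em, QuotientGroup.mk_inv]; exact inv_mul_cancel _)
            exact (Subgroup.mem_subgroupOf.1 h2).1
          have := mul_mem ht (Subgroup.mem_sup_left (T := Subgroup.closure (Subtype.val '' J)) e)
          simpa [mul_assoc] using this
        have := mul_mem hmP hrec
        simpa [mul_assoc] using this
  have hle : M ≤ par P J := by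
    intro g hg
    obtain ⟨w, hw⟩ := exists_mem_cw P g
    obtain ⟨n, rfl⟩ := QuotientGroup.mk_surjective w
    obtain ⟨u, hu, b, hb, rfl⟩ := (D.mem_cw_iff n).1 hw
    obtain ⟨u', hu', t, ht, rfl⟩ := D.split b hb
    have h1 : n.1 * (u' * t) ∈ M := by
      simpa [mul_assoc] using M.mul_mem (M.inv_mem (hM hu)) hg
    have htu : t⁻¹ * u' * t ∈ U := D.normal' ht.1 hu'
    have hnt : (n * ⟨t, ht.2⟩ : P.N).1 ∈ M := by
      have := M.mul_mem h1 (M.inv_mem (hM htu))
      convert this using 1
      simp only [Subgroup.coe_mul]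
      group
    have hP := hpar _ _ hnt le_rfl
    have hU : U ≤ par P J := D.le.trans le_sup_left
    have := mul_mem (mul_mem (hU hu) hP) (hU htu)
    convert this using 1
    simp only [Subgroup.coe_mul]
    group
  exact D.Qr_ne_bot hs (hcore _ ((D.Qr_le J).trans hM) (D.isP.to_le (D.Qr_le J))
    (hle.trans (D.par_le_normalizer J)))

/-- Overgroups of a Sylow subgroup with trivial `p`-core are everything. -/
theorem eq_top_of_pCore [IsSimpleGroup G] [Fact p.Prime] (hS : P.S.Nonempty) (M : Subgroup G)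
    (hcore : Cfsg.pCore p ↥M = ⊥) (hidx : ¬ p ∣ M.index) : M = ⊤ := by
  obtain ⟨S, hSU⟩ := D.sylow
  obtain ⟨T⟩ := (inferInstance : Nonempty (Sylow p M))
  obtain ⟨V, hV⟩ := (IsPGroup.map T.isPGroup' M.subtype).exists_le_sylow
  have hVeq : (T : Subgroup M).map M.subtype = (V : Subgroup G) := by
    refine Subgroup.eq_of_le_of_card_ge hV (Nat.le_of_dvd Nat.card_pos ?_)
    rw [Nat.card_congr (Subgroup.equivMapOfInjective _ _ M.subtype_injective).symm.toEquiv,
      V.card_eq_multiplicity, T.card_eq_multiplicity, ← Subgroup.card_mul_index M,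
      Nat.factorization_mul Nat.card_pos.ne' Subgroup.index_ne_zero_of_finite, Finsupp.add_apply,
      Nat.factorization_eq_zero_of_not_dvd hidx, Nat.add_zero]
  obtain ⟨g, hg⟩ := MulAction.exists_smul_eq G V S
  set M' : Subgroup G := M.map (MulAut.conj g).toMonoidHom with hM'
  have hUM : U ≤ M' := by
    rw [← hSU, ← hg]
    intro x hx
    rw [Sylow.coe_subgroup_smul, Subgroup.mem_smul_pointwise_iff_exists] at hx
    obtain ⟨y, hy, rfl⟩ := hx
    rw [← hVeq] at hy
    exact Subgroup.mem_map.2 ⟨y, Subgroup.map_subtype_le _ hy, rfl⟩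
  have hall : ∀ Q : Subgroup G, Q ≤ M' → IsPGroup p Q → M' ≤ Subgroup.normalizer (Q : Set G) → Q = ⊥ := by
    intro Q hQ hQp hQn
    set e : M →* G := (MulAut.conj g).toMonoidHom.comp M.subtype
    have hinj : Function.Injective e := fun a b h => Subtype.ext ((MulAut.conj g).injective h)
    have hn : (Q.comap e).Normal := by
      refine ⟨fun a ha m => ?_⟩
      have := (Subgroup.mem_normalizer_iff.1 (hQn (Subgroup.mem_map_of_mem _ m.2 :
        e m ∈ M')) (e a)).1 ha
      rw [Subgroup.mem_comap, map_mul, map_mul, map_inv]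
      exact this
    have hp : IsPGroup p (Q.comap e) := hQp.comap_of_injective e hinj
    have h0 : Q.comap e = ⊥ := le_bot_iff.1 (hcore ▸
      (Set.mem_setOf.2 ⟨hn, hp⟩ |> fun h => (le_sSup h : Q.comap e ≤ Cfsg.pCore p ↥M)))
    refine eq_bot_iff.2 fun x hx => ?_
    obtain ⟨y, hy, hxy⟩ := Subgroup.mem_map.1 (hQ hx)
    have : (⟨y, hy⟩ : M) ∈ Q.comap e := by
      rw [Subgroup.mem_comap]; exact hxy.symm ▸ hx
    rw [h0, Subgroup.mem_bot] at this
    rw [Subgroup.mem_bot, ← hxy, show y = 1 from congrArg Subtype.val this, map_one]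
  have htop : M' = ⊤ := by
    have hne : Subgroup.normalClosure (U : Set G) ≠ ⊥ := fun h => by
      obtain ⟨s, hs⟩ := hS
      exact D.X_ne_bot ⟨s, hs⟩ (le_bot_iff.1 (h ▸ (D.X_le _).trans Subgroup.le_normalClosure))
    have := ((inferInstance : (Subgroup.normalClosure (U : Set G)).Normal).eq_bot_or_eq_top).resolve_left hne
    exact top_le_iff.1 (this ▸ D.normalClosure_le hUM (D.overgroup_refl hUM hall))
  exact Subgroup.map_injective (MulAut.conj g).injective
    (htop.trans (Subgroup.map_top_of_surjective _ (MulAut.conj g).surjective).symm)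

end Split

theorem HasSplit.eq_top_of_pCore [Fact p.Prime] [IsSimpleGroup G] (h : HasSplit p G) (M : Subgroup G)
    (hcore : Cfsg.pCore p ↥M = ⊥) (hidx : ¬ p ∣ M.index) : M = ⊤ := by
  obtain ⟨P, U, D, hS⟩ := h
  exact D.eq_top_of_pCore hS M hcore hidx

end CfsgLib.SplitBN
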