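import Cfsg.Agent.SplitBN.Rank
import Cfsg.Agent.Chev.RadicalChain
import Cfsg.Agent.ChevAut.OutParts
import Cfsg.Agent.ChevAut.OutCount

/-!
# The automorphisms of `G₂` fixing a Borel subgroup fix both minimal parabolic subgroups
-/

set_option autoImplicit false
set_option linter.style.haveILetI false
set_option linter.unusedSectionVars false

namespace CfsgLib.SplitBN

open Cfsg.Lie CfsgLib.Chev CfsgLib.Chev.Tab CfsgLib.BN CfsgLib.StCh Matrix
open scoped MatrixGroups

attribute [local instance] torus_normal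

theorem rigid_G2 {F : Type*} [Field F] [Fintype F] (p : ℕ) [Fact p.Prime] [CharP F p]
    (h3 : ((3 : ℕ) : F) ≠ 0) : Rigid p (chevG2.group F) := by
  haveI : Finite (GL chevG2.Idx F) := Finite.of_injective Units.val Units.val_injective
  set G := good_G2
  set P := G.bnPair F
  have D := G.split (F := F) p
  refine ⟨P, _, D, ⟨_, (G.sref F ⟨0, by decide⟩).2⟩, ?_, fun θ hθ s => ?_⟩
  · rw [← Nat.card_congr (Equiv.ofBijective _ (G.sref_bijective (F := F))), Nat.card_eq_fintype_card,
      Fintype.card_fin]
    rfl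
  have hD : chevG2 ∈ [chevG2, chevB2, chevD4, chevF4, chevE6, chevE7, chevE8] := List.mem_cons_self ..
  obtain ⟨x, χ, π, σ, d, g, f, hχ, hd, -, -, hg, hgfix, -, hf, e⟩ := aut_decomp' hD θ
  obtain rfl : π = 1 := by
    have : π ∈ graphPerms chevG2 F := ⟨g, hg, hgfix⟩
    rwa [(graphPerms_G2 F).2 h3] at this
  set M : MulAut (chevG2.group F) := d * g * f with hM
  obtain ⟨hfix, hact⟩ := G.isStd_comp hD hχ hd hg hgfix hf
  rw [← hM] at hfix hact
  obtain ⟨i, rfl⟩ := (G.sref_bijective (F := F)).2 s
  -- the part of the decomposition fixing the roots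
  have hpar : par P ({G.sref F i} : Set P.S) =
      (chevG2.parabolicSubgroup F {i.val}).subgroupOf (chevG2.group F) := by
    rw [G.parabolic_subgroupOf, par]
    congr 1
    ext y
    simp only [Set.image_singleton, Set.mem_singleton_iff, Tab.Good.refSet, Set.mem_ofPred_eq]
    exact ⟨fun h => ⟨i, rfl, h⟩, fun ⟨j, hj, e⟩ => by rw [e, Fin.ext hj]⟩
  have hMP : (par P ({G.sref F i} : Set P.S)).map M.toMonoidHom = par P ({G.sref F i} : Set P.S) := by
    refine Subgroup.eq_of_le_of_card_ge ?_ (Nat.le_of_eq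
      (Subgroup.card_map_of_injective M.injective).symm)
    have hns : G.full.ns F i ∈
        ((par P ({G.sref F i} : Set P.S)).comap M.toMonoidHom).map (chevG2.group F).subtype := by
      have hx : ∀ r (_ : G2Data.tab.InJ {i.val} r) (a : F → F)
          (_ : ∀ t, gA M (G.full.x r t) = G.full.x r (a t)) (t : F),
          G.full.x r t ∈
            ((par P ({G.sref F i} : Set P.S)).comap M.toMonoidHom).map (chevG2.group F).subtype := by
        intro r hr a ha t
        refine ⟨⟨_, G.x_mem_group r t⟩, ?_, rfl⟩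
        rw [SetLike.mem_coe, Subgroup.mem_comap, hpar, Subgroup.mem_subgroupOf, MulEquiv.coe_toMonoidHom,
          ← gA_coe, ha, G.parabolic_eq_closure]
        exact Subgroup.mem_sup_right (Subgroup.subset_closure
          ⟨r, a t, Or.inr (G.inRootSub_iff.mpr hr), G.full.coe_x' r (a t)⟩)
      have h := G.inJ_simple.mpr (show i.val ∈ ({i.val} : Set ℕ) from rfl)
      exact mul_mem (mul_mem (hx _ h _ (hact.pos i) _) (hx _ (G.inJ_negR h) _ (hact.neg i) _))
        (hx _ h _ (hact.pos i) _)
    rw [Subgroup.map_le_iff_le_comap]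
    refine sup_le (fun b hb => ?_) ((Subgroup.closure_le _).2 ?_)
    · rw [← D.normalizer_eq] at hb
      refine borel_le_par (P := P) _ ?_
      rw [← D.normalizer_eq, MulEquiv.coe_toMonoidHom, Subgroup.mem_normalizer_iff]
      intro y
      have hb' := Subgroup.mem_normalizer_iff.1 hb (M.symm y)
      have hiff : ∀ z, M z ∈ (chevG2.posUnipotent F).subgroupOf (chevG2.group F) ↔
          z ∈ (chevG2.posUnipotent F).subgroupOf (chevG2.group F) := fun z => by
        rw [Subgroup.mem_subgroupOf, Subgroup.mem_subgroupOf, ← gA_coe]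
        exact hfix.pos _ z.2
      rw [← hiff, ← hiff (b * M.symm y * b⁻¹), MulEquiv.apply_symm_apply, map_mul, map_mul, map_inv,
        MulEquiv.apply_symm_apply] at hb'
      exact hb'
    · rintro _ ⟨t, ht, rfl⟩
      obtain rfl : t = G.sref F i := ht
      obtain ⟨y, hy, e'⟩ := hns
      obtain rfl : y = (G.sref F i).1 := Subtype.ext e'
      exact hy
  have hθe : θ = MulAut.conj x * M := MulEquiv.ext fun y => e y
  have h := D.sym_spec θ hθ (G.sref F i)
  generalize D.sym θ hθ (G.sref F i) = t at h ⊢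
  rw [hθe, show (MulAut.conj x * M).toMonoidHom = (MulAut.conj x).toMonoidHom.comp M.toMonoidHom from rfl,
    ← Subgroup.map_map, hMP] at h
  rw [hθe, show (MulAut.conj x * M).toMonoidHom = (MulAut.conj x).toMonoidHom.comp M.toMonoidHom from rfl,
    ← Subgroup.map_map, hMP, h]
  exact (parabolic_conj_eq P x h).symm

end CfsgLib.SplitBN
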