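import Mathlib.GroupTheory.SpecificGroups.Alternating

/-!
# Finite checks in the symmetric group of degree six
-/

set_option autoImplicit false
set_option maxRecDepth 100000
set_option synthInstance.maxSize 2000
set_option synthInstance.maxHeartbeats 400000

namespace CfsgLib.SplitBN.Six

open Equiv

abbrev A6 : Type := alternatingGroup (Fin 6)

/-- The pairing. -/
def π : Perm (Fin 6) := swap 0 1 * swap 2 3 * swap 4 5

/-- The transposition. -/
def τ : Perm (Fin 6) := swap 4 5

/-- An element of the standard Sylow subgroup. -/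
def elt (i j k : Fin 2) : Perm (Fin 6) :=
  (swap 0 1 * swap 2 3) ^ i.val * (swap 0 2 * swap 1 3) ^ j.val * (swap 0 1 * swap 4 5) ^ k.val

theorem elt_mem : ∀ i j k : Fin 2, Perm.sign (elt i j k) = 1 ∧ elt i j k * π = π * elt i j k ∧
    elt i j k * τ = τ * elt i j k := by decide +kernel

theorem five : ∀ g : Perm (Fin 6), g ^ 5 = 1 → g ≠ 1 → ∃ i j k : Fin 2,
    ((g * elt i j k) ^ 3 = 1 ∧ g * elt i j k ≠ 1) ∨ ((g ^ 2 * elt i j k) ^ 3 = 1 ∧ g ^ 2 * elt i j k ≠ 1) := by
  decide +kernel

end CfsgLib.SplitBN.Six
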