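import Mathlib.GroupTheory.SpecificGroups.Alternating
import Cfsg.Agent.SplitBN.SixDataA

/-!
# Finite checks in the symmetric group of degree six
-/

set_option autoImplicit false
set_option maxRecDepth 100000
set_option synthInstance.maxSize 2000
set_option synthInstance.maxHeartbeats 400000

namespace CfsgLib.SplitBN.Six

open Equiv

theorem three : ∀ g : Perm (Fin 6), g ^ 3 = 1 → g * π ≠ π * g → g * τ ≠ τ * g →
    ∃ i j k : Fin 2, (g * elt i j k) ^ 5 = 1 ∧ g * elt i j k ≠ 1 := by decide +kernel

theorem counts :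
    (Finset.univ.filter fun σ : Perm (Fin 6) => Perm.sign σ = 1 ∧ σ * π = π * σ).card = 24 ∧
      (Finset.univ.filter fun σ : Perm (Fin 6) => Perm.sign σ = 1 ∧ σ * τ = τ * σ).card = 24 ∧
      (Finset.univ.filter fun σ : Perm (Fin 6) =>
        Perm.sign σ = 1 ∧ σ * π = π * σ ∧ σ * τ = τ * σ).card = 8 := by decide +kernel

end CfsgLib.SplitBN.Six
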