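import Cfsg.Agent.SplitBN.PMinSetup
import Cfsg.Agent.SplitBN.SmallChev
import Cfsg.Agent.SplitBN.SixDataB

/-!
# `2`-minimal groups over `A₆`
-/

set_option autoImplicit false
set_option linter.style.haveILetI false
set_option linter.unusedSectionVars false
set_option maxRecDepth 100000
set_option synthInstance.maxSize 2000
set_option synthInstance.maxHeartbeats 400000

namespace CfsgLib.SplitBN.Six

open Equiv

/-- The subgroup preserving the pairing. -/
def Q1 : Subgroup A6 := (Subgroup.centralizer {π}).subgroupOf _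

/-- The subgroup preserving the pair. -/
def Q2 : Subgroup A6 := (Subgroup.centralizer {τ}).subgroupOf _

/-- The standard Sylow subgroup. -/
def U0 : Subgroup A6 := Q1 ⊓ Q2

theorem mem_Q1 {g : A6} : g ∈ Q1 ↔ (g : Perm (Fin 6)) * π = π * g := by
  rw [Q1, Subgroup.mem_subgroupOf, Subgroup.mem_centralizer_singleton_iff]

theorem mem_Q2 {g : A6} : g ∈ Q2 ↔ (g : Perm (Fin 6)) * τ = τ * g := by
  rw [Q2, Subgroup.mem_subgroupOf, Subgroup.mem_centralizer_singleton_iff]

theorem mem_U0 {g : A6} : g ∈ U0 ↔ (g : Perm (Fin 6)) * π = π * g ∧ (g : Perm (Fin 6)) * τ = τ * g := by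
  rw [U0, Subgroup.mem_inf, mem_Q1, mem_Q2]

theorem card_of_pred (H : Subgroup A6) (q : Perm (Fin 6) → Prop) [DecidablePred q]
    (h : ∀ g : A6, g ∈ H ↔ q g) :
    Nat.card H = (Finset.univ.filter fun σ : Perm (Fin 6) => Perm.sign σ = 1 ∧ q σ).card := by
  rw [← Fintype.card_subtype, ← Nat.card_eq_fintype_card]
  exact Nat.card_congr
    { toFun := fun g => ⟨g.1.1, Perm.mem_alternatingGroup.1 g.1.2, (h g.1).1 g.2⟩
      invFun := fun σ => ⟨⟨σ.1, Perm.mem_alternatingGroup.2 σ.2.1⟩, (h _).2 σ.2.2⟩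
      left_inv := fun _ => rfl
      right_inv := fun _ => rfl }

theorem card_A6 : Nat.card A6 = 360 := by
  rw [nat_card_alternatingGroup]; simp [Nat.factorial]

/-- The proper overgroups of the standard Sylow subgroup. -/
theorem overgroups {H : Subgroup A6} (hU : U0 ≤ H) (hH : H ≠ ⊤) : H = U0 ∨ H = Q1 ∨ H = Q2 := by
  haveI : IsSimpleGroup A6 := alternatingGroup.isSimpleGroup (by simp)
  haveI : Fact (Nat.Prime 3) := ⟨Nat.prime_three⟩
  haveI : Fact (Nat.Prime 5) := ⟨by norm_num⟩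
  have hU8 : Nat.card U0 = 8 := (card_of_pred U0 _ fun _ => mem_U0).trans counts.2.2
  have h1 : Nat.card Q1 = 24 := (card_of_pred Q1 _ fun _ => mem_Q1).trans counts.1
  have h2 : Nat.card Q2 = 24 := (card_of_pred Q2 _ fun _ => mem_Q2).trans counts.2.1
  have hc : Nat.card H * H.index = 360 := card_A6 ▸ H.card_mul_index
  have h8 : 8 ∣ Nat.card H := hU8 ▸ Subgroup.card_dvd_of_le hU
  have hk := SmallChev.card_dvd_factorial hH
  rw [card_A6] at hk
  have hi6 : 6 ≤ H.index := by
    by_contra hlt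
    push Not at hlt
    revert hk
    interval_cases H.index <;> decide
  have hle : Nat.card H ≤ 60 := by nlinarith
  have hd : Nat.card H ∣ 360 := ⟨_, hc.symm⟩
  have hcases : Nat.card H = 8 ∨ Nat.card H = 24 ∨ Nat.card H = 40 := by
    generalize Nat.card H = k at hle hd h8
    obtain ⟨j, rfl⟩ := h8
    have : j ≤ 7 := by omega
    interval_cases j <;> omega
  have hu : ∀ i j k : Fin 2, (⟨elt i j k, Perm.mem_alternatingGroup.2 (elt_mem i j k).1⟩ : A6) ∈ H :=
    fun i j k => hU (mem_U0.2 (elt_mem i j k).2)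
  have hord : ∀ {n : ℕ} [Fact n.Prime] {x : A6}, x ∈ H → (x : Perm (Fin 6)) ^ n = 1 →
      (x : Perm (Fin 6)) ≠ 1 → n ∣ Nat.card H := by
    intro n _ x hx hxn hx1
    have : orderOf (⟨x, hx⟩ : H) = n := orderOf_eq_prime (Subtype.ext (Subtype.ext hxn))
      fun e => hx1 (congrArg (fun y : H => (y.1 : Perm (Fin 6))) e)
    exact this ▸ orderOf_dvd_natCard _
  rcases hcases with h | h | h
  · exact Or.inl (Subgroup.eq_of_le_of_card_ge hU (by omega)).symm
  · obtain ⟨g, hg⟩ := exists_prime_orderOf_dvd_card' (G := H) 3 (by rw [h]; norm_num)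
    have hg3 : ((g : A6) : Perm (Fin 6)) ^ 3 = 1 :=
      congrArg (fun y : H => (y.1 : Perm (Fin 6))) (hg ▸ pow_orderOf_eq_one g)
    have key : ∀ Q : Subgroup A6, Nat.card Q = 24 → U0 ≤ Q → (g : A6) ∈ Q → H = Q := by
      intro Q hQ hUQ hgQ
      have d1 : 8 ∣ Nat.card (H ⊓ Q : Subgroup A6) := hU8 ▸ Subgroup.card_dvd_of_le (le_inf hU hUQ)
      have d2 : 3 ∣ Nat.card (H ⊓ Q : Subgroup A6) := by
        have : orderOf (⟨g, g.2, hgQ⟩ : (H ⊓ Q : Subgroup A6)) = 3 := by
          rw [← hg, ← Subgroup.orderOf_coe, ← Subgroup.orderOf_coe g]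
        exact this ▸ orderOf_dvd_natCard _
      have d3 : 24 ∣ Nat.card (H ⊓ Q : Subgroup A6) :=
        Nat.Coprime.mul_dvd_of_dvd_of_dvd (by norm_num : Nat.Coprime 8 3) d1 d2
      have hle := Nat.le_of_dvd Nat.card_pos d3
      exact (Subgroup.eq_of_le_of_card_ge inf_le_left (by omega)).symm.trans
        (Subgroup.eq_of_le_of_card_ge inf_le_right (by omega))
    by_cases hπ : (g : A6) ∈ Q1
    · exact Or.inr (Or.inl (key Q1 h1 inf_le_left hπ))
    by_cases hτ : (g : A6) ∈ Q2
    · exact Or.inr (Or.inr (key Q2 h2 inf_le_right hτ))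
    exfalso
    obtain ⟨i, j, k, e, e1⟩ := three _ hg3 (mt mem_Q1.2 hπ) (mt mem_Q2.2 hτ)
    have := hord (n := 5) (x := g.1 * ⟨_, Perm.mem_alternatingGroup.2 (elt_mem i j k).1⟩)
      (mul_mem g.2 (hu i j k)) e e1
    rw [h] at this
    norm_num at this
  · exfalso
    obtain ⟨g, hg⟩ := exists_prime_orderOf_dvd_card' (G := H) 5 (by rw [h]; norm_num)
    have hg5 : ((g : A6) : Perm (Fin 6)) ^ 5 = 1 :=
      congrArg (fun y : H => (y.1 : Perm (Fin 6))) (hg ▸ pow_orderOf_eq_one g)
    have hg1 : ((g : A6) : Perm (Fin 6)) ≠ 1 := fun e => by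
      rw [show g = 1 from Subtype.ext (Subtype.ext e), orderOf_one] at hg
      omega
    obtain ⟨i, j, k, ⟨e, e1⟩ | ⟨e, e1⟩⟩ := five _ hg5 hg1
    · have := hord (n := 3) (x := g.1 * ⟨_, Perm.mem_alternatingGroup.2 (elt_mem i j k).1⟩)
        (mul_mem g.2 (hu i j k)) e e1
      rw [h] at this
      norm_num at this
    · have := hord (n := 3) (x := g.1 ^ 2 * ⟨_, Perm.mem_alternatingGroup.2 (elt_mem i j k).1⟩)
        (mul_mem (pow_mem g.2 2) (hu i j k)) e e1
      rw [h] at this
      norm_num at this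

variable {X : Type*} [Group X] [Finite X] (K : Subgroup X) [K.Normal] [Fact (Nat.Prime 2)]

theorem pminimal (e : K ≃* A6) (U : Sylow 2 K) (hX : Cfsg.IsPMinimal 2 X) :
    IsCoatom (Subgroup.normalizer (((U : Subgroup K).map K.subtype : Subgroup X) : Set X)) ∧ K ≠ ⊤ := by
  haveI : IsSimpleGroup A6 := alternatingGroup.isSimpleGroup (by simp)
  haveI : IsSimpleGroup K := (MulEquiv.isSimpleGroup_congr e).2 inferInstance
  have hU8 : Nat.card U0 = 8 := (card_of_pred U0 _ fun _ => mem_U0).trans counts.2.2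
  have h1 : Nat.card Q1 = 24 := (card_of_pred Q1 _ fun _ => mem_Q1).trans counts.1
  have h2 : Nat.card Q2 = 24 := (card_of_pred Q2 _ fun _ => mem_Q2).trans counts.2.1
  have hK : Nat.card K = 360 := (Nat.card_congr e.toEquiv).trans card_A6
  set V0 := U0.comap e.toMonoidHom
  have hcard : ∀ Q : Subgroup A6, Nat.card (Q.comap e.toMonoidHom) = Nat.card Q := fun Q =>
    Nat.card_congr (e.toEquiv.subtypeEquiv fun _ => Iff.rfl)
  have hV8 : Nat.card V0 = 8 := (hcard U0).trans hU8
  have hfac : (Nat.card K).factorization 2 = 3 := by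
    rw [hK, show (360 : ℕ) = 2 ^ 3 * 45 from rfl, Nat.factorization_mul (by norm_num) (by norm_num),
      Finsupp.add_apply, Nat.factorization_eq_zero_of_not_dvd (by norm_num : ¬ 2 ∣ 45),
      Nat.prime_two.factorization_pow]
    simp
  set V : Sylow 2 K := Sylow.ofCard V0 (by rw [hV8, hfac]; norm_num)
  have hV : (V : Subgroup K) = V0 := Sylow.coe_ofCard _ _
  suffices h : IsCoatom (Subgroup.normalizer (((V : Subgroup K).map K.subtype : Subgroup X) : Set X)) ∧
      K ≠ ⊤ from ⟨isCoatom_normalizer_congr K V U h.1, h.2⟩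
  set R₁ := Q1.comap e.toMonoidHom
  set R₂ := Q2.comap e.toMonoidHom
  have hR1 : Nat.card R₁ = 24 := (hcard Q1).trans h1
  have hR2 : Nat.card R₂ = 24 := (hcard Q2).trans h2
  have hV1 : V0 ≤ R₁ := Subgroup.comap_mono inf_le_left
  have hV2 : V0 ≤ R₂ := Subgroup.comap_mono inf_le_right
  have hover : ∀ H : Subgroup K, V0 ≤ H → H ≠ ⊤ → H = V0 ∨ H = R₁ ∨ H = R₂ := by
    intro H hH hne
    have hb : Function.Bijective e.toMonoidHom := e.bijective
    have hm : (H.map e.toMonoidHom).comap e.toMonoidHom = H :=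
      Subgroup.comap_map_eq_self_of_injective hb.injective H
    rcases overgroups (H := H.map e.toMonoidHom)
      (by rw [← Subgroup.map_comap_eq_self_of_surjective (f := e.toMonoidHom) hb.surjective U0]
          exact Subgroup.map_mono hH)
      (fun t => hne (by rw [← hm, t, Subgroup.comap_top])) with t | t | t <;> rw [← hm, t]
    exacts [Or.inl rfl, Or.inr (Or.inl rfl), Or.inr (Or.inr rfl)]
  have hne : R₁ ≠ R₂ := fun e' => by
    have : U0 = Q1 := by
      rw [U0, show Q2 = Q1 from Subgroup.comap_injective (f := e.toMonoidHom) e.surjective e'.symm, inf_idem]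
    rw [this, h1] at hU8
    omega
  have n1 : R₁ ≠ ⊤ := fun t => by rw [t, Subgroup.card_top, hK] at hR1; omega
  have n2 : R₂ ≠ ⊤ := fun t => by rw [t, Subgroup.card_top, hK] at hR2; omega
  have htop : R₁ ⊔ R₂ = ⊤ := by
    by_contra hc
    rcases hover _ (hV1.trans le_sup_left) hc with t | t | t
    · have := Subgroup.card_le_of_le (t ▸ le_sup_left : R₁ ≤ V0); omega
    · exact hne (Subgroup.eq_of_le_of_card_ge (t ▸ le_sup_right : R₂ ≤ R₁) (by omega)).symm
    · exact hne (Subgroup.eq_of_le_of_card_ge (t ▸ le_sup_left : R₁ ≤ R₂) (by omega))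
  have hVne : (V : Subgroup K) ≠ ⊥ := fun t => by rw [hV] at t; rw [t, Subgroup.card_bot] at hV8; omega
  have hVne' : (V : Subgroup K) ≠ ⊤ := fun t => n1 (top_le_iff.1 ((hV ▸ t : V0 = ⊤) ▸ hV1))
  obtain ⟨T, M, hTK, hTN, -, -, hKM, hfix, hle⟩ := exists_setup K V (not_normal hVne hVne') hX
  have himg : ∀ α : MulAut K, (V : Subgroup K).map α.toMonoidHom = V →
      ∀ R, V0 ≤ R → Nat.card R = 24 →
      R.map α.toMonoidHom = R₁ ∨ R.map α.toMonoidHom = R₂ := by
    intro α hα R hVR hR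
    have hc : Nat.card (R.map α.toMonoidHom) = 24 := by
      rw [Subgroup.card_map_of_injective α.injective, hR]
    rcases hover (R.map α.toMonoidHom)
      (by rw [← hV, ← hα, hV]; exact Subgroup.map_mono hVR)
      (fun t => by rw [t, Subgroup.card_top, hK] at hc; omega) with t | t
    · rw [t, hV8] at hc; omega
    · exact t
  obtain ⟨g, hg, hgR⟩ : ∃ g ∈ (T : Subgroup X), R₁.map (MulAut.conjNormal g : MulAut K).toMonoidHom ≠ R₁ := by
    by_contra hc
    push Not at hc
    refine hKM ?_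
    have k1 := hle R₁ (hV ▸ hV1) hc n1
    have k2 := hle R₂ (hV ▸ hV2) (fun g hg => by
      rcases himg _ (hfix g (hTN hg)) R₂ hV2 hR2 with t | t
      · exact absurd (Subgroup.map_injective (MulEquiv.injective _) (t.trans (hc g hg).symm)).symm hne
      · exact t) n2
    rw [show K = (⊤ : Subgroup K).map K.subtype by rw [← MonoidHom.range_eq_map, Subgroup.range_subtype],
      ← htop, Subgroup.map_sup]
    exact sup_le k1 k2
  refine ⟨isCoatom_normalizer K V (not_normal hVne hVne') hX fun H hH hHne hinv => ?_, fun hK' => hgR ?_⟩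
  · rcases hover H (hV ▸ hH) hHne with t | t | t
    · rw [t, ← hV]; exact Subgroup.le_normalizer
    · exact absurd (t ▸ hinv g (hTN hg)) hgR
    · exfalso
      have h' := hinv g (hTN hg)
      rw [t] at h'
      rcases himg _ (hfix g (hTN hg)) R₁ hV1 hR1 with s | s
      · exact hgR s
      · exact hne (Subgroup.map_injective (MulEquiv.injective _) (s.trans h'.symm))
  · have hgK : g ∈ K := hK'.symm ▸ Subgroup.mem_top g
    have hgV : (⟨g, hgK⟩ : K) ∈ R₁ := hV1 (hV ▸ hTK ▸ Subgroup.mem_subgroupOf.2 hg)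
    refine Subgroup.eq_of_le_of_card_ge ?_ (Nat.le_of_eq
      (Subgroup.card_map_of_injective (MulEquiv.injective _)).symm)
    rintro _ ⟨x, hx, rfl⟩
    have := mul_mem (mul_mem hgV hx) (inv_mem hgV)
    convert this using 1
    exact Subtype.ext rfl

end CfsgLib.SplitBN.Six
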