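import Cfsg.Agent.SplitBN.PMinSetup
import Cfsg.Agent.SplitBN.SmallChev
import Cfsg.Agent.PrimeGraph.PSL2Spectrum
import Cfsg.Agent.Solvable.Fitting

/-!
# `3`-minimal groups over `L₂(8)`
-/

set_option autoImplicit false
set_option linter.style.haveILetI false
set_option linter.unusedSectionVars false

namespace CfsgLib.SplitBN.Eight

variable {G : Type*} [Group G] [Finite G] {F : Type} [Field F] [Fintype F]

/-- A proper overgroup of a Sylow `3`-subgroup normalises it. -/
theorem le_normalizer [Fact (Nat.Prime 3)] (hF : Fintype.card F = 8)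
    (e : G ≃* Matrix.ProjectiveSpecialLinearGroup (Fin 2) F) (hG : Nat.card G = 504) [IsSimpleGroup G]
    (U : Sylow 3 G) {H : Subgroup G} (hUH : (U : Subgroup G) ≤ H) (hH : H ≠ ⊤) :
    H ≤ Subgroup.normalizer ((U : Subgroup G) : Set G) := by
  classical
  haveI : Fact (Nat.Prime 2) := ⟨Nat.prime_two⟩
  haveI : CharP F 2 := by
    have hr : ringChar F = 2 := FiniteField.even_card_iff_char_two.2 (by rw [hF])
    exact hr ▸ ringChar.charP F
  have hU : Nat.card (U : Subgroup G) = 9 := by
    rw [U.card_eq_multiplicity, hG, show (504 : ℕ) = 3 ^ 2 * 56 from rfl,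
      Nat.factorization_mul (by norm_num) (by norm_num), Finsupp.add_apply,
      Nat.factorization_eq_zero_of_not_dvd (by norm_num : ¬ 3 ∣ 56), Nat.prime_three.factorization_pow]
    simp
  set UH := (U : Subgroup G).subgroupOf H
  have hUHc : Nat.card UH = 9 := (Nat.card_congr (Subgroup.subgroupOfEquivOfLe hUH).toEquiv).trans hU
  rw [← Subgroup.normal_subgroupOf_iff_le_normalizer hUH]
  show UH.Normal
  have hc : Nat.card H * H.index = 504 := hG ▸ H.card_mul_index
  have h9 : 9 ∣ Nat.card H := hU ▸ Subgroup.card_dvd_of_le hUH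
  -- an element of order nine
  have h8 : 8 < H.index := by
    by_contra hle
    obtain ⟨A, -, hA, hcard, -⟩ := CfsgLib.SL2C.exists_ABA (F := F)
    haveI := hA
    obtain ⟨a, ha⟩ := hA.exists_generator
    obtain ⟨f, hf⟩ := SmallChev.exists_embedding hH
    letI : Fintype (G ⧸ H) := Fintype.ofFinite _
    refine SmallChev.orderOf_perm_ne_nine (α := G ⧸ H) ?_ (f (e.symm (a : _))) ?_
    · rw [← Nat.card_eq_fintype_card]; exact not_lt.1 hle
    · rw [orderOf_injective f hf, MulEquiv.orderOf_eq, Subgroup.orderOf_coe,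
        orderOf_eq_card_of_forall_mem_zpowers ha, hcard, hF]
  have hcases : Nat.card H = 9 ∨ Nat.card H = 18 ∨ Nat.card H = 36 := by
    have hd : Nat.card H ∣ 504 := ⟨_, hc.symm⟩
    have hle : Nat.card H ≤ 56 := by nlinarith
    obtain ⟨j, hj⟩ := h9
    rw [hj] at hd hle ⊢
    have : j ≤ 6 := by omega
    interval_cases j <;> omega
  have hidx : Nat.card UH * UH.index = Nat.card H := UH.card_mul_index
  rcases hcases with h | h | h
  · rw [Subgroup.index_eq_one.1 (show UH.index = 1 by rw [hUHc, h] at hidx; omega)]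
    infer_instance
  · exact Subgroup.normal_of_index_eq_two (show UH.index = 2 by rw [hUHc, h] at hidx; omega)
  have hi3 : ¬ 3 ∣ H.index := by rw [h] at hc; omega
  have hcore : Cfsg.pCore 3 ↥H ≠ ⊥ := fun h0 => hH (SmallChev.psl_eight hF e H h0 hi3)
  set C := Cfsg.pCore 3 ↥H
  haveI hCn : C.Normal := CfsgLib.Solvable.pCore_normal 3
  have hS : IsPGroup 3 UH := IsPGroup.of_card (n := 2) (by rw [hUHc]; rfl)
  have hCU : C ≤ UH :=
    CfsgLib.Fitting.pCore_le_sylow (hS.toSylow (by rw [hUHc, h] at hidx; omega))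
  have hCd : Nat.card C ∣ 3 ^ 2 := by
    have := Subgroup.card_dvd_of_le hCU; rwa [hUHc] at this
  obtain ⟨k, hk, hCc⟩ := (Nat.dvd_prime_pow Nat.prime_three).1 hCd
  interval_cases k
  · exact absurd (Subgroup.eq_bot_of_card_eq C (by rw [hCc]; rfl)) hcore
  · exfalso
    set φ : H →* MulAut C := MulAut.conjNormal
    haveI : IsCyclic C := isCyclic_of_prime_card (p := 3) (by rw [hCc, pow_one])
    have hker : φ.ker.index ≤ 2 := by
      rw [Subgroup.index_ker]
      refine (Nat.card_le_card_of_injective _ Subtype.val_injective).trans ?_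
      rw [IsCyclic.card_mulAut, hCc, pow_one, Nat.totient_prime Nat.prime_three]
    have h2 : 2 ∣ Nat.card φ.ker := by
      have hm := φ.ker.card_mul_index
      rw [h] at hm
      have : φ.ker.index ≠ 0 := Subgroup.index_ne_zero_of_finite
      rcases (show φ.ker.index = 1 ∨ φ.ker.index = 2 by omega) with t | t <;> rw [t] at hm <;> omega
    obtain ⟨t, ht⟩ := exists_prime_orderOf_dvd_card' (G := φ.ker) 2 h2
    obtain ⟨c, hcc⟩ := exists_prime_orderOf_dvd_card' (G := C) 3 (by rw [hCc, pow_one])
    have hcomm : Commute (t : H) (c : H) := by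
      have := congrArg (fun f : MulAut C => ((f c : C) : H)) (MonoidHom.mem_ker.1 t.2)
      simp only [MulAut.one_apply, φ, MulAut.conjNormal_apply] at this
      show (t : H) * c = c * t
      rw [mul_inv_eq_iff_eq_mul] at this
      exact this
    have h6 : orderOf (e (((t : H) * (c : H) : H) : G)) = 6 := by
      rw [MulEquiv.orderOf_eq, Subgroup.orderOf_coe, hcomm.orderOf_mul_eq_mul_orderOf_of_coprime
        (by rw [Subgroup.orderOf_coe, Subgroup.orderOf_coe, ht, hcc]; norm_num),
        Subgroup.orderOf_coe, Subgroup.orderOf_coe, ht, hcc]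
    have := CfsgLib.PSL2Spec.orderOf_dvd 2 (e (((t : H) * (c : H) : H) : G))
    rw [h6, hF] at this
    norm_num at this
  · have : C = UH := Subgroup.eq_of_le_of_card_ge hCU (by rw [hUHc, hCc]; norm_num)
    exact this ▸ hCn

variable {X : Type*} [Group X] [Finite X] (K : Subgroup X) [K.Normal] [Fact (Nat.Prime 3)]

theorem pminimal (hF : Fintype.card F = 8) (e : K ≃* Matrix.ProjectiveSpecialLinearGroup (Fin 2) F)
    (U : Sylow 3 K) (hX : Cfsg.IsPMinimal 3 X) :
    IsCoatom (Subgroup.normalizer (((U : Subgroup K).map K.subtype : Subgroup X) : Set X)) := by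
  classical
  haveI : CharP F 2 := by
    have hr : ringChar F = 2 := FiniteField.even_card_iff_char_two.2 (by rw [hF])
    exact hr ▸ ringChar.charP F
  haveI : IsSimpleGroup K := (MulEquiv.isSimpleGroup_congr e).2 (by
    refine CfsgLib.Linear.isSimpleGroup_PSL (Or.inr ?_)
    exact exists_sq_ne_one' (by omega))
  have hK : Nat.card K = 504 := by
    rw [Nat.card_congr e.toEquiv]
    have := CfsgLib.Linear.Small.card_psl_two (F := F) hF
    rw [show Nat.gcd 2 (8 - 1) = 1 by decide, one_mul] at this
    omega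
  have hU : Nat.card (U : Subgroup K) = 9 := by
    rw [U.card_eq_multiplicity, hK, show (504 : ℕ) = 3 ^ 2 * 56 from rfl,
      Nat.factorization_mul (by norm_num) (by norm_num), Finsupp.add_apply,
      Nat.factorization_eq_zero_of_not_dvd (by norm_num : ¬ 3 ∣ 56), Nat.prime_three.factorization_pow]
    simp
  refine isCoatom_normalizer K U (not_normal (fun t => ?_) (fun t => ?_)) hX fun H hH hne _ => le_normalizer hF e hK U hH hne
  · rw [t, Subgroup.card_bot] at hU; omega
  · rw [t, Subgroup.card_top, hK] at hU; omega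
where
  exists_sq_ne_one' (h : 4 ≤ Fintype.card F) : ∃ x : F, x ≠ 0 ∧ x ^ 2 ≠ 1 := by
    classical
    obtain ⟨a, -, ha⟩ := Finset.exists_mem_notMem_of_card_lt_card (s := ({0, 1, -1} : Finset F))
      (t := Finset.univ) (by rw [Finset.card_univ]; exact lt_of_le_of_lt Finset.card_le_three h)
    simp only [Finset.mem_insert, Finset.mem_singleton, not_or] at ha
    refine ⟨a, ha.1, fun e => ?_⟩
    rcases mul_self_eq_one_iff.1 (show a * a = 1 by rw [← pow_two]; exact e) with e' | e'
    · exact ha.2.1 e'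
    · exact ha.2.2 e'

end CfsgLib.SplitBN.Eight
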