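import Cfsg.Agent.J2.Perm.U33

/-!
# A Sylow `2`-subgroup of `SU(3,3)` by matrices
-/

set_option autoImplicit false
set_option maxRecDepth 100000
set_option synthInstance.maxSize 2000
set_option synthInstance.maxHeartbeats 400000

namespace CfsgLib.SplitBN.U33

open Matrix CfsgLib.J2.Perm

/-- The indices of the Sylow subgroup. -/
abbrev Ind : Type := Bool × Fin 4 × Fin 4

/-- The fourth roots of unity. -/
def ω (k : Fin 4) : F9 := (⟨0, 1⟩ : F9) ^ k.val

/-- The matrices of the Sylow subgroup. -/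
def sMat : Ind → Matrix (Fin 3) (Fin 3) F9
  | (false, k, l) => !![ω k, 0, 0; 0, ω l, 0; 0, 0, ω (-(k + l))]
  | (true, k, l) => !![0, ω k, 0; ω l, 0, 0; 0, 0, -ω (-(k + l))]

/-- The multiplication of indices. -/
def op : Ind → Ind → Ind
  | (false, k, l), (b, k', l') => (b, k + k', l + l')
  | (true, k, l), (b, k', l') => (!b, k + l', l + k')

/-- The inverse of an index. -/
def opInv : Ind → Ind
  | (false, k, l) => (false, -k, -l)
  | (true, k, l) => (true, -l, -k)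

/-- A three cycle. -/
def gMat : Matrix (Fin 3) (Fin 3) F9 := !![0, 0, 1; 1, 0, 0; 0, 1, 0]

/-- An element centralising the central involution. -/
def hMat : Matrix (Fin 3) (Fin 3) F9 :=
  !![⟨1, 1⟩, ⟨1, 1⟩, 0; ⟨1, 1⟩, -⟨1, 1⟩, 0; 0, 0, ⟨0, 1⟩]

/-- The conditions for lying in the special unitary group. -/
def IsSU (M : Matrix (Fin 3) (Fin 3) F9) : Prop :=
  (M 0 0 * M 1 1 * M 2 2 - M 0 0 * M 1 2 * M 2 1 - M 0 1 * M 1 0 * M 2 2 +
      M 0 1 * M 1 2 * M 2 0 + M 0 2 * M 1 0 * M 2 1 - M 0 2 * M 1 1 * M 2 0) = 1 ∧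
    ∀ k m : Fin 3, M 0 k * M 0 m ^ 3 + M 1 k * M 1 m ^ 3 + M 2 k * M 2 m ^ 3 = if k = m then 1 else 0

instance (M : Matrix (Fin 3) (Fin 3) F9) : Decidable (IsSU M) := by unfold IsSU; infer_instance

theorem sMat_su : ∀ a, IsSU (sMat a) := by decide +kernel

theorem gMat_su : IsSU gMat := by decide +kernel

theorem hMat_su : IsSU hMat := by decide +kernel

/-- An element of the special unitary group. -/
def mkU (M : Matrix (Fin 3) (Fin 3) F9) (h : IsSU M) : J2.Perm.U :=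
  ⟨⟨M, by rw [Matrix.det_fin_three]; exact h.1⟩, by
    intro u v
    show Cfsg.hermForm 3 F9 3 (M *ᵥ u) (M *ᵥ v) = Cfsg.hermForm 3 F9 3 u v
    have h00 := h.2 0 0
    have h01 := h.2 0 1
    have h02 := h.2 0 2
    have h10 := h.2 1 0
    have h11 := h.2 1 1
    have h12 := h.2 1 2
    have h20 := h.2 2 0
    have h21 := h.2 2 1
    have h22 := h.2 2 2
    simp only [Fin.reduceEq, if_true, if_false] at h00 h01 h02 h10 h11 h12 h20 h21 h22
    simp only [Cfsg.hermForm, Matrix.mulVec, dotProduct, Fin.sum_univ_three, cube_add, mul_pow]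
    linear_combination u 0 * v 0 ^ 3 * h00 + u 0 * v 1 ^ 3 * h01 + u 0 * v 2 ^ 3 * h02 +
      u 1 * v 0 ^ 3 * h10 + u 1 * v 1 ^ 3 * h11 + u 1 * v 2 ^ 3 * h12 +
      u 2 * v 0 ^ 3 * h20 + u 2 * v 1 ^ 3 * h21 + u 2 * v 2 ^ 3 * h22⟩

/-- Equality of products, entry by entry. -/
def ProdEq (A B C : Matrix (Fin 3) (Fin 3) F9) : Prop :=
  ∀ p : Fin 3 × Fin 3, A p.1 0 * B 0 p.2 + A p.1 1 * B 1 p.2 + A p.1 2 * B 2 p.2 = C p.1 p.2

instance (A B C : Matrix (Fin 3) (Fin 3) F9) : Decidable (ProdEq A B C) :=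
  inferInstanceAs (Decidable (∀ p : Fin 3 × Fin 3,
    A p.1 0 * B 0 p.2 + A p.1 1 * B 1 p.2 + A p.1 2 * B 2 p.2 = C p.1 p.2))

theorem ProdEq.eq {A B C : Matrix (Fin 3) (Fin 3) F9} (h : ProdEq A B C) : A * B = C := by
  refine Matrix.ext fun r c => ?_
  rw [Matrix.mul_apply, Fin.sum_univ_three, ← h (r, c)]

theorem sMat_mul : ∀ a b, ProdEq (sMat a) (sMat b) (sMat (op a b)) := by decide +kernel

theorem op_inv : ∀ a, op (opInv a) a = (false, 0, 0) := by decide +kernel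

theorem sMat_inj : ∀ a b, (∀ p : Fin 3 × Fin 3, sMat a p.1 p.2 = sMat b p.1 p.2) → a = b := by decide +kernel

/-- The central involution. -/
def zI : Ind := (false, 2, 2)

/-- A diagonal involution. -/
def dI : Ind := (false, 0, 2)

/-- An involution off the diagonal. -/
def wI : Ind := (true, 0, 0)

theorem op_center : ∀ a, (∀ b, op a b = op b a) → op a a = (false, 0, 0) → a = (false, 0, 0) ∨ a = zI := by
  decide +kernel

theorem z_central : ∀ b, op zI b = op b zI := by decide +kernel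

/-- The characterisation of the diagonal four group. -/
def IsD (a : Ind) : Prop :=
  op a a = (false, 0, 0) ∧ ∀ b, op b a = op a b ∨ op b a = op (op zI a) b

instance (a : Ind) : Decidable (IsD a) := by unfold IsD; infer_instance

theorem isD_iff : ∀ a : Ind, IsD a ↔ a = (false, 0, 0) ∨ a = zI ∨ a = dI ∨ a = op zI dI := by decide +kernel

theorem g_z : ∃ M, ProdEq gMat (sMat zI) M ∧ ProdEq (sMat dI) gMat M :=
  ⟨Matrix.of fun r c => gMat r 0 * sMat zI 0 c + gMat r 1 * sMat zI 1 c + gMat r 2 * sMat zI 2 c,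
    fun _ => rfl, by decide +kernel⟩

theorem g_isD : ∀ a, IsD a → ∃ b, IsD b ∧ ∀ r c : Fin 3,
    gMat r 0 * sMat a 0 c + gMat r 1 * sMat a 1 c + gMat r 2 * sMat a 2 c =
      sMat b r 0 * gMat 0 c + sMat b r 1 * gMat 1 c + sMat b r 2 * gMat 2 c := by decide +kernel

theorem h_d : ∃ M, ProdEq hMat (sMat dI) M ∧ ProdEq (sMat wI) hMat M :=
  ⟨Matrix.of fun r c => hMat r 0 * sMat dI 0 c + hMat r 1 * sMat dI 1 c + hMat r 2 * sMat dI 2 c,
    fun _ => rfl, by decide +kernel⟩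

theorem h_z : ∃ M, ProdEq hMat (sMat zI) M ∧ ProdEq (sMat zI) hMat M :=
  ⟨Matrix.of fun r c => hMat r 0 * sMat zI 0 c + hMat r 1 * sMat zI 1 c + hMat r 2 * sMat zI 2 c,
    fun _ => rfl, by decide +kernel⟩

theorem g_w : ∀ b, ∃ r c : Fin 3,
    gMat r 0 * sMat wI 0 c + gMat r 1 * sMat wI 1 c + gMat r 2 * sMat wI 2 c ≠
      sMat b r 0 * gMat 0 c + sMat b r 1 * gMat 1 c + sMat b r 2 * gMat 2 c := by decide +kernel

end CfsgLib.SplitBN.U33
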