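import Cfsg.Agent.SplitBN.PMinSetup
import Cfsg.Agent.SplitBN.SmallChev
import Cfsg.Agent.SplitBN.U33Data
import Cfsg.Agent.Solvable.Fitting
import Cfsg.Agent.Solvable.PGroupBasic

/-!
# `2`-minimal groups over `U₃(3)` do not exist
-/

set_option autoImplicit false
set_option linter.style.haveILetI false
set_option linter.unusedSectionVars false

namespace CfsgLib.SplitBN.U33

open Matrix CfsgLib.J2.Perm

/-- The group. -/
abbrev G : Type := J2.Perm.U

theorem ext_mat {x y : G} (h : mat x = mat y) : x = y := Subtype.ext (Subtype.ext h)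

theorem mat_mul (x y : G) : mat (x * y) = mat x * mat y := rfl

/-- The elements of the Sylow subgroup. -/
def el (a : Ind) : G := mkU (sMat a) (sMat_su a)

theorem el_mul (a b : Ind) : el a * el b = el (op a b) := ext_mat (sMat_mul a b).eq

theorem el_one : el (false, 0, 0) = 1 := by
  refine ext_mat ?_
  show sMat (false, 0, 0) = (1 : Matrix (Fin 3) (Fin 3) F9)
  have key : ∀ p : Fin 3 × Fin 3,
      sMat (false, 0, 0) p.1 p.2 = (1 : Matrix (Fin 3) (Fin 3) F9) p.1 p.2 := by decide +kernel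
  exact Matrix.ext fun r c => key (r, c)

theorem el_inj : Function.Injective el := fun a b h => sMat_inj a b fun p =>
  congrArg (fun x : G => mat x p.1 p.2) h

theorem el_inv (a : Ind) : (el a)⁻¹ = el (opInv a) :=
  inv_eq_of_mul_eq_one_left (by rw [el_mul, op_inv, el_one])

/-- The standard Sylow subgroup. -/
def U0 : Subgroup G where
  carrier := Set.range el
  one_mem' := ⟨_, el_one⟩
  mul_mem' := by rintro _ _ ⟨a, rfl⟩ ⟨b, rfl⟩; exact ⟨_, (el_mul a b).symm⟩
  inv_mem' := by rintro _ ⟨a, rfl⟩; exact ⟨_, (el_inv a).symm⟩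

theorem mem_U0 {x : G} : x ∈ U0 ↔ ∃ a, el a = x := Iff.rfl

theorem card_U0 : Nat.card U0 = 32 := by
  rw [show Nat.card U0 = Nat.card (Set.range el) from rfl, Nat.card_range_of_injective el_inj,
    Nat.card_eq_fintype_card]
  rfl

/-- The central involution. -/
def z : G := el zI

/-- The diagonal four group. -/
def Dset : Set G := {x | x ∈ U0 ∧ x * x = 1 ∧ ∀ u ∈ U0, u * x = x * u ∨ u * x = z * x * u}

theorem mem_Dset {x : G} : x ∈ Dset ↔ ∃ a, IsD a ∧ el a = x := by
  constructor
  · rintro ⟨⟨a, rfl⟩, h2, h3⟩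
    refine ⟨a, ⟨el_inj (by rw [← el_mul, h2, el_one]), fun b => ?_⟩, rfl⟩
    rcases h3 _ (mem_U0.2 ⟨b, rfl⟩) with h | h
    · exact Or.inl (el_inj (by rw [← el_mul, ← el_mul, h]))
    · exact Or.inr (el_inj (by rw [← el_mul, ← el_mul, ← el_mul]; exact h))
  · rintro ⟨a, ⟨h2, h3⟩, rfl⟩
    refine ⟨⟨a, rfl⟩, by rw [el_mul, h2, el_one], ?_⟩
    rintro _ ⟨b, rfl⟩
    rcases h3 b with h | h
    · exact Or.inl (by rw [el_mul, el_mul, h])
    · exact Or.inr (by rw [z, el_mul, el_mul, el_mul, h])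

theorem z_fixed (α : MulAut G) (hα : U0.map α.toMonoidHom = U0) : α z = z := by
  have hz : α z ∈ U0 := hα ▸ Subgroup.mem_map_of_mem _ (mem_U0.2 ⟨_, rfl⟩)
  obtain ⟨a, ha⟩ := hz
  have hc : ∀ b, op a b = op b a := fun b => by
    have hb : el b ∈ U0.map α.toMonoidHom := hα.symm ▸ mem_U0.2 ⟨b, rfl⟩
    obtain ⟨_, ⟨c, rfl⟩, e⟩ := hb
    refine el_inj ?_
    rw [← el_mul, ← el_mul, ha, ← e]
    show α z * α (el c) = α (el c) * α z
    rw [← map_mul, ← map_mul, z, el_mul, el_mul, z_central]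
  have h2 : op a a = (false, 0, 0) := el_inj (by
    rw [← el_mul, ha, ← map_mul, z, el_mul, show op zI zI = (false, 0, 0) by decide +kernel, el_one, map_one])
  rcases op_center a hc h2 with rfl | rfl
  · rw [el_one] at ha
    exact absurd (el_inj ((α.injective (ha.symm.trans (map_one α).symm)).trans el_one.symm) : zI = _)
      (by decide +kernel)
  · exact ha.symm

theorem dset_image (α : MulAut G) (hα : U0.map α.toMonoidHom = U0) {x : G} (hx : x ∈ Dset) :
    α x ∈ Dset := by
  refine ⟨hα ▸ Subgroup.mem_map_of_mem _ hx.1, by rw [← map_mul, hx.2.1, map_one], fun u hu => ?_⟩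
  obtain ⟨v, hv, rfl⟩ : u ∈ U0.map α.toMonoidHom := hα.symm ▸ hu
  rcases hx.2.2 v hv with h | h
  · exact Or.inl (by show α v * α x = α x * α v; rw [← map_mul, ← map_mul, h])
  · refine Or.inr ?_
    show α v * α x = z * α x * α v
    rw [← map_mul, h, map_mul, map_mul, z_fixed α hα]

/-- The three cycle. -/
def g : G := mkU gMat gMat_su

/-- The element exchanging two involutions. -/
def h : G := mkU hMat hMat_su

theorem g_z' : g * z = el dI * g := by
  obtain ⟨M, h1, h2⟩ := g_z
  exact ext_mat (h1.eq.trans h2.eq.symm)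

theorem h_d' : h * el dI = el wI * h := by
  obtain ⟨M, h1, h2⟩ := h_d
  exact ext_mat (h1.eq.trans h2.eq.symm)

theorem h_z' : h * z = z * h := by
  obtain ⟨M, h1, h2⟩ := h_z
  exact ext_mat (h1.eq.trans h2.eq.symm)

theorem g_w' (b : Ind) : g * el wI ≠ el b * g := fun e => by
  obtain ⟨r, c, hne⟩ := g_w b
  have := congrArg (fun x : G => mat x r c) e
  simp only [mat_mul, Matrix.mul_apply, Fin.sum_univ_three] at this
  exact hne this

theorem g_dset {x : G} (hx : x ∈ Dset) : g * x * g⁻¹ ∈ Dset := by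
  obtain ⟨a, ha, rfl⟩ := mem_Dset.1 hx
  obtain ⟨b, hb, e⟩ := g_isD a ha
  refine mem_Dset.2 ⟨b, hb, ?_⟩
  rw [eq_mul_inv_iff_mul_eq]
  refine ext_mat (Matrix.ext fun r c => ?_)
  rw [mat_mul, mat_mul, Matrix.mul_apply, Matrix.mul_apply, Fin.sum_univ_three, Fin.sum_univ_three]
  exact (e r c).symm

theorem z_mem_dset : z ∈ Dset := mem_Dset.2 ⟨zI, (isD_iff zI).2 (Or.inr (Or.inl rfl)), rfl⟩

theorem center_eq_bot : Subgroup.center G = ⊥ := by
  refine (Subgroup.eq_bot_iff_forall _).2 fun x hx => ?_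
  obtain ⟨c, hc⟩ := (CfsgLib.Unitary.mem_center_SU_iff hF (by norm_num)).1 hx
  refine ext_mat ?_
  have hsu : mat x = c • (1 : Matrix (Fin 3) (Fin 3) F9) := hc
  rw [hsu]
  have hdet : (mat x).det = 1 := x.1.2
  have hu := x.2 (Pi.single 0 1) (Pi.single 0 1)
  rw [hsu] at hdet
  simp at hdet
  have h00 : c * c ^ 3 = 1 := by
    have hx' : (Cfsg.slToMat 3 F9) x.1 = c • (1 : Matrix (Fin 3) (Fin 3) F9) := hsu
    rw [hx'] at hu
    simpa [Cfsg.hermForm, Fin.sum_univ_three, Matrix.smul_mulVec] using hu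
  have hc1 : ∀ c : F9, c ^ 3 = 1 → c * c ^ 3 = 1 → c = 1 := by decide +kernel
  rw [hc1 c hdet h00, one_smul]
  rfl

/-- The special unitary group is the projective one. -/
noncomputable def toPSU : G ≃* Cfsg.PSU 3 F9 3 :=
  MulEquiv.ofBijective (QuotientGroup.mk' _)
    ⟨(MonoidHom.ker_eq_bot_iff _).1 (by rw [QuotientGroup.ker_mk', center_eq_bot]), QuotientGroup.mk'_surjective _⟩

theorem card_G : Nat.card G = 6048 := (Nat.card_congr toPSU.toEquiv).trans card_psu

/-- Two characteristic overgroups of the Sylow subgroup. -/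
theorem exists_pair [Finite G] :
    ∃ R₁ R₂ : Subgroup G, U0 ≤ R₁ ∧ U0 ≤ R₂ ∧ R₁ ≠ ⊤ ∧ R₂ ≠ ⊤ ∧ R₁ ⊔ R₂ = ⊤ ∧
      ∀ α : MulAut G, U0.map α.toMonoidHom = U0 → R₁.map α.toMonoidHom = R₁ ∧ R₂.map α.toMonoidHom = R₂ := by
  haveI : Fact (Nat.Prime 2) := ⟨Nat.prime_two⟩
  set eP := toPSU
  have hG : Nat.card G = 6048 := card_G
  set R₁ := Subgroup.centralizer ({z} : Set G)
  set R₂ := Subgroup.normalizer Dset
  have hconj : ∀ u ∈ U0, U0.map (MulAut.conj u).toMonoidHom = U0 := fun u hu =>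
    Subgroup.mem_normalizer_iff_map_conj_eq.1 (Subgroup.le_normalizer hu)
  have hU1 : U0 ≤ R₁ := fun u hu => by
    rw [Subgroup.mem_centralizer_singleton_iff]
    have := z_fixed _ (hconj u hu)
    rw [MulAut.conj_apply, mul_inv_eq_iff_eq_mul] at this
    exact this
  have hU2 : U0 ≤ R₂ := fun u hu x => ⟨fun hx => dset_image _ (hconj u hu) hx, fun hx => by
    have := dset_image _ (hconj _ (inv_mem hu)) hx
    simpa [mul_assoc] using this⟩
  refine ⟨R₁, R₂, hU1, hU2, fun t => ?_, fun t => ?_, ?_, fun α hα => ⟨?_, ?_⟩⟩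
  · have hg : g ∈ R₁ := t ▸ Subgroup.mem_top g
    rw [Subgroup.mem_centralizer_singleton_iff, g_z'] at hg
    exact absurd (el_inj (mul_right_cancel hg)) (by decide +kernel)
  · have hh : h ∈ R₂ := t ▸ Subgroup.mem_top h
    have := (hh (el dI)).1 (mem_Dset.2 ⟨dI, (isD_iff _).2 (Or.inr (Or.inr (Or.inl rfl))), rfl⟩)
    rw [h_d', mul_inv_cancel_right] at this
    obtain ⟨a, ha, e⟩ := mem_Dset.1 this
    exact absurd ((el_inj e) ▸ ha) (by decide +kernel)
  · by_contra hR
    set R := R₁ ⊔ R₂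
    have hUR : U0 ≤ R := hU1.trans le_sup_left
    have hidx : ¬ 2 ∣ R.index := by
      intro h2
      have h3 : U0.index = 189 := by
        have := U0.card_mul_index; rw [card_U0, hG] at this; omega
      exact absurd (h3 ▸ h2.trans (Subgroup.index_dvd_of_le hUR)) (by norm_num)
    have hcore : Cfsg.pCore 2 ↥R ≠ ⊥ := fun h0 => hR (SmallChev.psu_three F9.card eP R h0 hidx)
    set Q := Cfsg.pCore 2 ↥R
    haveI hQn : Q.Normal := CfsgLib.Solvable.pCore_normal 2
    have hQU : Q ≤ U0.subgroupOf R := by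
      have hV : IsPGroup 2 (U0.subgroupOf R) :=
        IsPGroup.of_card (n := 5) (by rw [Nat.card_congr (Subgroup.subgroupOfEquivOfLe hUR).toEquiv, card_U0]; rfl)
      have hcR : Nat.card R * R.index = 6048 := hG ▸ R.card_mul_index
      have hS : ¬ 2 ∣ (U0.subgroupOf R).index := by
        intro h2
        have h3 : U0.index = 189 := by
          have := U0.card_mul_index; rw [card_U0, hG] at this; omega
        have : U0.relIndex R ∣ U0.index := Subgroup.relIndex_dvd_index_of_le hUR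
        exact absurd (h3 ▸ h2.trans this) (by norm_num)
      exact CfsgLib.Fitting.pCore_le_sylow (IsPGroup.toSylow hV hS)
    haveI : Group.IsNilpotent (U0.subgroupOf R) := (IsPGroup.of_card (n := 5) (p := 2) (by
      rw [Nat.card_congr (Subgroup.subgroupOfEquivOfLe hUR).toEquiv, card_U0]; rfl)).isNilpotent
    haveI : (Q.subgroupOf (U0.subgroupOf R)).Normal := hQn.subgroupOf _
    have hne : Q.subgroupOf (U0.subgroupOf R) ≠ ⊥ := fun e => hcore (by
      rw [Subgroup.subgroupOf_eq_bot, disjoint_iff, inf_eq_left.2 hQU] at e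
      exact e)
    have hmeet := CfsgLib.PGroupBasic.inf_center_ne_bot _ hne
    set C := Q.subgroupOf (U0.subgroupOf R) ⊓ Subgroup.center (U0.subgroupOf R)
    obtain ⟨n, hn⟩ := IsPGroup.iff_card.1 ((IsPGroup.of_card (n := 5) (p := 2) (by
      rw [Nat.card_congr (Subgroup.subgroupOfEquivOfLe hUR).toEquiv, card_U0]; rfl)).to_subgroup C)
    have hn0 : n ≠ 0 := fun e => hmeet (Subgroup.eq_bot_of_card_eq _ (by rw [hn, e, pow_zero]))
    obtain ⟨x, hx⟩ := exists_prime_orderOf_dvd_card' (G := C) 2 (hn ▸ dvd_pow_self 2 hn0)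
    obtain ⟨a, ha⟩ := mem_U0.1 (Subgroup.mem_subgroupOf.1 x.1.2)
    have hxz : ((x.1.1 : R) : G) = z := by
      have h2 : op a a = (false, 0, 0) := el_inj (by
        rw [← el_mul, el_one, ha, ← pow_two]
        exact congrArg (fun y : C => ((y.1.1 : R) : G)) (hx ▸ pow_orderOf_eq_one x))
      have hcomm : ∀ b, op a b = op b a := fun b => el_inj (by
        rw [← el_mul, ← el_mul, ha]
        exact congrArg (fun y : U0.subgroupOf R => ((y.1 : R) : G))
          ((Subgroup.mem_center_iff.1 x.2.2 ⟨⟨el b, hUR (mem_U0.2 ⟨b, rfl⟩)⟩,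
            Subgroup.mem_subgroupOf.2 (mem_U0.2 ⟨b, rfl⟩)⟩).symm))
      rcases op_center a hcomm h2 with rfl | rfl
      · exfalso
        rw [el_one] at ha
        rw [show x = 1 from Subtype.ext (Subtype.ext (Subtype.ext ha.symm)), orderOf_one] at hx
        omega
      · exact ha.symm
    have hzQ : ∀ hz : z ∈ R, (⟨z, hz⟩ : R) ∈ Q := fun hz => by
      have := (Subgroup.mem_subgroupOf.1 x.2.1)
      convert this using 1
      exact Subtype.ext hxz.symm
    have hgR : g ∈ R := Subgroup.mem_sup_right (fun y => ⟨fun hy => g_dset hy, fun hy => by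
      by_contra hy'
      -- the three cycle permutes the finite four group
      have hfin : Dset.Finite := Set.toFinite _
      have hinj : Set.InjOn (fun w => g * w * g⁻¹) Dset := fun a _ b _ e => by simpa using e
      have hsurj := (Set.Finite.injOn_iff_bijOn_of_mapsTo hfin (f := fun w => g * w * g⁻¹)
        fun w hw => g_dset hw).1 hinj
      obtain ⟨w, hw, e⟩ := hsurj.surjOn hy
      exact hy' (by simp only [mul_left_inj, mul_right_inj] at e; exact e ▸ hw)⟩)
    have hhR : h ∈ R := Subgroup.mem_sup_left (Subgroup.mem_centralizer_singleton_iff.2 h_z')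
    have hzR : z ∈ R := hUR (mem_U0.2 ⟨_, rfl⟩)
    have hd : (⟨g, hgR⟩ : R) * ⟨z, hzR⟩ * (⟨g, hgR⟩ : R)⁻¹ ∈ Q := hQn.conj_mem _ (hzQ hzR) _
    have hw : (⟨h, hhR⟩ : R) * ((⟨g, hgR⟩ : R) * ⟨z, hzR⟩ * (⟨g, hgR⟩ : R)⁻¹) * (⟨h, hhR⟩ : R)⁻¹ ∈ Q :=
      hQn.conj_mem _ hd _
    have hout := Subgroup.mem_subgroupOf.1 (hQU (hQn.conj_mem _ hw ⟨g, hgR⟩))
    simp only [Subgroup.coe_mul, Subgroup.coe_inv] at hout
    rw [g_z', mul_inv_cancel_right, h_d', mul_inv_cancel_right] at hout
    obtain ⟨b, hb⟩ := mem_U0.1 hout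
    exact g_w' b (by rw [hb, inv_mul_cancel_right])
  · ext x
    simp only [Subgroup.mem_map_equiv, R₁, Subgroup.mem_centralizer_singleton_iff]
    rw [← α.injective.eq_iff, map_mul, map_mul, MulEquiv.apply_symm_apply, z_fixed α hα]
  · refine Subgroup.eq_of_le_of_card_ge ?_ (Nat.le_of_eq
      (Subgroup.card_map_of_injective α.injective).symm)
    rintro _ ⟨y, hy, rfl⟩ w
    have hα' : U0.map (α⁻¹ : MulAut G).toMonoidHom = U0 := by
      conv_lhs => rw [← hα]
      rw [Subgroup.map_map]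
      convert Subgroup.map_id U0
      exact MonoidHom.ext fun y => α.symm_apply_apply y
    constructor
    · intro hw
      have := dset_image α hα ((hy _).1 (dset_image _ hα' hw))
      simpa using this
    · intro hw
      have := dset_image α hα ((hy (α⁻¹ w)).2 (by
        have := dset_image _ hα' hw
        simpa using this))
      simpa using this

variable {X : Type*} [Group X] [Finite X] (K : Subgroup X) [K.Normal] [Fact (Nat.Prime 2)]

theorem pminimal_false {F : Type} [Field F] [Fintype F] (hF : Fintype.card F = 9) (e : K ≃* Cfsg.PSU 3 F 3)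
    (hX : Cfsg.IsPMinimal 2 X) : False := by
  let f : K ≃* G := (e.trans (CfsgLib.U33Deg.psuCongr
    (FiniteField.ringEquivOfCardEq (hF.trans F9.card.symm)))).trans toPSU.symm
  haveI : Finite G := Finite.of_equiv _ f.toEquiv
  haveI : IsSimpleGroup K := (MulEquiv.isSimpleGroup_congr e).2
    (CfsgLib.Unitary.isSimpleGroup_PSU (n := 3) (q := 3)
      (by rw [Nat.card_eq_fintype_card, hF]; norm_num) le_rfl (by norm_num))
  obtain ⟨R₁, R₂, h1, h2, n1, n2, htop, hinv⟩ := exists_pair
  have hb : Function.Bijective f.toMonoidHom := f.bijective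
  set V0 := U0.comap f.toMonoidHom
  have hV : Nat.card V0 = 32 :=
    (Nat.card_congr (f.toEquiv.subtypeEquiv fun _ => Iff.rfl)).trans card_U0
  have hK : Nat.card K = 6048 := (Nat.card_congr f.toEquiv).trans card_G
  set V : Sylow 2 K := Sylow.ofCard V0 (by
    rw [hV, hK, show (6048 : ℕ) = 2 ^ 5 * 189 from rfl, Nat.factorization_mul (by norm_num) (by norm_num),
      Finsupp.add_apply, Nat.factorization_eq_zero_of_not_dvd (by norm_num : ¬ 2 ∣ 189),
      Nat.prime_two.factorization_pow]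
    simp)
  have hVc : (V : Subgroup K) = V0 := Sylow.coe_ofCard _ _
  refine false_of_two K V (not_normal (fun t => ?_) (fun t => ?_)) hX (R₁ := R₁.comap f.toMonoidHom) (R₂ := R₂.comap f.toMonoidHom)
    (hVc.trans_le (Subgroup.comap_mono h1)) (hVc.trans_le (Subgroup.comap_mono h2)) ?_ ?_ ?_ ?_
  · rw [hVc] at t; rw [t, Subgroup.card_bot] at hV; omega
  · rw [hVc] at t; rw [t, Subgroup.card_top, hK] at hV; omega
  · exact fun t => n1 (by rw [← Subgroup.map_comap_eq_self_of_surjective hb.surjective R₁, t,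
      Subgroup.map_top_of_surjective _ hb.surjective])
  · exact fun t => n2 (by rw [← Subgroup.map_comap_eq_self_of_surjective hb.surjective R₂, t,
      Subgroup.map_top_of_surjective _ hb.surjective])
  · rw [Subgroup.comap_sup_eq _ _ _ hb.surjective, htop, Subgroup.comap_top]
  · intro α hα
    rw [hVc] at hα
    set β : MulAut G := f.symm.trans (α.trans f)
    have hconv : ∀ R : Subgroup G, (R.comap f.toMonoidHom).map α.toMonoidHom =
        (R.map β.toMonoidHom).comap f.toMonoidHom := fun R => by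
      ext y
      simp only [Subgroup.mem_map_equiv, Subgroup.mem_comap]
      show f (α.symm y) ∈ R ↔ β.symm (f y) ∈ R
      simp [β]
    obtain ⟨k1, k2⟩ := hinv β (Subgroup.comap_injective hb.surjective (by rw [← hconv]; exact hα))
    exact ⟨by rw [hconv, k1], by rw [hconv, k2]⟩

end CfsgLib.SplitBN.U33
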