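import Cfsg.Agent.SplitBN.UnevenTwisted
import Cfsg.Agent.SplitBN.Classical

/-!
# The minimal parabolic subgroups of the unitary groups of rank two
-/

set_option autoImplicit false
set_option linter.style.haveILetI false
set_option linter.unusedSectionVars false

namespace CfsgLib.SplitBN

open Matrix CfsgLib.Pronormal CfsgLib.StClassical CfsgLib.BN CfsgLib.StCh CfsgLib.Forms CfsgLib
open scoped MatrixGroups

attribute [local instance] torus_normal

section Model

variable {n : ℕ} {F : Type*} [Field F] [Finite F] {G : Subgroup (GL (Fin n) F)} (M : StClassical.Model G)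
  (p : ℕ) [Fact p.Prime] [CharP F p] (i : Ix n)

/-- A simple reflection of a matrix model. -/
noncomputable def mrep : M.bnPair.S := ⟨M.rep i, i, rfl⟩

theorem rw_model {x : G} (hx : x ∈ M.uni) :
    x ∈ (split_model M p).Rw (BN.refl _ (mrep M i)) ↔ Blk.IsKer (lab i) (x : GL (Fin n) F) := by
  rw [(split_model M p).mem_Rw_refl]
  refine ⟨fun h => ((rk_model M i).conj_iff x.2 hx).1 ?_, fun h => ⟨hx, ?_⟩⟩
  · simpa [mrep, Model.uni, Subgroup.mem_subgroupOf, StClassical.Model.rep_coe] using h.2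
  · have := ((rk_model M i).conj_iff x.2 hx).2 h
    simpa [mrep, Model.uni, Subgroup.mem_subgroupOf, StClassical.Model.rep_coe] using this

theorem cell_eq_index :
    Nat.card {x : G ⧸ M.bnPair.B // cell M.bnPair x = BN.refl _ (mrep M i)} =
      (((split_model M p).Rw (BN.refl _ (mrep M i))).subgroupOf M.uni).index := by
  set DS := split_model M p
  have h := Subgroup.card_mul_index ((DS.Rw (BN.refl _ (mrep M i))).subgroupOf M.uni)
  rw [Nat.card_congr (Subgroup.subgroupOfEquivOfLe (DS.Rw_le _)).toEquiv,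
    ← DS.card_cell (BN.refl _ (mrep M i)), mul_comm] at h
  exact (Nat.eq_of_mul_eq_mul_right Nat.card_pos h).symm

include p in
/-- A cell is bounded by invariants determining the block part. -/
theorem cell_le {V : Type*} [Finite V] (f : GL (Fin n) F → V)
    (h : ∀ x ∈ G, ∀ y ∈ G, x ∈ unitri n F → y ∈ unitri n F → f x = f y → Blk.SameBlk (lab i) x y) :
    Nat.card {x : G ⧸ M.bnPair.B // cell M.bnPair x = BN.refl _ (mrep M i)} ≤ Nat.card V := by
  rw [cell_eq_index M p i]
  set R := (split_model M p).Rw (BN.refl _ (mrep M i))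
  show Nat.card (M.uni ⧸ R.subgroupOf M.uni) ≤ _
  refine Nat.card_le_card_of_injective (fun c => f ((c.out : M.uni) : G)) fun c d e => ?_
  rw [← QuotientGroup.out_eq' c, ← QuotientGroup.out_eq' d, QuotientGroup.eq, Subgroup.mem_subgroupOf]
  refine (rw_model M p i (mul_mem (inv_mem c.out.2) d.out.2)).2 ?_
  have hb : ∀ u : M.uni, ((u : G) : GL (Fin n) F) ∈ StGen.blkGL F (lab i) := fun u => (rk_model M i).blk _ u.1.2 u.2.1
  exact Blk.isKer_inv_mul (hb c.out) (hb d.out) (h _ c.out.1.2 _ d.out.1.2 c.out.2 d.out.2 e)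

include p in
/-- Elements with different block parts give different cosets in a cell. -/
theorem le_cell {V : Type*} [Finite V] (g : V → GL (Fin n) F) (hg : ∀ v, g v ∈ G) (hgU : ∀ v, g v ∈ unitri n F)
    (h : ∀ v w, Blk.SameBlk (lab i) (g v) (g w) → v = w) :
    Nat.card V ≤ Nat.card {x : G ⧸ M.bnPair.B // cell M.bnPair x = BN.refl _ (mrep M i)} := by
  rw [cell_eq_index M p i]
  set R := (split_model M p).Rw (BN.refl _ (mrep M i))
  show _ ≤ Nat.card (M.uni ⧸ R.subgroupOf M.uni)
  refine Nat.card_le_card_of_injective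
    (fun v => QuotientGroup.mk (⟨⟨g v, hg v⟩, hgU v⟩ : M.uni)) fun v w e => h v w ?_
  have e' := QuotientGroup.eq.1 e
  rw [Subgroup.mem_subgroupOf, rw_model M p i (Subtype.prop _)] at e'
  have hb : ∀ v, g v ∈ StGen.blkGL F (lab i) := fun v => (rk_model M i).blk _ (hg v) (hgU v).1
  have h1 := Blk.SameBlk.mul (hb v) (hb v) (mul_mem (inv_mem (hb v)) (hb w)) (one_mem _)
    (fun _ _ _ => rfl) e'
  rw [mul_inv_cancel_left, mul_one] at h1
  exact fun j k hjk => (h1 j k hjk).symm

theorem mrep_bijective : Function.Bijective (mrep M) := by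
  refine ⟨fun a b e => M.rep_inj ?_, fun s => ?_⟩
  · rw [show M.rep a = M.rep b from congrArg Subtype.val e, inv_mul_cancel]; exact one_mem _
  · obtain ⟨_, a, rfl⟩ := s
    exact ⟨a, rfl⟩

/-- A rank two model with different cells is uneven. -/
theorem uneven_model (hn : n / 2 = 2) (a b : Ix n) (hab : a ≠ b)
    (h : Nat.card {x : G ⧸ M.bnPair.B // cell M.bnPair x = BN.refl _ (mrep M a)} ≠
      Nat.card {x : G ⧸ M.bnPair.B // cell M.bnPair x = BN.refl _ (mrep M b)}) : Uneven p G := by
  refine (split_model M p).uneven ⟨_, (mrep M a).2⟩ ?_ fun s t hst => ?_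
  · rw [← Nat.card_congr (Equiv.ofBijective _ (mrep_bijective M)), Nat.card_eq_fintype_card,
      Fintype.card_fin, hn]
  obtain ⟨c, rfl⟩ := (mrep_bijective M).2 s
  obtain ⟨d, rfl⟩ := (mrep_bijective M).2 t
  have hcd : c ≠ d := fun e => hst (e ▸ rfl)
  have h2 : (c = a ∧ d = b) ∨ (c = b ∧ d = a) := by
    have h1 := c.isLt
    have h2 := d.isLt
    have h3 := a.isLt
    have h4 := b.isLt
    simp only [Fin.ext_iff, ne_eq] at hab hcd ⊢
    omega
  rcases h2 with ⟨rfl, rfl⟩ | ⟨rfl, rfl⟩
  exacts [h, h.symm]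

end Model

section Unitary

variable {F : Type*} [Field F] [Finite F] {q : ℕ} (hF : Nat.card F = q ^ 2)

include hF in
theorem card_trace_le : Nat.card {c : F // c + c ^ q = 0} ≤ q := by
  classical
  haveI := Fintype.ofFinite F
  have hq : 2 ≤ q := two_le_q hF
  set P : Polynomial F := Polynomial.X ^ q + Polynomial.X
  have hdeg : P.natDegree = q := by
    rw [Polynomial.natDegree_add_eq_left_of_natDegree_lt] <;> simp [hq]
    omega
  have hP : P ≠ 0 := fun e => by simp [e] at hdeg; omega
  rw [Nat.card_eq_fintype_card, Fintype.card_subtype]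
  refine le_trans ?_ ((Multiset.toFinset_card_le _).trans ((Polynomial.card_roots' P).trans hdeg.le))
  refine Finset.card_le_card fun c hc => ?_
  simp only [Finset.mem_filter, Finset.mem_univ, true_and] at hc
  rw [Multiset.mem_toFinset, Polynomial.mem_roots hP]
  simpa [P, add_comm] using hc

theorem inv_entry_succ {n : ℕ} {g : GL (Fin n) F} (hg : g ∈ unitri n F) (j k : Fin n) (hjk : (k : ℕ) = j + 1) :
    ((g⁻¹ : GL (Fin n) F) : Matrix (Fin n) (Fin n) F) j k = -(g : Matrix (Fin n) (Fin n) F) j k := by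
  classical
  have hlt : j < k := by rw [Fin.lt_def]; omega
  have hi := inv_mem hg
  have h1 : ((g * g⁻¹ : GL (Fin n) F) : Matrix (Fin n) (Fin n) F) j k = 0 := by
    rw [mul_inv_cancel, Units.val_one, Matrix.one_apply_ne hlt.ne]
  rw [Units.val_mul, Matrix.mul_apply, ← Finset.sum_subset (Finset.subset_univ {j, k}) (fun a _ ha => ?_),
    Finset.sum_pair hlt.ne, hg.2, hi.2] at h1
  · linear_combination h1
  · simp only [Finset.mem_insert, Finset.mem_singleton, not_or, Fin.ext_iff] at ha
    rcases lt_or_gt_of_ne ha.1 with h | h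
    · rw [upper_apply hg.1 (show a < j by rwa [Fin.lt_def]), zero_mul]
    · rw [upper_apply hi.1 (show k < a by rw [Fin.lt_def]; omega), mul_zero]

include hF in
/-- The entries linked by the twist. -/
theorem entry_linked {n : ℕ} {g : GL (Fin n) F} (hg : g ∈ twistSL n (frobQ hF)) (hU : g ∈ unitri n F)
    (j k : Fin n) (hjk : (k : ℕ) = j + 1) :
    (g : Matrix (Fin n) (Fin n) F) j k =
      -((g : Matrix (Fin n) (Fin n) F) (Fin.rev k) (Fin.rev j)) ^ q := by
  have h := congrArg (fun x : GL (Fin n) F => (x : Matrix (Fin n) (Fin n) F) j k) (mem_twistSL.1 hg).2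
  simp only [twist_apply] at h
  rw [← h, inv_entry_succ hU _ _ (by simp only [Fin.val_rev]; omega), map_neg, frobQ_apply]

include hF in
theorem mem_twistSL_of_inv {n : ℕ} (A B : Matrix (Fin n) (Fin n) F) (hAB : A * B = 1) (hBA : B * A = 1)
    (hlow : ∀ j k, k < j → A j k = 0) (hone : ∀ j, A j j = 1)
    (htw : ∀ j k, (B (Fin.rev k) (Fin.rev j)) ^ q = A j k) :
    (⟨A, B, hAB, hBA⟩ : GL (Fin n) F) ∈ twistSL n (frobQ hF) ∧
      (⟨A, B, hAB, hBA⟩ : GL (Fin n) F) ∈ unitri n F := by
  have hU : (⟨A, B, hAB, hBA⟩ : GL (Fin n) F) ∈ unitri n F := ⟨fun j k h => hlow j k h, hone⟩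
  refine ⟨mem_twistSL.2 ⟨det_unitri hU, Units.ext (Matrix.ext fun j k => ?_)⟩, hU⟩
  rw [twist_apply, frobQ_apply]
  exact htw j k

include hF in
theorem uneven_su_four (p : ℕ) [Fact p.Prime] [CharP F p] : Uneven p (twistSL 4 (frobQ hF)) := by
  have hq : 2 ≤ q := two_le_q hF
  have hq0 : q ≠ 0 := by omega
  set M := (suData (n := 4) hF).model
  refine uneven_model M p rfl ⟨0, by norm_num⟩ ⟨1, by norm_num⟩ (by simp) ?_
  have hsmall : Nat.card {x : twistSL 4 (frobQ hF) ⧸ M.bnPair.B //
      cell M.bnPair x = BN.refl _ (mrep M ⟨1, by norm_num⟩)} ≤ q := by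
    classical
    refine le_trans ?_ (card_trace_le hF)
    haveI : Nonempty {c : F // c + c ^ q = 0} := ⟨⟨0, by simp [hq0]⟩⟩
    refine cell_le M p _ (fun g => if h : _ then (⟨(g : Matrix (Fin 4) (Fin 4) F) 1 2, h⟩ :
      {c : F // c + c ^ q = 0}) else Classical.arbitrary _) fun x hx y hy hxU hyU e => ?_
    have key : ∀ g ∈ twistSL 4 (frobQ hF), g ∈ unitri 4 F →
        (g : Matrix (Fin 4) (Fin 4) F) 1 2 + ((g : Matrix (Fin 4) (Fin 4) F) 1 2) ^ q = 0 :=
      fun g hg hgU => by
        have h := entry_linked hF hg hgU 1 2 rfl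
        rw [show Fin.rev (2 : Fin 4) = 1 from rfl, show Fin.rev (1 : Fin 4) = 2 from rfl] at h
        linear_combination h
    rw [dif_pos (key x hx hxU), dif_pos (key y hy hyU)] at e
    have e' := congrArg Subtype.val e
    intro j k hjk
    fin_cases j <;> fin_cases k <;> simp [lab] at hjk <;>
      first | exact (hxU.2 _).trans (hyU.2 _).symm | exact e' |
        exact (upper_apply hxU.1 (by decide)).trans (upper_apply hyU.1 (by decide)).symm
  have hbig : q ^ 2 ≤ Nat.card {x : twistSL 4 (frobQ hF) ⧸ M.bnPair.B //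
      cell M.bnPair x = BN.refl _ (mrep M ⟨0, by norm_num⟩)} := by
    rw [← hF]
    let A : F → Matrix (Fin 4) (Fin 4) F := fun a => !![1, a, 0, 0; 0, 1, 0, 0; 0, 0, 1, -a ^ q; 0, 0, 0, 1]
    have hinv : ∀ a, A a * !![1, -a, 0, 0; 0, 1, 0, 0; 0, 0, 1, a ^ q; 0, 0, 0, 1] = 1 ∧
        !![1, -a, 0, 0; 0, 1, 0, 0; 0, 0, 1, a ^ q; 0, 0, 0, 1] * A a = 1 := fun a => by
      constructor <;> ext j k <;> fin_cases j <;> fin_cases k <;> simp [A, Matrix.mul_apply, Fin.sum_univ_four]
    have hneg : ∀ a : F, (-a) ^ q = -a ^ q := fun a => by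
      have := map_neg (frobQ hF) a
      simpa [frobQ_apply] using this
    have hqq : ∀ a : F, (a ^ q) ^ q = a := fun a => by
      have := frobQ_invol hF a
      simpa [frobQ_apply] using this
    have hm := fun a => mem_twistSL_of_inv hF (A a) _ (hinv a).1 (hinv a).2
      (by intro j k h; fin_cases j <;> fin_cases k <;> simp at h <;> simp [A])
      (by intro j; fin_cases j <;> simp [A])
      (by intro j k; fin_cases j <;> fin_cases k <;> simp [A, Fin.rev, hq0, hneg, hqq])
    refine le_cell M p _ _ (fun a => (hm a).1) (fun a => (hm a).2) fun a b h => ?_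
    simpa [A] using h 0 1 rfl
  have : q < q ^ 2 := by nlinarith
  omega

include hF in
theorem uneven_su_five (p : ℕ) [Fact p.Prime] [CharP F p] : Uneven p (twistSL 5 (frobQ hF)) := by
  have hq : 2 ≤ q := two_le_q hF
  have hq0 : q ≠ 0 := by omega
  set M := (suData (n := 5) hF).model
  refine uneven_model M p rfl ⟨0, by norm_num⟩ ⟨1, by norm_num⟩ (by simp) ?_
  have hsmall : Nat.card {x : twistSL 5 (frobQ hF) ⧸ M.bnPair.B //
      cell M.bnPair x = BN.refl _ (mrep M ⟨0, by norm_num⟩)} ≤ Nat.card F := by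
    refine cell_le M p _ (fun g => (g : Matrix (Fin 5) (Fin 5) F) 0 1) fun x hx y hy hxU hyU e => ?_
    replace e : (x : Matrix (Fin 5) (Fin 5) F) 0 1 = (y : Matrix (Fin 5) (Fin 5) F) 0 1 := e
    have e' : (x : Matrix (Fin 5) (Fin 5) F) 3 4 = (y : Matrix (Fin 5) (Fin 5) F) 3 4 := by
      rw [entry_linked hF hx hxU 3 4 rfl, entry_linked hF hy hyU 3 4 rfl,
        show Fin.rev (4 : Fin 5) = 0 from rfl, show Fin.rev (3 : Fin 5) = 1 from rfl, e]
    intro j k hjk
    fin_cases j <;> fin_cases k <;> simp [lab] at hjk <;>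
      first | exact (hxU.2 _).trans (hyU.2 _).symm | exact e | exact e' |
        exact (upper_apply hxU.1 (by decide)).trans (upper_apply hyU.1 (by decide)).symm
  have hbig : Nat.card F + 1 ≤ Nat.card {x : twistSL 5 (frobQ hF) ⧸ M.bnPair.B //
      cell M.bnPair x = BN.refl _ (mrep M ⟨1, by norm_num⟩)} := by
    have hneg : ∀ a : F, (-a) ^ q = -a ^ q := fun a => by
      have := map_neg (frobQ hF) a
      simpa [frobQ_apply] using this
    have hqq : ∀ a : F, (a ^ q) ^ q = a := fun a => by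
      have := frobQ_invol hF a
      simpa [frobQ_apply] using this
    have hadd : ∀ a b : F, (a + b) ^ q = a ^ q + b ^ q := fun a b => by
      have := map_add (frobQ hF) a b
      simpa [frobQ_apply] using this
    obtain ⟨z, hz⟩ := exists_add_σ_eq_one (frobQ_ne_id hF) (frobQ_invol hF)
    rw [frobQ_apply] at hz
    obtain ⟨d, hd0, hd⟩ : ∃ d : F, d ≠ 0 ∧ d + d ^ q = 0 := by
      obtain ⟨w, hw⟩ : ∃ w, frobQ hF w ≠ w := by
        by_contra hc
        push Not at hc
        exact frobQ_ne_id hF (RingHom.ext hc)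
      refine ⟨w - frobQ hF w, sub_ne_zero.2 hw.symm, ?_⟩
      have := map_sub (frobQ hF) w (frobQ hF w)
      rw [frobQ_invol hF, frobQ_apply, frobQ_apply] at this
      rw [frobQ_apply, this]
      ring
    let av : Option F → F := fun v => v.getD 0
    let cv : Option F → F := fun v => v.elim d fun a => -(z * (a * a ^ q))
    have hc : ∀ v, cv v + cv v ^ q = -(av v * av v ^ q) := by
      rintro (_ | a)
      · simp [av, cv, hd, hq0]
      · simp only [av, cv, Option.elim_some, Option.getD_some, hneg, mul_pow, hqq]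
        linear_combination -(a * a ^ q) * hz
    let A : Option F → Matrix (Fin 5) (Fin 5) F := fun v =>
      !![1, 0, 0, 0, 0; 0, 1, av v, cv v, 0; 0, 0, 1, -av v ^ q, 0; 0, 0, 0, 1, 0; 0, 0, 0, 0, 1]
    let B : Option F → Matrix (Fin 5) (Fin 5) F := fun v =>
      !![1, 0, 0, 0, 0; 0, 1, -av v, cv v ^ q, 0; 0, 0, 1, av v ^ q, 0; 0, 0, 0, 1, 0; 0, 0, 0, 0, 1]
    have hinv : ∀ v, A v * B v = 1 ∧ B v * A v = 1 := fun v => by
      constructor <;> ext j k <;> fin_cases j <;> fin_cases k <;>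
        simp [A, B, Matrix.mul_apply, Fin.sum_univ_five] <;> linear_combination hc v
    have hm := fun v => mem_twistSL_of_inv hF (A v) (B v) (hinv v).1 (hinv v).2
      (by intro j k h; fin_cases j <;> fin_cases k <;> simp at h <;> simp [A])
      (by intro j; fin_cases j <;> simp [A])
      (by intro j k; fin_cases j <;> fin_cases k <;> simp [A, B, Fin.rev, hq0, hneg, hqq])
    rw [← Finite.card_option]
    refine le_cell M p _ _ (fun v => (hm v).1) (fun v => (hm v).2) fun v w h => ?_
    have h1 : av v = av w := by simpa [A] using h 1 2 rfl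
    have h2 : cv v = cv w := by simpa [A] using h 1 3 rfl
    rcases v with _ | a <;> rcases w with _ | b <;> simp [av, cv] at h1 h2 ⊢
    · subst h1; simp [hq0, hd0] at h2
    · subst h1; simp [hq0, hd0.symm] at h2
    · exact h1
  omega

end Unitary

theorem uneven_psu {F : Type} [Field F] [Fintype F] {p : ℕ} [Fact p.Prime] [CharP F p] {n q : ℕ}
    (hF : Fintype.card F = q ^ 2) (hn : n = 4 ∨ n = 5) : Uneven p (Cfsg.PSU n F q) := by
  have hF' : Nat.card F = q ^ 2 := by rw [Nat.card_eq_fintype_card, hF]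
  obtain ⟨f, hf, hr⟩ := exists_suHom (n := n) hF'
  refine uneven_of_hom (p := p) f hf ?_
  rw [hr]
  rcases hn with rfl | rfl
  exacts [uneven_su_four hF' p, uneven_su_five hF' p]

end CfsgLib.SplitBN
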