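import Cfsg.Agent.SplitBN.RankFamilies
import Cfsg.Agent.SplitBN.UnevenUnitary
import Cfsg.Agent.SplitBN.RigidG2
import Cfsg.Agent.SplitBN.SpecialAlt
import Cfsg.Agent.SplitBN.SpecialUnitary
import Cfsg.Agent.SplitBN.SpecialTits
import Cfsg.Agent.SplitBN.SpecialEight
import Cfsg.Prelude.Def_AlmostLie

/-!
# `p`-minimal groups with a simple normal subgroup of Lie type
-/

set_option autoImplicit false
set_option linter.style.haveILetI false
set_option linter.unusedSectionVars false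

namespace CfsgLib.SplitBN

open Cfsg.Lie CfsgLib.Chev CfsgLib.BN CfsgLib.StCh

attribute [local instance] torus_normal

variable {X : Type*} [Group X] [Finite X] {p : ℕ} [Fact p.Prime] (K : Subgroup X) [K.Normal]

/-- The conclusion about `K`. -/
def Concl (p : ℕ) (K : Subgroup X) : Prop :=
  Cfsg.IsLieRankOneChar p ↥K ∨
    (p = 2 ∧ K ≠ ⊤ ∧
      ((∃ (F : Type) (_ : Field F) (_ : Fintype F) (_ : CharP F 2),
          Nonempty (↥K ≃* Matrix.ProjectiveSpecialLinearGroup (Fin 3) F)) ∨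
        (∃ (F : Type) (_ : Field F) (_ : Fintype F) (_ : CharP F 2),
          4 ≤ Fintype.card F ∧ Nonempty (↥K ≃* Cfsg.PSp 2 F)) ∨
        Nonempty (↥K ≃* ↥(alternatingGroup (Fin 6)))))

theorem of_rank [IsSimpleGroup K] {r : ℕ} (h : HasRank p K r) (U : Sylow p K) (hX : Cfsg.IsPMinimal p X) :
    IsCoatom (Subgroup.normalizer (((U : Subgroup K).map K.subtype : Subgroup X) : Set X)) ∧ r ≤ 2 ∧
      (r = 2 → p = 2 ∧ K ≠ ⊤) := by
  obtain ⟨P, V, D, hS, hr⟩ := h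
  obtain ⟨h1, h2, h3⟩ := pminimal_core K D hS hX
  obtain ⟨S, hSV⟩ := D.sylow
  rw [← hSV] at h1
  exact ⟨isCoatom_normalizer_congr K S U h1, hr ▸ h2,
    fun e => ⟨(h3 (hr.trans e)).1, (h3 (hr.trans e)).2.1⟩⟩

/-- A rigid Tits system of rank two does not occur. -/
theorem false_of_rigid (h : Rigid p K) (hX : Cfsg.IsPMinimal p X) : False := by
  obtain ⟨P, V, D, hS, h2, hfix⟩ := h
  obtain ⟨S, hSV⟩ := D.sylow
  obtain ⟨a, b, hab, huniv⟩ := Nat.card_eq_two_iff.1 h2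
  have hn : ¬ (S : Subgroup K).Normal := by
    intro hn
    rw [hSV] at hn
    obtain ⟨g₀, hg₀⟩ := D.opp
    refine D.X_ne_bot a ((Subgroup.eq_bot_iff_forall _).2 fun x hx => hg₀ x (D.X_le a hx) ?_)
    simpa using hn.conj_mem x (D.X_le a hx) g₀⁻¹
  have hproper : ∀ s t : P.S, t ≠ s → par P ({s} : Set P.S) ≠ ⊤ := fun s t hts htop =>
    hts (mem_of_mem_par (J := ({s} : Set P.S)) (htop.symm ▸ Subgroup.mem_top _))
  have hle : ∀ s : P.S, (S : Subgroup K) ≤ par P ({s} : Set P.S) := fun s =>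
    hSV.trans_le (D.le.trans (borel_le_par _))
  refine false_of_two K S hn hX (hle a) (hle b) (hproper a b hab.symm) (hproper b a hab) ?_
    fun α hα => ⟨hfix α (hSV ▸ hα) a, hfix α (hSV ▸ hα) b⟩
  rw [eq_top_iff, ← par_univ (P := P)]
  refine sup_le ((borel_le_par _).trans le_sup_left) ((Subgroup.closure_le _).2 ?_)
  rintro _ ⟨t, -, rfl⟩
  have ht : t ∈ ({a, b} : Set P.S) := huniv ▸ Set.mem_univ t
  rcases (by simpa using ht : t = a ∨ t = b) with rfl | rfl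
  · exact Subgroup.mem_sup_left (simple_mem_par (P := P) rfl)
  · exact Subgroup.mem_sup_right (simple_mem_par (P := P) rfl)

theorem pminimal_lieType (hG : Cfsg.IsLieTypeChar p K) (U : Sylow p K) (hX : Cfsg.IsPMinimal p X) :
    IsCoatom (Subgroup.normalizer (((U : Subgroup K).map K.subtype : Subgroup X) : Set X)) ∧ Concl p K := by
  haveI : IsSimpleGroup K := (lieData_of_isLieTypeChar hG).2.1
  have big : ∀ {r : ℕ}, HasRank p K r → 3 ≤ r → False := fun h hr => by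
    have := (of_rank K h U hX).2.1; omega
  rcases hG with h | h | h | h | h | h | h | h | ⟨rfl, h⟩ | ⟨rfl, h⟩ | ⟨rfl, h⟩
  · obtain ⟨F, _, _, hc, n, hn, h4, ⟨e⟩⟩ := h
    haveI := hc
    obtain ⟨hcoat, hle, htwo⟩ := of_rank K ((rank_psl (p := p) (F := F) hn).congr e.symm) U hX
    refine ⟨hcoat, ?_⟩
    rcases (show n = 2 ∨ n = 3 by omega) with rfl | rfl
    · exact Or.inl (Or.inl ⟨F, _, _, hc, h4 rfl, ⟨e⟩⟩)
    · obtain ⟨rfl, hne⟩ := htwo rfl
      exact Or.inr ⟨rfl, hne, Or.inl ⟨F, inferInstance, inferInstance, hc, ⟨e⟩⟩⟩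
  · obtain ⟨F, _, _, hc, m, hm, h3, ⟨e⟩⟩ := h
    haveI := hc
    obtain ⟨hcoat, hle, htwo⟩ := of_rank K ((rank_psp (p := p) (F := F) hm).congr e.symm) U hX
    refine ⟨hcoat, ?_⟩
    obtain rfl : m = 2 := by omega
    obtain ⟨rfl, hne⟩ := htwo rfl
    refine Or.inr ⟨rfl, hne, Or.inr (Or.inl ⟨F, inferInstance, inferInstance, hc, ?_, ⟨e⟩⟩)⟩
    have h3' := h3 rfl
    have he : Fintype.card F % 2 = 0 := FiniteField.even_card_iff_char_two.1 (ringChar.eq F 2)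
    omega
  · obtain ⟨F, _, _, hc, n, q, hF, hn, hne, ⟨e⟩⟩ := h
    haveI := hc
    obtain ⟨hcoat, hle, -⟩ := of_rank K ((rank_psu (p := p) hF (n := n) (by omega)).congr e.symm) U hX
    rcases (show n = 3 ∨ n = 4 ∨ n = 5 by omega) with rfl | h45
    · exact ⟨hcoat, Or.inl (Or.inr (Or.inl ⟨F, _, _, hc, q, hF, fun hq => hne ⟨rfl, hq⟩, ⟨e⟩⟩))⟩
    · exact (false_of_rigid K ((uneven_psu (p := p) hF h45).congr e.symm).rigid hX).elim
  · obtain ⟨F, _, _, hc, m, hm, hodd, ⟨e⟩⟩ := h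
    haveI := hc
    have hp : p ≠ 2 := by
      rintro rfl
      have he : Fintype.card F % 2 = 0 := FiniteField.even_card_iff_char_two.1 (ringChar.eq F 2)
      rw [Nat.odd_iff] at hodd
      omega
    exact (big ((rank_pOmega_odd (p := p) (F := F) (m := m) (by omega) hp).congr e.symm) hm).elim
  · obtain ⟨F, _, _, hc, m, hm, ⟨e⟩⟩ := h
    haveI := hc
    exact (big ((rank_pOmega_plus (p := p) (F := F) hm).congr e.symm) (by omega)).elim
  · obtain ⟨F, _, _, hc, m, a, b, hm, hab, ⟨e⟩⟩ := h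
    haveI := hc
    exact (big ((rank_pOmega_minus (p := p) hm a b hab).congr e.symm) (by omega)).elim
  · obtain ⟨F, _, _, hc, ⟨h3, ⟨e⟩⟩ | ⟨⟨e⟩⟩ | ⟨⟨e⟩⟩ | ⟨⟨e⟩⟩ | ⟨⟨e⟩⟩⟩ := h <;> haveI := hc
    · obtain ⟨-, -, htwo⟩ :=
        of_rank K ((rank_chev (p := p) good_G2 (F := F) (by decide)).congr e.symm) U hX
      obtain ⟨rfl, -⟩ := htwo rfl
      refine (false_of_rigid K ((rigid_G2 (F := F) 2 ?_).congr e.symm) hX).elim
      rw [Ne, CharP.cast_eq_zero_iff F 2]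
      norm_num
    · exact (big ((rank_chev (p := p) good_F4 (F := F) (by decide)).congr e.symm) (by decide)).elim
    · exact (big ((rank_chev (p := p) good_E6 (F := F) (by decide)).congr e.symm) (by decide)).elim
    · exact (big ((rank_chev (p := p) good_E7 (F := F) (by decide)).congr e.symm) (by decide)).elim
    · exact (big ((rank_chev (p := p) good_E8 (F := F) (by decide)).congr e.symm) (by decide)).elim
  · obtain ⟨L, _, _, hc, q, hq, ⟨hK, ⟨e⟩⟩ | ⟨hK, ⟨e⟩⟩⟩ := h <;> haveI := hc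
    · exact (big (rank_twisted_E6 (p := p) hq hK e) (by omega)).elim
    · exact (false_of_rigid K (uneven_twD4 (p := p) hq hK e).rigid hX).elim
  · exact ⟨(of_rank K (rank_suzuki h) U hX).1, Or.inl (Or.inr (Or.inr (Or.inl ⟨rfl, h⟩)))⟩
  · exact (false_of_rigid K (uneven_twF4 h).rigid hX).elim
  · exact ⟨(of_rank K (rank_ree h) U hX).1, Or.inl (Or.inr (Or.inr (Or.inr ⟨rfl, Or.inl h⟩)))⟩

theorem pminimal_chevSimple (hG : Cfsg.IsChevSimple p K) (U : Sylow p K) (hX : Cfsg.IsPMinimal p X) :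
    IsCoatom (Subgroup.normalizer (((U : Subgroup K).map K.subtype : Subgroup X) : Set X)) ∧ Concl p K := by
  rcases hG with h | ⟨rfl, h | ⟨F, _, _, hF, ⟨e⟩⟩ | h⟩ | ⟨rfl, F, _, _, hF, ⟨e⟩⟩
  · exact pminimal_lieType K h U hX
  · obtain ⟨e⟩ := h
    obtain ⟨h1, h2⟩ := Six.pminimal K e U hX
    exact ⟨h1, Or.inr ⟨rfl, h2, Or.inr (Or.inr ⟨e⟩)⟩⟩
  · exact (U33.pminimal_false K hF e hX).elim
  · exact (false_of_rigid K (tits_rigid K h hX) hX).elim
  · exact ⟨Eight.pminimal K hF e U hX, Or.inl (Or.inr (Or.inr (Or.inr ⟨rfl, Or.inr ⟨F, _, _, hF, ⟨e⟩⟩⟩)))⟩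

end CfsgLib.SplitBN
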