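import Cfsg.Agent.SplitBN.Basic
import Mathlib.GroupTheory.Subgroup.Simple

/-!
# Automorphisms of `p'`-order fixing a Sylow `p`-subgroup pointwise
-/

set_option autoImplicit false
set_option linter.style.haveILetI false
set_option linter.unusedSectionVars false

namespace CfsgLib.SplitBN

open CfsgLib.BN CfsgLib.StCh

attribute [local instance] torus_normal

variable {G : Type*} [Group G] [Finite G] {P : Cfsg.BNPair G}

namespace Split

variable {p : ℕ} {U : Subgroup G} (D : Split P p U)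
include D

/-- A `p`-element normalising a conjugate of `U` lies in it. -/
theorem mem_conj_of_normalize {g x : G} {k : ℕ} (hk : x ^ p ^ k = 1)
    (hx : ∀ y ∈ U, g⁻¹ * (x * (g * y * g⁻¹) * x⁻¹) * g ∈ U) : g⁻¹ * x * g ∈ U := by
  obtain ⟨S, hS⟩ := D.sylow
  set z := g⁻¹ * x * g with hz
  have hzk : z ^ p ^ k = 1 := by
    have := conj_pow (a := g⁻¹) (b := x) (i := p ^ k)
    rw [inv_inv] at this
    rw [hz, this, hk, mul_one, inv_mul_cancel]
  have hn : z ∈ Subgroup.normalizer (U : Set G) := by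
    rw [Subgroup.mem_normalizer_iff_map_conj_eq]
    refine Subgroup.eq_of_le_of_card_ge ?_ ?_
    · rintro _ ⟨y, hy, rfl⟩
      have := hx y hy
      show z * y * z⁻¹ ∈ U
      rw [hz]
      convert this using 1
      group
    · rw [Subgroup.card_map_of_injective (MulEquiv.injective _)]
  have hzP : IsPGroup p (Subgroup.zpowers z) := by
    rintro ⟨y, hy⟩
    obtain ⟨m, rfl⟩ := Subgroup.mem_zpowers_iff.1 hy
    exact ⟨k, Subtype.ext (by
      rw [Subgroup.coe_pow, Subgroup.coe_one, ← zpow_natCast (z ^ m), ← zpow_mul, mul_comm, zpow_mul,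
        zpow_natCast, hzk, one_zpow])⟩
  have hsup := hzP.to_sup_of_normal_right' (hS ▸ S.isPGroup' : IsPGroup p U)
    (by rw [Subgroup.zpowers_le]; exact hn)
  have := S.is_maximal' hsup (by rw [hS]; exact le_sup_right)
  rw [hS] at this
  exact this ▸ Subgroup.mem_sup_left (Subgroup.mem_zpowers z)

/-- Conjugates of `U` meeting it trivially come from the longest cell. -/
theorem meetC_eq_bot_iff {g : G} : meetC U g = ⊥ ↔ g ∈ cw P (w0 P) := by
  obtain ⟨n, hn, hgn⟩ := BN.bruhat P g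
  obtain ⟨u, hu, b, hb, rfl⟩ := (D.mem_cw_iff ⟨n, hn⟩).1 hgn
  have h1 : meetC U (u * n * b) = ⊥ ↔ D.Rw (QuotientGroup.mk (⟨n, hn⟩ : P.N)) = ⊥ := by
    rw [D.meetC_mul_right hb, ← D.meetC_eq_Rw]
    constructor <;> intro h <;> rw [eq_bot_iff] <;> intro x hx <;> rw [mem_meetC] at hx
    · have hm : u * x * u⁻¹ ∈ meetC U (u * n) := mem_meetC.2 ⟨mul_mem (mul_mem hu hx.1) (inv_mem hu), by
        convert hx.2 using 1
        simp only
        group⟩
      rw [h, Subgroup.mem_bot] at hm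
      exact Subgroup.mem_bot.2 (conj_eq_one_iff.1 hm)
    · have hm : u⁻¹ * x * u ∈ meetC U n := mem_meetC.2 ⟨mul_mem (mul_mem (inv_mem hu) hx.1) hu, by
        convert hx.2 using 1
        group⟩
      rw [h, Subgroup.mem_bot] at hm
      have : u⁻¹ * x * u⁻¹⁻¹ = 1 := by rwa [inv_inv]
      exact Subgroup.mem_bot.2 (conj_eq_one_iff.1 this)
  have hw : u * n * b ∈ cw P (QuotientGroup.mk (⟨n, hn⟩ : P.N)) :=
    (D.mem_cw_iff ⟨n, hn⟩).2 ⟨u, hu, b, hb, rfl⟩
  rw [h1, D.Rw_eq_bot_iff]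
  exact ⟨fun h => h ▸ hw, fun h => eq_of_mem P hw h⟩

omit D in
theorem exists_w0_mul_w0 (w : Weyl P) : ∃ a ∈ cw P (w0 P), ∃ c ∈ cw P (w0 P), a * c ∈ cw P w := by
  obtain ⟨n, hn⟩ := QuotientGroup.mk_surjective (w0 P)
  have hn0 : (n : G) ∈ cw P (w0 P) := by rw [← hn, cw_mk]; exact self_mem_cosetOf P _
  obtain ⟨L, rfl, hL⟩ := exists_reduced P w
  induction L with
  | nil =>
    refine ⟨n, hn0, (n : G)⁻¹, ?_, ?_⟩
    · have := inv_mem_cw P hn0; rwa [w0_inv] at this
    · rw [mul_inv_cancel, wprod_nil]; exact (mem_B_iff_cw_one P).1 (one_mem _)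
  | cons s L ih =>
    rw [wprod_cons] at hL ⊢
    rw [List.length_cons] at hL
    have h1 := len_le P L
    have h2 := len_refl_mul_le P s (wprod P L)
    obtain ⟨a, ha, c, hc, hac⟩ := ih (by omega)
    obtain ⟨b, hb, hbs⟩ := exists_mul_mem_refl P s
    rw [← hn, cw_mk] at ha
    obtain ⟨β, hβ, γ, hγ, rfl⟩ := (mem_cosetOf P).1 ha
    set x := s.1 * (b * β⁻¹)
    have hx : x ∈ cw P (BN.refl P s) := mem_cw_right P (mul_mem hb (inv_mem hβ)) (s_mem_cw P s)
    have hlw : len P (BN.refl P s * w0 P) < len P (BN.refl P s * (BN.refl P s * w0 P)) := by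
      rw [← mul_assoc, refl_sq, one_mul]
      have := len_mul_w0 (BN.refl P s)
      rw [len_refl] at this
      omega
    refine ⟨x * (β * n.1 * γ), ?_, c, hc, ?_⟩
    · have hsn : s.1⁻¹ * n.1 ∈ cw P (BN.refl P s * w0 P) := by
        have h1 : s.1⁻¹ * n.1 = (((⟨s.1, P.subset s.2⟩ : P.N)⁻¹ * n : P.N) : G) := rfl
        rw [h1, ← hn, show BN.refl P s * (QuotientGroup.mk n : Weyl P) =
            QuotientGroup.mk ((⟨s.1, P.subset s.2⟩ : P.N)⁻¹ * n) by
          rw [QuotientGroup.mk_mul, QuotientGroup.mk_inv]; exact congrArg (· * _) (refl_inv P s).symm, cw_mk]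
        exact self_mem_cosetOf P _
      have := mul_of_len_ge P s _ _ le_rfl hlw.le _ hbs _ (mem_cw_right P hγ hsn)
      rw [← mul_assoc (BN.refl P s), refl_sq, one_mul] at this
      convert this using 1
      simp only [x]
      group
    · rw [mul_assoc x]
      exact mul_of_len_ge P s _ _ le_rfl (by omega) _ hx _ hac

/-- One step: the conjugates through the longest cell. -/
theorem fix_step (α : MulAut G) (hα : ¬ p ∣ orderOf α) [Fact p.Prime] (hfix : ∀ x ∈ U, α x = x)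
    {a : G} (ha : a ∈ cw P (w0 P)) : ∀ x ∈ U, α (a * x * a⁻¹) = a * x * a⁻¹ := by
  have hp : p.Prime := Fact.out
  obtain ⟨S, hS⟩ := D.sylow
  obtain ⟨n, hn⟩ := QuotientGroup.mk_surjective (w0 P)
  have hcoord : ∀ g ∈ cw P (w0 P), ∃ u ∈ U, ∃ b ∈ P.B, g = u * n.1 * b := fun g hg =>
    (D.mem_cw_iff n).1 (hn ▸ hg)
  have hn0 : (n : G) ∈ cw P (w0 P) := by rw [← hn, cw_mk]; exact self_mem_cosetOf P _
  have hbot : ∀ x, x ∈ U → (n : G)⁻¹ * x * n ∈ U → x = 1 := fun x h1 h2 => by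
    have := D.meetC_eq_bot_iff.2 hn0
    exact Subgroup.mem_bot.1 (this ▸ mem_meetC.2 ⟨h1, h2⟩)
  -- the stabiliser in `U` of the opposite subgroup is trivial
  have hstab : ∀ u ∈ U, (∀ y ∈ U, (n : G)⁻¹ * (u * (n * y * (n : G)⁻¹) * u⁻¹) * n ∈ U) → u = 1 := by
    intro u hu h
    obtain ⟨k, hk⟩ := D.isP ⟨u, hu⟩
    exact hbot u hu (D.mem_conj_of_normalize (k := k) (congrArg Subtype.val hk) h)
  -- `α` stabilises every subgroup opposite to `U`
  have hV : ∀ y ∈ U, (n : G)⁻¹ * α (n * y * (n : G)⁻¹) * n ∈ U := by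
    obtain ⟨g, hg⟩ := MulAction.exists_smul_eq G S ⟨U.map ((MulAut.conj (α n.1)).toMonoidHom),
      (hS ▸ S.isPGroup' : IsPGroup p U).map _, fun {Q} hQ hle => by
        have := S.is_maximal' (hQ.map (MulAut.conj (α n.1))⁻¹.toMonoidHom) (by
          rw [hS]
          intro y hy
          exact ⟨_, hle ⟨y, hy, rfl⟩, by simp [mul_assoc]⟩)
        rw [hS] at this
        rw [← this, Subgroup.map_map]
        convert (Subgroup.map_id Q).symm
        ext z
        simp [mul_assoc]⟩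
    have hg' : ∀ y, y ∈ U → g⁻¹ * (α n.1 * y * (α n.1)⁻¹) * g ∈ U := by
      intro y hy
      have : α n.1 * y * (α n.1)⁻¹ ∈ (g • S : Sylow p G) := by
        rw [hg]; exact ⟨y, hy, rfl⟩
      obtain ⟨z, hz, hze⟩ := this
      have hz' : z ∈ U := by rw [← hS]; exact hz
      have hze' : g * z * g⁻¹ = α n.1 * y * (α n.1)⁻¹ := hze
      rw [← hze']
      simpa [mul_assoc] using hz'
    have hαn : ∀ y ∈ U, g⁻¹ * α (n * y * (n : G)⁻¹) * g ∈ U := fun y hy => by
      have := hg' (α y) (by rwa [hfix y hy])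
      rwa [map_mul, map_mul, map_inv]
    have hgw : g ∈ cw P (w0 P) := by
      refine D.meetC_eq_bot_iff.1 (eq_bot_iff.2 fun x hx => ?_)
      obtain ⟨hx1, hx2⟩ := mem_meetC.1 hx
      have hxg : x ∈ (g • S : Sylow p G) :=
        ⟨g⁻¹ * x * g, by rw [← hS] at hx2; exact hx2, by simp [mul_assoc]⟩
      rw [hg] at hxg
      obtain ⟨y, hy, hye⟩ := hxg
      have hye' : α n.1 * y * (α n.1)⁻¹ = x := hye
      have e : α ((n : G)⁻¹ * x * n) = y := by
        rw [map_mul, map_mul, map_inv, hfix x hx1, ← hye']; group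
      have : (n : G)⁻¹ * x * n ∈ U := by
        have hy' : α y = y := hfix y hy
        rw [α.injective (e.trans hy'.symm)]; exact hy
      exact Subgroup.mem_bot.2 (hbot x hx1 this)
    obtain ⟨u, hu, b, hb, rfl⟩ := hcoord g hgw
    have hiter : ∀ k : ℕ, ∀ y ∈ U, (n : G)⁻¹ * ((u ^ k)⁻¹ * (α ^ k) (n * y * (n : G)⁻¹) * u ^ k) * n ∈ U := by
      intro k
      induction k with
      | zero => intro y hy; simpa [mul_assoc] using hy
      | succ k ih =>
        intro y hy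
        set y' := (n : G)⁻¹ * ((u ^ k)⁻¹ * (α ^ k) (n * y * (n : G)⁻¹) * u ^ k) * n
        have h1 := D.normal b hb _ (hαn y' (ih y hy))
        have h2 : (α ^ (k + 1)) (n * y * (n : G)⁻¹) = u ^ k * α (n * y' * (n : G)⁻¹) * (u ^ k)⁻¹ := by
          have e : n.1 * y' * (n : G)⁻¹ = (u ^ k)⁻¹ * (α ^ k) (n * y * (n : G)⁻¹) * u ^ k := by
            simp only [y']; group
          rw [pow_succ', MulAut.mul_apply, e, map_mul α, map_mul α, map_inv, map_pow, hfix u hu]
          group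
        rw [h2, pow_succ]
        convert h1 using 1
        group
    have huk : u ^ orderOf α = 1 := by
      refine inv_eq_one.1 (hstab _ (inv_mem (pow_mem hu _)) fun y hy => ?_)
      have := hiter (orderOf α) y hy
      rw [pow_orderOf_eq_one] at this
      simpa using this
    have hu1 : u = 1 := by
      obtain ⟨k, hk⟩ := D.isP ⟨u, hu⟩
      have := Nat.dvd_gcd (orderOf_dvd_of_pow_eq_one huk)
        (orderOf_dvd_of_pow_eq_one (congrArg Subtype.val hk : u ^ p ^ k = 1))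
      rw [((hp.coprime_iff_not_dvd.2 hα).symm.pow_right k).gcd_eq_one, Nat.dvd_one, orderOf_eq_one_iff] at this
      exact this
    intro y hy
    have := D.normal b hb _ (hαn y hy)
    rw [hu1] at this
    convert this using 1
    group
  -- a third subgroup opposite to both
  obtain ⟨a₀, ha₀, c₀, hc₀, hac⟩ := exists_w0_mul_w0 (w0 P)
  rw [← hn, cw_mk] at hac
  obtain ⟨β, hβ, γ, hγ, e⟩ := (mem_cosetOf P).1 hac
  set x := β⁻¹ * a₀
  have hx : x ∈ cw P (w0 P) := mem_cw_left P (inv_mem hβ) ha₀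
  have hx' : (n : G)⁻¹ * x ∈ cw P (w0 P) := by
    have h1 := inv_mem_cw P (mem_cw_right P (inv_mem hγ) hc₀)
    rw [w0_inv] at h1
    convert h1 using 1
    rw [show (n : G) = β⁻¹ * (a₀ * c₀) * γ⁻¹ by rw [e]; group]
    simp only [x]
    group
  obtain ⟨u₁, hu₁, b₁, hb₁, e₁⟩ := hcoord x hx
  obtain ⟨u₂, hu₂, b₂, hb₂, e₂⟩ := hcoord _ hx'
  set v := (n : G) * u₂ * (n : G)⁻¹
  have hnn : (n : G) * n ∈ P.B := by
    rw [mem_B_iff_cw_one P, ← w0_inv (P := P) |> fun h => (mul_eq_one_iff_eq_inv.2 h.symm : w0 P * w0 P = 1),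
      ← hn, ← QuotientGroup.mk_mul, cw_mk]
    exact self_mem_cosetOf P (n * n)
  have hxv : ∀ y, v⁻¹ * y * v ∈ U ↔ x⁻¹ * y * x ∈ U := fun y => by
    rw [show x⁻¹ * y * x = ((n : G) * n * b₂)⁻¹ * (v⁻¹ * y * v) * ((n : G) * n * b₂) by
      rw [show x = n * (u₂ * n * b₂) by rw [← e₂]; group]; simp only [v]; group, D.conj_iff (mul_mem hnn hb₂)]
  have hQ : ∀ y, x⁻¹ * y * x ∈ U → x⁻¹ * α y * x ∈ U := by
    intro y hy
    rw [e₁] at hy ⊢
    have h1 : (n : G)⁻¹ * (u₁⁻¹ * y * u₁) * n ∈ U := by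
      refine (D.conj_iff hb₁).1 ?_
      convert hy using 1
      group
    have h2 := hV _ h1
    rw [show (n : G) * ((n : G)⁻¹ * (u₁⁻¹ * y * u₁) * n) * (n : G)⁻¹ = u₁⁻¹ * y * u₁ by group,
      map_mul, map_mul, map_inv, hfix u₁ hu₁] at h2
    have := D.normal' hb₁ h2
    convert this using 1
    group
  have hv : α v = v := by
    have hV' : (n : G)⁻¹ * α v * n ∈ U := hV u₂ hu₂
    have hd : (n : G)⁻¹ * (v⁻¹ * α v) * n ∈ U := by
      have := mul_mem (inv_mem hu₂) hV'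
      convert this using 1
      simp only [v]
      group
    obtain ⟨k, hk⟩ := D.isP ⟨_, hd⟩
    have hk' : (v⁻¹ * α v) ^ p ^ k = 1 := by
      have h := congrArg (fun z => (n : G) * z.1 * (n : G)⁻¹) hk
      simp only [Subgroup.coe_pow, ← conj_pow, Subgroup.coe_one, mul_one, mul_inv_cancel] at h
      convert h using 2
      group
    have hnorm : ∀ y ∈ U, 1⁻¹ * (v⁻¹ * α v * (1 * y * 1⁻¹) * (v⁻¹ * α v)⁻¹) * 1 ∈ U := by
      intro y hy
      have h2 := (hxv _).2 (hQ (v * y * v⁻¹) ((hxv _).1 (by simpa [mul_assoc] using hy)))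
      rw [map_mul, map_mul, map_inv, hfix y hy] at h2
      convert h2 using 1
      group
    have := D.mem_conj_of_normalize hk' hnorm
    rw [inv_one, one_mul, mul_one] at this
    exact (inv_mul_eq_one.1 (hbot _ this hd)).symm
  intro y hy
  obtain ⟨u, hu, b, hb, rfl⟩ := hcoord a ha
  -- move from `x` to `a`
  have hy' : b₁⁻¹ * (b * y * b⁻¹) * b₁ ∈ U := D.normal' hb₁ (D.normal b hb y hy)
  have hz : v⁻¹ * (x * (b₁⁻¹ * (b * y * b⁻¹) * b₁) * x⁻¹) * v ∈ U :=
    (hxv _).2 (by simpa [mul_assoc] using hy')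
  have hfx : α (x * (b₁⁻¹ * (b * y * b⁻¹) * b₁) * x⁻¹) = x * (b₁⁻¹ * (b * y * b⁻¹) * b₁) * x⁻¹ := by
    have := hfix _ hz
    rw [map_mul _ _ v, map_mul _ v⁻¹, map_inv, hv, mul_left_inj, mul_right_inj] at this
    exact this
  have hc : u * n.1 * b * y * (u * n.1 * b)⁻¹ =
      (u * u₁⁻¹) * (x * (b₁⁻¹ * (b * y * b⁻¹) * b₁) * x⁻¹) * (u * u₁⁻¹)⁻¹ := by
    rw [e₁]; group
  rw [hc, map_mul, map_mul, hfx, map_inv, map_mul, hfix u hu, map_inv, hfix u₁ hu₁]

/-- An automorphism of order prime to `p` fixing a Sylow `p`-subgroup pointwise is trivial. -/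
theorem aut_eq_one [IsSimpleGroup G] [Fact p.Prime] (hS : P.S.Nonempty) (α : MulAut G)
    (hα : ¬ p ∣ orderOf α) (Q : Sylow p G) (hfix : ∀ x ∈ (Q : Subgroup G), α x = x) : α = 1 := by
  obtain ⟨S, hSU⟩ := D.sylow
  -- the conjugates of `U` fixed pointwise
  let F : Set G := {g | ∀ x ∈ U, α (g * x * g⁻¹) = g * x * g⁻¹}
  have hstep : ∀ g ∈ F, ∀ a ∈ cw P (w0 P), g * a ∈ F := by
    intro g hg a ha x hx
    set c : MulAut G := MulAut.conj g
    set β : MulAut G := c⁻¹ * α * c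
    have hβ : ¬ p ∣ orderOf β := by
      have : orderOf β = orderOf α := by
        have := (MulAut.conj (c⁻¹ : MulAut G)).orderOf_eq α
        simpa [β, MulAut.conj_apply] using this
      rwa [this]
    have hβfix : ∀ y ∈ U, β y = y := fun y hy => by
      simp only [β, c, MulAut.mul_apply, MulAut.conj_apply, MulAut.conj_inv_apply, hg y hy]
      group
    have := D.fix_step β hβ hβfix ha x hx
    simp only [β, c, MulAut.mul_apply, MulAut.conj_apply, MulAut.conj_inv_apply] at this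
    have h := congrArg (fun z => g * z * g⁻¹) this
    simpa [mul_assoc] using h
  obtain ⟨g₀, hg₀⟩ := MulAction.exists_smul_eq G S Q
  have h0 : g₀ ∈ F := fun x hx => hfix _ (by
    rw [← hg₀]
    exact ⟨x, by rw [← hSU] at hx; exact hx, rfl⟩)
  have hall : ∀ g, g ∈ F := by
    intro g
    obtain ⟨a, ha, c, hc, hac⟩ := exists_w0_mul_w0 (cellOf P (g₀⁻¹ * g))
    obtain ⟨n, hn⟩ := QuotientGroup.mk_surjective (cellOf P (g₀⁻¹ * g))
    have hg := mem_cellOf (P := P) (g₀⁻¹ * g)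
    rw [← hn, cw_mk] at hac hg
    obtain ⟨b, hb, d, hd, e⟩ := (mem_cosetOf P).1 hac
    obtain ⟨b', hb', d', hd', e'⟩ := (mem_cosetOf P).1 hg
    have := hstep _ (hstep g₀ h0 _ (mem_cw_left P (mul_mem hb' (inv_mem hb)) ha)) _
      (mem_cw_right P (mul_mem (inv_mem hd) hd') hc)
    convert this using 1
    calc g = g₀ * (g₀⁻¹ * g) := by group
      _ = g₀ * (b' * b⁻¹) * (b * n * d) * (d⁻¹ * d') := by rw [e']; group
      _ = _ := by rw [← e]; group
  obtain ⟨s, hs⟩ := hS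
  have hU : U ≠ ⊥ := fun h => D.X_ne_bot ⟨s, hs⟩ (eq_bot_iff.2 (h ▸ D.X_le ⟨s, hs⟩))
  have htop : Subgroup.normalClosure (U : Set G) = ⊤ := by
    refine (IsSimpleGroup.eq_bot_or_eq_top_of_normal _ inferInstance).resolve_left fun h => hU ?_
    exact eq_bot_iff.2 (h ▸ Subgroup.le_normalClosure)
  refine MulEquiv.ext fun g => ?_
  have : Subgroup.normalClosure (U : Set G) ≤ α.toMonoidHom.eqLocus (MonoidHom.id G) := by
    refine (Subgroup.closure_le _).2 fun z hz => ?_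
    obtain ⟨u, hu, hc⟩ := Group.mem_conjugatesOfSet_iff.1 hz
    obtain ⟨k, rfl⟩ := isConj_iff.1 hc
    exact hall k u hu
  exact this (htop ▸ Subgroup.mem_top g)

end Split

end CfsgLib.SplitBN
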