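import Cfsg.Agent.StCh.Semisimple
import Cfsg.Agent.StClassical.Longest
import Mathlib.GroupTheory.GroupAction.Quotient
import Mathlib.GroupTheory.Sylow

/-!
# Split Tits systems in characteristic `p`

`U` is a Sylow `p`-subgroup normal in `B = U T`, some conjugate of `U` meets it trivially, and
`U ∩ sUs⁻¹` is normal in `U` for each simple reflection. The intersections `U ∩ nUn⁻¹` are studied
through the cells of `G / B`; no root system is used.
-/

set_option autoImplicit false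
set_option linter.style.haveILetI false
set_option linter.unusedSectionVars false

namespace CfsgLib.SplitBN

open CfsgLib.BN CfsgLib.StCh

attribute [local instance] torus_normal

variable {G : Type*} [Group G]

/-- The hypotheses on a split Tits system. -/
structure Split (P : Cfsg.BNPair G) (p : ℕ) (U : Subgroup G) : Prop where
  le : U ≤ P.B
  normal : ∀ b ∈ P.B, ∀ u ∈ U, b * u * b⁻¹ ∈ U
  split : ∀ b ∈ P.B, ∃ u ∈ U, ∃ t ∈ P.B ⊓ P.N, b = u * t
  isP : IsPGroup p U
  sylow : ∃ S : Sylow p G, (S : Subgroup G) = U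
  opp : ∃ g : G, ∀ x ∈ U, g⁻¹ * x * g ∈ U → x = 1
  rad : ∀ s ∈ P.S, ∀ u ∈ U, ∀ x ∈ U, s⁻¹ * x * s ∈ U → s⁻¹ * (u * x * u⁻¹) * s ∈ U

/-- `U ∩ g U g⁻¹`. -/
def meetC (U : Subgroup G) (g : G) : Subgroup G := U ⊓ U.map (MulAut.conj g).toMonoidHom

theorem mem_meetC {U : Subgroup G} {g x : G} : x ∈ meetC U g ↔ x ∈ U ∧ g⁻¹ * x * g ∈ U := by
  rw [meetC, Subgroup.mem_inf]
  refine and_congr_right fun _ => ?_
  rw [Subgroup.mem_map]
  constructor
  · rintro ⟨y, hy, rfl⟩
    simpa [mul_assoc] using hy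
  · exact fun h => ⟨_, h, by simp [mul_assoc]⟩

namespace Split

variable {P : Cfsg.BNPair G} {p : ℕ} {U : Subgroup G} (D : Split P p U)
include D

theorem normal' {b u : G} (hb : b ∈ P.B) (hu : u ∈ U) : b⁻¹ * u * b ∈ U := by
  simpa using D.normal b⁻¹ (inv_mem hb) u hu

theorem conj_iff {b x : G} (hb : b ∈ P.B) : b⁻¹ * x * b ∈ U ↔ x ∈ U := by
  refine ⟨fun h => ?_, fun h => D.normal' hb h⟩
  simpa [mul_assoc] using D.normal b hb _ h

/-- A `p`-element of `B` lies in `U`. -/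
theorem mem_of_pow {x : G} (hx : x ∈ P.B) {k : ℕ} (hk : x ^ p ^ k = 1) : x ∈ U := by
  obtain ⟨S, hS⟩ := D.sylow
  have hz : IsPGroup p (Subgroup.zpowers x) := by
    rintro ⟨y, hy⟩
    obtain ⟨m, rfl⟩ := Subgroup.mem_zpowers_iff.1 hy
    exact ⟨k, Subtype.ext (by
      rw [Subgroup.coe_pow, Subgroup.coe_one, ← zpow_natCast (x ^ m), ← zpow_mul, mul_comm, zpow_mul,
        zpow_natCast, hk, one_zpow])⟩
  have hn : Subgroup.zpowers x ≤ Subgroup.normalizer (U : Set G) := by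
    rw [Subgroup.zpowers_le, Subgroup.mem_normalizer_iff]
    exact fun y => ⟨fun h => D.normal x hx y h, fun h => by simpa [mul_assoc] using D.normal' hx h⟩
  have hsup := hz.to_sup_of_normal_right' (hS ▸ S.isPGroup' : IsPGroup p U) hn
  have := S.is_maximal' hsup (by rw [hS]; exact le_sup_right)
  rw [hS] at this
  exact this ▸ Subgroup.mem_sup_left (Subgroup.mem_zpowers x)

theorem meetC_mul_right {g b : G} (hb : b ∈ P.B) : meetC U (g * b) = meetC U g := by
  ext x
  rw [mem_meetC, mem_meetC, show (g * b)⁻¹ * x * (g * b) = b⁻¹ * (g⁻¹ * x * g) * b by group,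
    D.conj_iff hb]

/-- `U ∩ nUn⁻¹` for a representative of `w`. -/
noncomputable def Rw (_D : Split P p U) (w : Weyl P) : Subgroup G := meetC U (StCh.rep P w)

theorem meetC_eq_Rw (n : P.N) : meetC U n.1 = D.Rw (QuotientGroup.mk n) := by
  have h := QuotientGroup.eq.1 (mk_out_weyl (QuotientGroup.mk n : Weyl P)).symm
  rw [Subgroup.mem_subgroupOf] at h
  rw [Rw, ← D.meetC_mul_right (g := n.1) h.1, StCh.rep]
  simp

theorem mem_Rw {n : P.N} {w : Weyl P} (hn : QuotientGroup.mk n = w) {x : G} :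
    x ∈ D.Rw w ↔ x ∈ U ∧ (n : G)⁻¹ * x * n ∈ U := by
  rw [← hn, ← D.meetC_eq_Rw, mem_meetC]

theorem Rw_le (w : Weyl P) : D.Rw w ≤ U := inf_le_left

theorem Rw_one : D.Rw 1 = U :=
  le_antisymm (D.Rw_le 1) fun x hx => (D.mem_Rw (n := 1) rfl).2 ⟨hx, by simpa using hx⟩

theorem mem_Rw_refl {s : P.S} {x : G} : x ∈ D.Rw (BN.refl P s) ↔ x ∈ U ∧ s.1⁻¹ * x * s.1 ∈ U :=
  D.mem_Rw (n := ⟨s.1, P.subset s.2⟩) rfl

theorem conj_sq {s : P.S} {x : G} : s.1⁻¹ * x * s.1 ∈ U ↔ s.1 * x * s.1⁻¹ ∈ U := by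
  rw [← D.conj_iff (x := s.1 * x * s.1⁻¹) (P.sq_mem s.1 s.2)]
  group

/-- Conjugation by a simple reflection. -/
theorem conj_Rw {s : P.S} {w : Weyl P} {x : G} (hx : x ∈ D.Rw w) (hxs : s.1⁻¹ * x * s.1 ∈ U) :
    s.1⁻¹ * x * s.1 ∈ D.Rw (BN.refl P s * w) := by
  obtain ⟨n, rfl⟩ := QuotientGroup.mk_surjective w
  refine (D.mem_Rw (n := (⟨s.1, P.subset s.2⟩ : P.N)⁻¹ * n) ?_).2 ⟨hxs, ?_⟩
  · rw [QuotientGroup.mk_mul, QuotientGroup.mk_inv]
    exact congrArg (· * _) (refl_inv P s)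
  · have := ((D.mem_Rw rfl).1 hx).2
    simp only [Subgroup.coe_mul, Subgroup.coe_inv]
    convert this using 1
    group

theorem conj_Rw' {s : P.S} {w : Weyl P} {x : G} (hx : x ∈ D.Rw w) (hxs : s.1 * x * s.1⁻¹ ∈ U) :
    s.1 * x * s.1⁻¹ ∈ D.Rw (BN.refl P s * w) := by
  obtain ⟨n, rfl⟩ := QuotientGroup.mk_surjective w
  refine (D.mem_Rw (n := (⟨s.1, P.subset s.2⟩ : P.N) * n) (QuotientGroup.mk_mul _ _ _)).2 ⟨hxs, ?_⟩
  have := ((D.mem_Rw rfl).1 hx).2
  simp only [Subgroup.coe_mul]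
  convert this using 1
  group

/-- The torus moves across a monomial element. -/
theorem mem_cw_iff {x : G} (n : P.N) :
    x ∈ cw P (QuotientGroup.mk n) ↔ ∃ u ∈ U, ∃ b ∈ P.B, x = u * n.1 * b := by
  rw [cw_mk, mem_cosetOf]
  refine ⟨?_, fun ⟨u, hu, b, hb, e⟩ => ⟨u, D.le hu, b, hb, e⟩⟩
  rintro ⟨b, hb, c, hc, rfl⟩
  obtain ⟨u, hu, t, ht, rfl⟩ := D.split b hb
  refine ⟨u, hu, n.1⁻¹ * t * n.1 * c, mul_mem ?_ hc, by group⟩
  simpa using P.conj_mem n.1⁻¹ (P.N.inv_mem n.2) t ht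

end Split

/-- Uniqueness of the intermediate point. -/
theorem inter_unique {P : Cfsg.BNPair G} {s : P.S} {w : Weyl P}
    (hl : len P w < len P (BN.refl P s * w)) {x x' y y' : G} (hx : x ∈ cw P (BN.refl P s))
    (hx' : x' ∈ cw P (BN.refl P s)) (hy : y ∈ cw P w) (hy' : y' ∈ cw P w)
    (h : (x * y)⁻¹ * (x' * y') ∈ P.B) : x⁻¹ * x' ∈ P.B := by
  have hxi : x⁻¹ ∈ cw P (BN.refl P s) := by
    have := inv_mem_cw P hx; rwa [refl_inv] at this
  rcases mul_cw_refl P hxi hx' with h1 | h1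
  · rw [refl_sq] at h1; exact (mem_B_iff_cw_one P).2 h1
  exfalso
  have h2 := mul_of_len_ge P s _ w le_rfl hl.le _ h1 _ hy'
  have h3 : x⁻¹ * x' * y' ∈ cw P w := by
    have := mem_cw_right P h hy
    convert this using 1
    group
  exact refl_ne_one P s (mul_eq_right.1 (eq_of_mem P h2 h3))

variable (P : Cfsg.BNPair G)

/-- The longest elements. -/
noncomputable def wlP [Finite G] : Finset P.S → Weyl P :=
  (StClassical.exists_hasLongest P).choose

theorem hasLongest_wlP [Finite G] : HasLongest P (wlP P) :=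
  (StClassical.exists_hasLongest P).choose_spec

/-- The longest element. -/
noncomputable def w0 [Finite G] : Weyl P :=
  wlP P (Set.toFinite (Set.univ : Set P.S)).toFinset

variable {P}

theorem len_mul_w0 [Finite G] (v : Weyl P) : len P (v * w0 P) + len P v = len P (w0 P) := by
  have := len_inv_mul_longest (hasLongest_wlP P) (Set.toFinite (Set.univ : Set P.S)).toFinset
    (v := v⁻¹) (by rw [Set.Finite.coe_toFinset]; exact wJ_univ _)
  rwa [inv_inv, len_inv] at this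

theorem eq_w0 [Finite G] {w : Weyl P} (h : ∀ s, ¬ len P w < len P (BN.refl P s * w)) : w = w0 P := by
  have h' : w⁻¹ = w0 P := (hasLongest_wlP P _ w⁻¹).1
    ⟨by rw [Set.Finite.coe_toFinset]; exact wJ_univ _, fun s _ => by
      rcases len_lt_or w⁻¹ s with hh | hh
      · rw [len_inv, len_mul_refl, inv_inv] at hh; exact absurd hh (h s)
      · exact hh⟩
  have hinv : (w0 P)⁻¹ = w0 P := by
    have := len_mul_w0 (w0 P)
    refine inv_eq_of_mul_eq_one_right (eq_one_of_len P (by omega))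
  rw [← hinv, ← h', inv_inv]

theorem w0_inv [Finite G] : (w0 P)⁻¹ = w0 P := by
  have := len_mul_w0 (w0 P)
  exact inv_eq_of_mul_eq_one_right (eq_one_of_len P (by omega))

/-- An element outside `J` is not a left descent of an element of `W_J`. -/
theorem len_lt_of_notMem {J : Set P.S} {v : Weyl P} (hv : WJ P J v) {t : P.S} (ht : t ∉ J) :
    len P v < len P (BN.refl P t * v) := by
  rcases len_refl_mul_cases P t v with h | h
  · omega
  exfalso
  obtain ⟨R, hR, rfl, hl⟩ := exists_reduced_wJ hv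
  obtain ⟨i, -, e⟩ := exchange P t R hl (by omega)
  refine ht (mem_of_refl_wJ (J := J) ?_)
  have h1 : WJ P J (BN.refl P t * wprod P R) :=
    e ▸ ⟨_, fun x hx => hR x (List.mem_of_mem_eraseIdx hx), rfl⟩
  simpa using wJ_mul h1 (wJ_inv hv)

namespace Split

variable {p : ℕ} {U : Subgroup G} (D : Split P p U)
include D

/-- The simple case of the containment for prefixes. -/
theorem Rw_le_refl {s : P.S} {w : Weyl P} (h : len P (BN.refl P s * w) < len P w) :
    D.Rw w ≤ D.Rw (BN.refl P s) := by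
  intro x hx
  obtain ⟨n, rfl⟩ := QuotientGroup.mk_surjective w
  obtain ⟨hxU, hxn⟩ := (D.mem_Rw rfl).1 hx
  set sN : P.N := ⟨s.1, P.subset s.2⟩
  have hy : s.1⁻¹ * n.1 ∈ cw P (BN.refl P s * QuotientGroup.mk n) := by
    have h1 : s.1⁻¹ * n.1 = ((sN⁻¹ * n : P.N) : G) := rfl
    rw [h1, show BN.refl P s * (QuotientGroup.mk n : Weyl P) = QuotientGroup.mk (sN⁻¹ * n) by
      rw [QuotientGroup.mk_mul, QuotientGroup.mk_inv]; exact congrArg (· * _) (refl_inv P s).symm]
    exact self_mem_cosetOf P _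
  have := inter_unique (P := P) (s := s) (w := BN.refl P s * QuotientGroup.mk n)
    (by rwa [← mul_assoc, refl_sq, one_mul])
    (x := s.1) (x' := x * s.1) (s_mem_cw P s) (mem_cw_left P (D.le hxU) (s_mem_cw P s)) hy hy (by
      have := D.le hxn
      convert this using 1
      group)
  obtain ⟨k, hk⟩ := D.isP ⟨x, hxU⟩
  have hk' : x ^ p ^ k = 1 := congrArg Subtype.val hk
  refine D.mem_Rw_refl.2 ⟨hxU, D.mem_of_pow (k := k) (by rwa [mul_assoc]) ?_⟩
  have := conj_pow (a := s.1⁻¹) (b := x) (i := p ^ k)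
  rw [inv_inv] at this
  rw [this, hk', mul_one, inv_mul_cancel]

/-- Containment for prefixes. -/
theorem Rw_le_prefix {v w : Weyl P} (h : len P v + len P (v⁻¹ * w) = len P w) : D.Rw w ≤ D.Rw v := by
  obtain ⟨L, rfl, hL⟩ := exists_reduced P v
  induction L generalizing w with
  | nil => rw [wprod_nil, D.Rw_one]; exact D.Rw_le w
  | cons s L ih =>
    rw [wprod_cons] at h hL ⊢
    rw [List.length_cons] at hL
    rw [mul_inv_rev, refl_inv, mul_assoc] at h
    have h1 := len_le P L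
    have h2 := len_refl_mul_le P s (wprod P L)
    have h4 := len_mul_le (wprod P L) ((wprod P L)⁻¹ * (BN.refl P s * w))
    rw [mul_inv_cancel_left] at h4
    have hlt : len P (BN.refl P s * w) < len P w := by omega
    have hge := len_refl_mul_le P s (BN.refl P s * w)
    rw [← mul_assoc, refl_sq, one_mul] at hge
    intro x hx
    have hxs := ((D.mem_Rw_refl).1 (D.Rw_le_refl hlt hx)).2
    have h5 := ih (w := BN.refl P s * w) (by omega) (by omega) (D.conj_Rw hx hxs)
    have h6 := D.conj_Rw' (s := s) h5 (by simpa [mul_assoc] using D.Rw_le w hx)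
    simpa [mul_assoc] using h6

theorem Rw_inv (w : Weyl P) (hw : D.Rw w = ⊥) : D.Rw w⁻¹ = ⊥ := by
  obtain ⟨n, rfl⟩ := QuotientGroup.mk_surjective w
  rw [eq_bot_iff]
  intro x hx
  obtain ⟨hxU, hxn⟩ := (D.mem_Rw (n := n⁻¹) rfl).1 hx
  simp only [Subgroup.coe_inv, inv_inv] at hxn
  have h : n.1 * x * n.1⁻¹ ∈ D.Rw (QuotientGroup.mk n) := (D.mem_Rw rfl).2 ⟨hxn, by group; exact hxU⟩
  rw [hw, Subgroup.mem_bot] at h
  exact Subgroup.mem_bot.2 (conj_eq_one_iff.1 h)

variable [Finite G]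

/-- Orbit-stabiliser on a cell. -/
theorem card_cell (w : Weyl P) :
    Nat.card {x : G ⧸ P.B // cell P x = w} * Nat.card (D.Rw w) = Nat.card U := by
  obtain ⟨n, rfl⟩ := QuotientGroup.mk_surjective w
  set p₀ : G ⧸ P.B := QuotientGroup.mk n.1
  have horb : ∀ x : G ⧸ P.B,
      cell P x = QuotientGroup.mk n ↔ x ∈ MulAction.orbit U p₀ := by
    intro x
    induction x using QuotientGroup.induction_on with
    | H g =>
      rw [cell_mk]
      constructor
      · intro h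
        obtain ⟨u, hu, b, hb, rfl⟩ := (D.mem_cw_iff n).1 (h ▸ mem_cellOf g)
        refine ⟨⟨u, hu⟩, ?_⟩
        show (QuotientGroup.mk (u * n.1) : G ⧸ P.B) = _
        rw [QuotientGroup.eq, show (u * n.1)⁻¹ * (u * n.1 * b) = b by group]
        exact hb
      · rintro ⟨u, e⟩
        have e' : (QuotientGroup.mk ((u : G) * n.1) : G ⧸ P.B) = QuotientGroup.mk g := e
        rw [QuotientGroup.eq] at e'
        refine cellOf_eq ((D.mem_cw_iff n).2 ⟨u, u.2, _, e', by group⟩)
  rw [Nat.card_congr (Equiv.subtypeEquivRight horb)]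
  have hst : Nat.card (MulAction.stabilizer U p₀) = Nat.card (D.Rw (QuotientGroup.mk n)) := by
    refine Nat.card_congr ⟨fun u => ⟨u.1.1, ?_⟩, fun u => ⟨⟨u.1, D.Rw_le _ u.2⟩, ?_⟩,
      fun _ => rfl, fun _ => rfl⟩
    · have h : (QuotientGroup.mk ((u.1 : G) * n.1) : G ⧸ P.B) = QuotientGroup.mk n.1 := u.2
      rw [QuotientGroup.eq] at h
      refine (D.mem_Rw rfl).2 ⟨u.1.2, ?_⟩
      obtain ⟨k, hk⟩ := D.isP u.1
      have hk' : (u.1 : G) ^ p ^ k = 1 := congrArg Subtype.val hk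
      refine D.mem_of_pow (k := k) ?_ ?_
      · have := inv_mem h
        convert this using 1
        group
      · have := conj_pow (a := n.1⁻¹) (b := (u.1 : G)) (i := p ^ k)
        rw [inv_inv] at this
        rw [this, hk', mul_one, inv_mul_cancel]
    · show (QuotientGroup.mk (u.1 * n.1) : G ⧸ P.B) = QuotientGroup.mk n.1
      rw [QuotientGroup.eq]
      have := inv_mem (D.le ((D.mem_Rw rfl).1 u.2).2)
      convert this using 1
      group
  rw [← hst, ← Nat.card_prod]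
  exact Nat.card_congr (MulAction.orbitProdStabilizerEquivGroup U p₀)

theorem cell_mul_le {s : P.S} {w : Weyl P} (h : len P w < len P (BN.refl P s * w)) :
    Nat.card {x : G ⧸ P.B // cell P x = BN.refl P s} * Nat.card {x : G ⧸ P.B // cell P x = w} ≤
      Nat.card {x : G ⧸ P.B // cell P x = BN.refl P s * w} := by
  rw [← Nat.card_prod]
  have hm : ∀ {v : Weyl P} (x : {x : G ⧸ P.B // cell P x = v}), x.1.out ∈ cw P v := by
    rintro v ⟨x, hx⟩
    exact hx ▸ mem_cellOf x.out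
  refine Nat.card_le_card_of_injective (fun xy => ⟨QuotientGroup.mk (xy.1.1.out * xy.2.1.out),
    by rw [cell_mk]; exact cellOf_eq (mul_of_len_ge P s _ w le_rfl h.le _ (hm xy.1) _ (hm xy.2))⟩) ?_
  rintro ⟨x, y⟩ ⟨x', y'⟩ e
  have e' := congrArg Subtype.val e
  simp only [QuotientGroup.eq] at e'
  have hb := inter_unique h (hm x) (hm x') (hm y) (hm y') e'
  have hx : x = x' := by
    refine Subtype.ext ?_
    rw [← QuotientGroup.out_eq' x.1, ← QuotientGroup.out_eq' x'.1, QuotientGroup.eq]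
    exact hb
  subst hx
  refine Prod.ext rfl (Subtype.ext ?_)
  show y.1 = y'.1
  rw [← QuotientGroup.out_eq' y.1, ← QuotientGroup.out_eq' y'.1, QuotientGroup.eq]
  convert e' using 1
  group

theorem two_le_cell (s : P.S) : 2 ≤ Nat.card {x : G ⧸ P.B // cell P x = BN.refl P s} := by
  obtain ⟨b, hb, hbs⟩ := exists_mul_mem_refl P s
  refine Finite.one_lt_card_iff_nontrivial.2 ⟨⟨QuotientGroup.mk s.1, ?_⟩, ⟨QuotientGroup.mk (b * s.1), ?_⟩, ?_⟩
  · rw [cell_mk]; exact cellOf_eq (s_mem_cw P s)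
  · rw [cell_mk]; exact cellOf_eq (mem_cw_left P hb (s_mem_cw P s))
  · intro e
    have e' := QuotientGroup.eq.1 (congrArg Subtype.val e)
    have h1 : s.1 * b * s.1 ∈ P.B := by
      have := mul_mem (P.sq_mem s.1 s.2) e'
      convert this using 1
      group
    exact refl_ne_one P s (eq_of_mem P hbs ((mem_B_iff_cw_one P).1 h1))

/-- Only the longest element gives a trivial intersection. -/
theorem Rw_eq_bot_iff {w : Weyl P} : D.Rw w = ⊥ ↔ w = w0 P := by
  have key : ∀ v, D.Rw v = ⊥ → v = w0 P := by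
    intro v hv
    refine eq_w0 fun s hs => ?_
    have h1 := cell_mul_le D hs
    have h2 := D.card_cell v
    rw [hv, Subgroup.card_bot, mul_one] at h2
    have h3 : Nat.card {x : G ⧸ P.B // cell P x = BN.refl P s * v} ≤ Nat.card U := by
      have := D.card_cell (BN.refl P s * v)
      exact Nat.le_of_dvd Nat.card_pos ⟨_, this.symm⟩
    have h4 := two_le_cell D s
    have h5 : 0 < Nat.card U := Nat.card_pos
    rw [h2] at h1
    nlinarith
  refine ⟨key w, fun h => ?_⟩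
  obtain ⟨g, hg⟩ := D.opp
  obtain ⟨n, hn, hgn⟩ := BN.bruhat P g
  obtain ⟨u, hu, b, hb, rfl⟩ := (D.mem_cw_iff ⟨n, hn⟩).1 hgn
  have h1 : D.Rw (QuotientGroup.mk (⟨n, hn⟩ : P.N)) = ⊥ := by
    rw [eq_bot_iff]
    intro x hx
    obtain ⟨hxU, hxn⟩ := (D.mem_Rw rfl).1 hx
    have := hg (u * x * u⁻¹) (mul_mem (mul_mem hu hxU) (inv_mem hu)) (by
      have := D.normal' hb hxn
      convert this using 1
      simp only
      group)
    exact Subgroup.mem_bot.2 (conj_eq_one_iff.1 this)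
  rw [h, ← key _ h1]
  exact h1

theorem Rw_w0 : D.Rw (w0 P) = ⊥ := D.Rw_eq_bot_iff.2 rfl

/-- The root group of a simple reflection. -/
noncomputable def X (D : Split P p U) (s : P.S) : Subgroup G := D.Rw (BN.refl P s * w0 P)

theorem X_le (s : P.S) : D.X s ≤ U := D.Rw_le _

theorem X_le_Rw {s : P.S} {v : Weyl P} (h : len P v < len P (BN.refl P s * v)) :
    D.X s ≤ D.Rw v := by
  refine D.Rw_le_prefix ?_
  have h1 := len_mul_w0 (BN.refl P s)
  have h2 := len_mul_w0 (v⁻¹ * BN.refl P s)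
  rw [mul_assoc] at h2
  have h3 : len P (v⁻¹ * BN.refl P s) = len P (BN.refl P s * v) := by
    rw [← len_inv P (v⁻¹ * BN.refl P s), mul_inv_rev, inv_inv, refl_inv]
  have h4 := len_refl_mul_cases P s v
  rw [len_refl] at h1
  omega

theorem X_inf (s : P.S) : D.Rw (BN.refl P s) ⊓ D.X s = ⊥ := by
  rw [eq_bot_iff]
  rintro x ⟨h1, h2⟩
  have hxs := (D.mem_Rw_refl.1 h1).2
  have h3 := D.conj_Rw h2 hxs
  rw [← mul_assoc, refl_sq, one_mul, D.Rw_w0, Subgroup.mem_bot] at h3
  refine Subgroup.mem_bot.2 ?_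
  have h4 : s.1⁻¹ * x * (s.1⁻¹)⁻¹ = 1 := by rwa [inv_inv]
  exact conj_eq_one_iff.1 h4

theorem two_le_X (s : P.S) : 2 ≤ Nat.card (D.X s) := by
  have hl : len P (BN.refl P s * w0 P) < len P (BN.refl P s * (BN.refl P s * w0 P)) := by
    rw [← mul_assoc, refl_sq, one_mul]
    have := len_mul_w0 (BN.refl P s)
    rw [len_refl] at this
    omega
  have h1 := cell_mul_le D hl
  rw [← mul_assoc, refl_sq, one_mul] at h1
  have h2 := D.card_cell (w0 P)
  rw [D.Rw_w0, Subgroup.card_bot, mul_one] at h2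
  have h3 := D.card_cell (BN.refl P s * w0 P)
  have h4 := two_le_cell D s
  have h5 : 0 < Nat.card U := Nat.card_pos
  rw [h2, ← h3] at h1
  change 2 ≤ Nat.card (D.Rw _)
  nlinarith

theorem X_ne_bot (s : P.S) : D.X s ≠ ⊥ := fun h => by
  have := D.two_le_X s
  rw [h, Subgroup.card_bot] at this
  omega

/-- `U = X_s (U ∩ sUs⁻¹)`. -/
theorem exists_X_mul (s : P.S) {u : G} (hu : u ∈ U) :
    ∃ x ∈ D.X s, ∃ r ∈ D.Rw (BN.refl P s), u = x * r := by
  classical
  set R := D.Rw (BN.refl P s)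
  let f : D.X s × R → U := fun z => ⟨z.1 * z.2, mul_mem (D.X_le s z.1.2) (D.Rw_le _ z.2.2)⟩
  have hinj : Function.Injective f := by
    rintro ⟨x, r⟩ ⟨x', r'⟩ e
    have e' : (x : G) * r = x' * r' := congrArg Subtype.val e
    have h : (x' : G)⁻¹ * x ∈ R ⊓ D.X s := by
      refine ⟨?_, (D.X s).mul_mem ((D.X s).inv_mem x'.2) x.2⟩
      rw [show (x' : G)⁻¹ * x = r' * (r : G)⁻¹ by
        rw [inv_mul_eq_iff_eq_mul, ← mul_assoc, ← e', mul_inv_cancel_right]]
      exact R.mul_mem r'.2 (R.inv_mem r.2)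
    rw [D.X_inf, Subgroup.mem_bot, inv_mul_eq_one] at h
    rw [h] at e'
    exact Prod.ext (Subtype.ext h.symm) (Subtype.ext (mul_left_cancel e'))
  have hl : len P (BN.refl P s * w0 P) < len P (BN.refl P s * (BN.refl P s * w0 P)) := by
    rw [← mul_assoc, refl_sq, one_mul]
    have := len_mul_w0 (BN.refl P s)
    rw [len_refl] at this
    omega
  have h1 := cell_mul_le D hl
  rw [← mul_assoc, refl_sq, one_mul] at h1
  have h2 := D.card_cell (w0 P)
  rw [D.Rw_w0, Subgroup.card_bot, mul_one] at h2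
  have h3 : Nat.card _ * Nat.card (D.X s) = Nat.card U := D.card_cell (BN.refl P s * w0 P)
  have h6 := D.card_cell (BN.refl P s)
  have hcard : Nat.card U ≤ Nat.card (D.X s × R) := by
    rw [Nat.card_prod]
    have h5 : 0 < Nat.card U := Nat.card_pos
    set a := Nat.card {x : G ⧸ P.B // cell P x = BN.refl P s}
    set b := Nat.card {x : G ⧸ P.B // cell P x = BN.refl P s * w0 P}
    rw [h2] at h1
    have h7 : a * b * (Nat.card (D.X s) * Nat.card R) = Nat.card U * Nat.card U := by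
      calc a * b * (Nat.card (D.X s) * Nat.card R) = (b * Nat.card (D.X s)) * (a * Nat.card R) := by ring
        _ = _ := by rw [h3, h6]
    by_contra hc
    have h9 : a * b * (Nat.card (D.X s) * Nat.card R) < a * b * Nat.card U :=
      Nat.mul_lt_mul_of_pos_left (not_le.1 hc) (Nat.pos_of_ne_zero fun h => by
        rw [h, zero_mul] at h7; exact (Nat.mul_pos h5 h5).ne h7)
    have h10 : a * b * Nat.card U ≤ Nat.card U * Nat.card U := Nat.mul_le_mul_right _ h1
    omega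
  obtain ⟨⟨x, r⟩, e⟩ := ((Nat.bijective_iff_injective_and_card f).2
    ⟨hinj, le_antisymm (Nat.card_le_card_of_injective f hinj) hcard⟩).2 ⟨u, hu⟩
  exact ⟨x, x.2, r, r.2, (congrArg Subtype.val e).symm⟩

/-- Generation of `U` along a word. -/
theorem exists_gen {J : Set P.S} {H : Set G} (hone : (1 : G) ∈ H)
    (hX : ∀ r ∈ J, ∀ x ∈ D.X r, x ∈ H) (hmul : ∀ a ∈ H, ∀ b ∈ H, a * b ∈ H)
    (hconj : ∀ r ∈ J, ∀ g ∈ H, g ∈ U → r.1 * g * r.1⁻¹ ∈ U → r.1 * g * r.1⁻¹ ∈ H)
    {v : Weyl P} (hv : WJ P J v) {u : G} (hu : u ∈ U) :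
    ∃ g ∈ H, g ∈ D.Rw (v * w0 P) ∧ g⁻¹ * u ∈ D.Rw v := by
  obtain ⟨R, hR, rfl, hl⟩ := exists_reduced_wJ hv
  clear hv
  induction R generalizing u with
  | nil =>
    exact ⟨1, hone, one_mem _, by rw [wprod_nil, D.Rw_one]; simpa using hu⟩
  | cons r R ih =>
    have hR' : ∀ s ∈ R, s ∈ J := fun s hs => hR s (List.mem_cons_of_mem _ hs)
    rw [List.length_cons, wprod_cons] at hl
    have h1 := len_le P R
    have h2 := len_refl_mul_le P r (wprod P R)
    obtain ⟨x, hx, u1, hu1, rfl⟩ := D.exists_X_mul r hu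
    obtain ⟨hu1U, hy⟩ := D.mem_Rw_refl.1 hu1
    obtain ⟨g', hg', hgw, hz⟩ := ih hy hR' (by omega)
    have e1 := len_mul_w0 (wprod P R)
    have e2 := len_mul_w0 (BN.refl P r * wprod P R)
    rw [mul_assoc] at e2
    have hgr := D.Rw_le_refl (s := r) (w := wprod P R * w0 P) (by omega) hgw
    have hgU : r.1 * g' * r.1⁻¹ ∈ U := D.conj_sq.1 (D.mem_Rw_refl.1 hgr).2
    have hg2 := D.conj_Rw' (s := r) hgw hgU
    rw [wprod_cons]
    refine ⟨x * (r.1 * g' * r.1⁻¹), hmul _ (hX r (hR r List.mem_cons_self) x hx) _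
      (hconj r (hR r List.mem_cons_self) g' hg' (D.Rw_le _ hgw) hgU), mul_mem ?_ ?_, ?_⟩
    · refine D.X_le_Rw ?_ hx
      rw [mul_assoc, ← mul_assoc (BN.refl P r) (BN.refl P r), refl_sq, one_mul]
      omega
    · rwa [mul_assoc]
    · have hzU : r.1 * (g'⁻¹ * (r.1⁻¹ * u1 * r.1)) * r.1⁻¹ ∈ U := by
        have := mul_mem (inv_mem hgU) hu1U
        convert this using 1
        group
      have := D.conj_Rw' (s := r) hz hzU
      convert this using 1
      group

end Split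

end CfsgLib.SplitBN
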