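import Cfsg.Agent.SplitBN.TitsAut
import Cfsg.Agent.SplitBN.TitsSimple
import Cfsg.Agent.SplitBN.SpecialTits

/-!
# The parabolic subgroup of index 1755 of the Tits group

Its largest quotient of `2`-power order is cyclic of order at most four.
-/

set_option autoImplicit false
set_option maxRecDepth 8192
set_option linter.style.haveILetI false
set_option linter.unusedSectionVars false

namespace CfsgLib.SplitBN

open Cfsg.Lie CfsgLib.Chev CfsgLib.Chev.Tab CfsgLib.Chev.Collect CfsgLib.Chev.F4Two CfsgLib.BN CfsgLib.StCh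
  Matrix
open scoped MatrixGroups

attribute [local instance] torus_normal

/-- An overgroup of `U` is twice its part in a subgroup of index two not containing `U`. -/
theorem card_eq_two_mul_inf {G : Type*} [Group G] {K U V : Subgroup G} (hK : K.index = 2) (hU : ¬ U ≤ K)
    (hUV : U ≤ V) : Nat.card V = 2 * Nat.card (V ⊓ K : Subgroup G) := by
  obtain ⟨u, huU, huK⟩ := SetLike.not_le_iff_exists.1 hU
  have h1 : (K.subgroupOf V).index = 2 := by
    refine Subgroup.index_eq_two_iff.2 ⟨⟨u, hUV huU⟩, fun b => ?_⟩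
    have := (Subgroup.mul_mem_iff_of_index_two hK (a := (b : G)) (b := u))
    simp only [Subgroup.mem_subgroupOf, Subgroup.coe_mul, this, huK, iff_false]
    by_cases h : (b : G) ∈ K <;> simp [h]
  rw [← Subgroup.card_mul_index (K.subgroupOf V), h1, mul_comm,
    Nat.card_congr (Subgroup.equivMapOfInjective _ _ V.subtype_injective).toEquiv,
    Subgroup.subgroupOf_map_subtype, inf_comm]

/-- A normal maximal subgroup contains the derived group when the quotient is generated by one element. -/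
theorem commutator_le_of_coatom {G : Type*} [Group G] {M : Subgroup G} [M.Normal] (hM : IsCoatom M) :
    commutator G ≤ M := by
  obtain ⟨g, -, hgM⟩ := SetLike.not_le_iff_exists.1 (fun h : (⊤ : Subgroup G) ≤ M => hM.1 (top_le_iff.1 h))
  have htop : Subgroup.zpowers g ⊔ M = ⊤ :=
    hM.2 _ (lt_of_le_of_ne le_sup_right fun e => hgM (e ▸ Subgroup.mem_sup_left (Subgroup.mem_zpowers g)))
  have hpow : ∀ x : G, ∃ i : ℤ, QuotientGroup.mk' M x = QuotientGroup.mk' M g ^ i := fun x => by
    obtain ⟨a, ha, k, hk, rfl⟩ := Subgroup.mem_sup_of_normal_right.mp (htop ▸ Subgroup.mem_top x)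
    obtain ⟨i, rfl⟩ := Subgroup.mem_zpowers_iff.1 ha
    exact ⟨i, by rw [map_mul, show QuotientGroup.mk' M k = 1 from (QuotientGroup.eq_one_iff k).2 hk,
      mul_one, map_zpow]⟩
  rw [commutator_def, ← QuotientGroup.ker_mk' M]
  refine Subgroup.commutator_le.2 fun a _ b _ => ?_
  obtain ⟨i, hi⟩ := hpow a
  obtain ⟨j, hj⟩ := hpow b
  rw [MonoidHom.mem_ker, map_commutatorElement, commutatorElement_eq_one_iff_mul_comm, hi, hj]
  exact zpow_mul_comm _ _ _

namespace TitsPar

/-- Products of test words, as a list of generators. -/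
def ex (L : List (Fin 11)) : List (Fin 12) := L.flatMap fun k => testWords.getD k.val []

/-- Relations between the test words. -/
def rels : List (List (Fin 11) × List (Fin 11)) :=
  [([9, 0], [0, 2, 9]), ([6, 0], [0, 4, 6]), ([9, 1], [1, 5, 9]), ([9, 8], [1, 8, 10]),
    ([10, 8], [8, 7, 9]), ([3, 9, 10], [5, 8, 8]), ([], [3, 3])]

/-- The test words moved by the second reflection. -/
def moves : List (Fin 11 × List (Fin 11)) := [(0, [1]), (2, [6]), (5, [7]), (9, [2, 10, 9])]

/-- Further identities between words in the generators. -/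
def idents : List (List (Fin 12) × List (Fin 12)) :=
  [([2, 2], [3]), ([7, 7], []), (ex [0, 8, 0, 8, 0, 8, 0, 8, 0, 8, 0, 8, 0, 8, 0, 8], [7]),
    (2 :: ex [0], ex [0] ++ [2]), (2 :: ex [1], ex [1, 5, 6] ++ [2]), (2 :: ex [2], ex [2] ++ [2]),
    (2 :: ex [3], ex [1, 3, 4, 5] ++ [2]), (2 :: ex [4], ex [4] ++ [2]),
    (2 :: ex [5], ex [4, 5] ++ [2]), (2 :: ex [6], ex [6] ++ [2]), (2 :: ex [7], ex [7] ++ [2]),
    (2 :: ex [8], ex [0, 4, 8, 10, 0] ++ [2]), (2 :: ex [9], ex [7, 9] ++ [2]),
    (2 :: ex [10], ex [10] ++ [2]),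
    ([4], ex [8, 9, 1, 10] ++ [2]), ([6], ex [2, 7, 9] ++ [2]), ([9], ex [2, 10] ++ [2])]

/-- Whether two words have equal values. -/
def same (w w' : List (ℕ × List ℕ)) : Bool :=
  (co 9000 w).2.isEmpty && decide (co 9000 w = co 9000 w')

theorem chk_rels : rels.all (fun p => same (gWord ((ex p.1).map Fin.val)) (gWord ((ex p.2).map Fin.val))) = true := by
  decide +kernel

theorem chk_idents : idents.all (fun p => same (gWord (p.1.map Fin.val)) (gWord (p.2.map Fin.val))) = true := by
  decide +kernel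

theorem chk_moves : moves.all (fun p =>
    same ((gWord ((ex [p.1]).map Fin.val)).map fun e => (F4Data.tab.wordT (F4Tw.words.getD 1 []) e.1, e.2))
      (gWord ((ex p.2).map Fin.val)) && (gWord ((ex [p.1]).map Fin.val)).all fun e => Nat.blt e.1 48) = true := by
  decide +kernel

attribute [local irreducible] co gen

theorem vl_same {w w' : List (ℕ × List ℕ)} (h : same w w' = true) : vl 0 w = vl 0 w' := by
  simp only [same, Bool.and_eq_true, List.isEmpty_iff, decide_eq_true_eq] at h
  rw [← vl_co 0 9000 w h.1, ← vl_co 0 9000 w' (h.2 ▸ h.1), h.2]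

variable (C : F4Tw.Ctx (ZMod 2) 0)

/-- A generator as an element of the group. -/
noncomputable def gv (k : Fin 12) : C.Z.G1 := ⟨gen k.val, gen_mem C k.isLt⟩

/-- A product of generators. -/
noncomputable def wl (L : List (Fin 12)) : C.Z.G1 := (L.map (gv C)).prod

theorem wl_val (L : List (Fin 12)) :
    (wl C L : GL chevF4.Idx (ZMod 2)) = vl 0 (gWord (L.map Fin.val)) := by
  rw [gWord, vl_segs, wl, Subgroup.val_list_prod, List.map_map, List.map_map]
  rfl

theorem wl_append (L L' : List (Fin 12)) : wl C (L ++ L') = wl C L * wl C L' := by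
  rw [wl, List.map_append, List.prod_append]; rfl

theorem wl_cons (k : Fin 12) (L : List (Fin 12)) : wl C (k :: L) = gv C k * wl C L := by
  rw [wl, List.map_cons, List.prod_cons]; rfl

theorem wl_single (k : Fin 12) : wl C [k] = gv C k := by
  rw [wl_cons, wl, List.map_nil, List.prod_nil, mul_one]

theorem wl_same {L L' : List (Fin 12)} (h : (L, L') ∈ idents) : wl C L = wl C L' := by
  refine Subtype.ext ?_
  rw [wl_val, wl_val]
  exact vl_same (List.all_eq_true.1 chk_idents _ h)

/-- A test word as an element of the group. -/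
noncomputable def w (k : Fin 11) : C.Z.G1 := wl C (testWords.getD k.val [])

theorem wl_ex (L : List (Fin 11)) : wl C (ex L) = (L.map (w C)).prod := by
  induction L with
  | nil => rfl
  | cons k L ih =>
    rw [ex, List.flatMap_cons, wl_append, List.map_cons, List.prod_cons, ← ih]
    rfl

theorem testWords_mem : ∀ k : Fin 11, testWords.getD k.val [] ∈ testWords := by decide

theorem gv_mem (k : Fin 12) : gv C k ∈ C.Z.U1.subgroupOf C.Z.G1 := by
  rw [Subgroup.mem_subgroupOf]
  have h := gG_mem_U1 C k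
  rw [gG_val] at h
  exact h

theorem gG_eq (k : Fin 12) : (gG C k : C.Z.G1) = gv C k := Subtype.ext (gG_val C k)

attribute [local irreducible] gv

theorem wl_mem (L : List (Fin 12)) : wl C L ∈ C.Z.U1.subgroupOf C.Z.G1 := by
  rw [wl]
  refine Subgroup.list_prod_mem (C.Z.U1.subgroupOf C.Z.G1) fun g hg => ?_
  obtain ⟨k, -, rfl⟩ := List.mem_map.1 hg
  exact gv_mem C k

theorem w_mem (k : Fin 11) : w C k ∈ C.Z.U1.subgroupOf C.Z.G1 ⊓ commutator C.Z.G1 :=
  ⟨wl_mem C _, by
    have h : ((testWords.getD k.val []).map (gG C)).prod ∈ commutator C.Z.G1 :=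
      test_commutator C _ (testWords_mem k)
    rw [w, wl]
    rwa [show (gv C : Fin 12 → C.Z.G1) = gG C from funext fun j => (gG_eq C j).symm]⟩

theorem exists_prod_gv {u : C.Z.G1} (hu : (u : GL chevF4.Idx (ZMod 2)) ∈ C.Z.U1) :
    ∃ a, ((List.finRange 12).map fun k : Fin 12 => if ev a [2 ^ k.val] then gv C k else 1).prod = u := by
  obtain ⟨a, -, ea⟩ := exists_elt C (g := (⟨u.1, u.2⟩ : C.grp)) hu
  refine ⟨a, Subtype.ext ?_⟩
  have h := congrArg Subtype.val ea
  rw [elt, Subgroup.val_list_prod, List.map_map] at h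
  rw [Subgroup.val_list_prod, List.map_map, ← show (⟨u.1, u.2⟩ : C.grp).1 = u.1 from rfl, ← h]
  refine congrArg List.prod (List.map_congr_left fun k _ => ?_)
  simp only [Function.comp_apply]
  split_ifs
  · exact congrArg Subtype.val (gG_eq C k).symm
  · rfl

/-- The test words generate the Sylow subgroup of the Tits group. -/
theorem inf_le_closure [Finite C.Z.G1] :
    C.Z.U1.subgroupOf C.Z.G1 ⊓ commutator C.Z.G1 ≤ Subgroup.closure (Set.range (w C)) := by
  haveI : Fact (Nat.Prime 2) := ⟨Nat.prime_two⟩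
  set H := Subgroup.closure (Set.range (w C)) with hH
  have hw : ∀ L : List (Fin 11), (L.map (w C)).prod ∈ H := fun L => by
    refine Subgroup.list_prod_mem H fun g hg => ?_
    obtain ⟨k, -, rfl⟩ := List.mem_map.1 hg
    exact Subgroup.subset_closure ⟨k, rfl⟩
  set e := gv C 2
  have hsq : e * e ∈ H := by
    have h := wl_same C (L := [2, 2]) (L' := [3]) (by decide)
    rw [wl_cons, wl_single] at h
    rw [h]
    have : wl C [3] = w C 2 := rfl
    exact this ▸ Subgroup.subset_closure ⟨2, rfl⟩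
  have hconj : ∀ h ∈ H, e * h * e⁻¹ ∈ H := by
    intro h hh
    induction hh using Subgroup.closure_induction with
    | mem x hx =>
      obtain ⟨k, rfl⟩ := hx
      obtain ⟨L, hL⟩ : ∃ L, (2 :: ex [k], ex L ++ [2]) ∈ idents := by
        have : ∀ k : Fin 11, ∃ L ∈ ([[0], [1, 5, 6], [2], [1, 3, 4, 5], [4], [4, 5], [6], [7], [0, 4, 8, 10, 0],
            [7, 9], [10]] : List (List (Fin 11))), (2 :: ex [k], ex L ++ [2]) ∈ idents := by decide
        obtain ⟨L, -, hL⟩ := this k
        exact ⟨L, hL⟩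
      have h := wl_same C hL
      rw [wl_cons, wl_ex, wl_append, wl_ex, wl_single, List.map_singleton, List.prod_singleton] at h
      rw [h, mul_inv_cancel_right]
      exact hw L
    | one => simp
    | mul x y _ _ hx hy =>
      rw [show e * (x * y) * e⁻¹ = (e * x * e⁻¹) * (e * y * e⁻¹) by group]
      exact mul_mem hx hy
    | inv x _ hx =>
      rw [show e * x⁻¹ * e⁻¹ = (e * x * e⁻¹)⁻¹ by group]
      exact inv_mem hx
  have hgen : ∀ k : Fin 12, gv C k ∈ H ∨ gv C k * e⁻¹ ∈ H := by
    have hc : ∀ k : Fin 12, (∃ j ∈ List.finRange 11, testWords.getD j.val [] = [k]) ∨ k = 2 ∨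
        ∃ L ∈ ([[8, 9, 1, 10], [2, 7, 9], [2, 10]] : List (List (Fin 11))), ([k], ex L ++ [2]) ∈ idents := by
      decide
    intro k
    rcases hc k with ⟨j, -, hj⟩ | rfl | ⟨L, -, hL⟩
    · left
      have : w C j = gv C k := by rw [w, hj, wl_single]
      exact this ▸ Subgroup.subset_closure ⟨j, rfl⟩
    · right
      simp [e]
    · right
      have h := wl_same C hL
      rw [wl_single, wl_append, wl_ex, wl_single] at h
      rw [h, mul_inv_cancel_right]
      exact hw L
  have hmul : ∀ x y : C.Z.G1, (x ∈ H ∨ x * e⁻¹ ∈ H) → (y ∈ H ∨ y * e⁻¹ ∈ H) →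
      (x * y ∈ H ∨ x * y * e⁻¹ ∈ H) := by
    rintro x y (hx | hx) (hy | hy)
    · exact Or.inl (mul_mem hx hy)
    · exact Or.inr (by rw [mul_assoc]; exact mul_mem hx hy)
    · refine Or.inr ?_
      rw [show x * y * e⁻¹ = (x * e⁻¹) * (e * y * e⁻¹) by group]
      exact mul_mem hx (hconj y hy)
    · refine Or.inl ?_
      rw [show x * y = (x * e⁻¹) * (e * (y * e⁻¹) * e⁻¹) * (e * e) by group]
      exact mul_mem (mul_mem hx (hconj _ hy)) hsq
  have hall : ∀ u : C.Z.G1, u ∈ C.Z.U1.subgroupOf C.Z.G1 → u ∈ H ∨ u * e⁻¹ ∈ H := by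
    intro u hu
    obtain ⟨a, ea⟩ := exists_prod_gv C (Subgroup.mem_subgroupOf.1 hu)
    have key : ∀ l : List (Fin 12),
        (l.map fun k : Fin 12 => if ev a [2 ^ k.val] then gv C k else 1).prod ∈ H ∨
          (l.map fun k : Fin 12 => if ev a [2 ^ k.val] then gv C k else 1).prod * e⁻¹ ∈ H := by
      intro l
      induction l with
      | nil => exact Or.inl (one_mem H)
      | cons k l ih =>
        rw [List.map_cons, List.prod_cons]
        refine hmul _ _ ?_ ih
        split_ifs
        · exact hgen k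
        · exact Or.inl (one_mem H)
    have := key (List.finRange 12)
    rwa [ea] at this
  have hHK : H ≤ commutator C.Z.G1 := (Subgroup.closure_le _).2 (by
    rintro _ ⟨k, rfl⟩; exact (w_mem C k).2)
  intro u hu
  refine (hall u hu.1).resolve_right fun h => ?_
  have he : e ∈ commutator C.Z.G1 := by
    have := mul_mem (inv_mem (hHK h)) hu.2
    simpa using this
  have hS := exists_sylow_tits C
  refine (C.Z.split 2 C.xNontrivial hS).not_le_indexTwo (tits_index C) fun v hv => ?_
  rcases hall v hv with h' | h'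
  · exact hHK h'
  · simpa using mul_mem (hHK h') he


theorem gv_two_three : wl C [2, 2] = wl C [3] := wl_same C (by decide)

theorem wl_rel {L L' : List (Fin 11)} (h : (L, L') ∈ rels) : (L.map (w C)).prod = (L'.map (w C)).prod := by
  rw [← wl_ex, ← wl_ex]
  refine Subtype.ext ?_
  rw [wl_val, wl_val]
  exact vl_same (List.all_eq_true.1 chk_rels _ h)

/-- The second reflection. -/
noncomputable def n1 : C.Z.G1 := ⟨C.Z.n (1 : Fin 2), C.Z.n_mem (1 : Fin 2)⟩

theorem wl_move {k : Fin 11} {L : List (Fin 11)} (h : (k, L) ∈ moves) :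
    n1 C * w C k * (n1 C)⁻¹ = (L.map (w C)).prod := by
  have hc := List.all_eq_true.1 chk_moves _ h
  rw [Bool.and_eq_true] at hc
  have hk : wl C (ex [k]) = w C k := by rw [wl_ex, List.map_singleton, List.prod_singleton]
  rw [← wl_ex, ← hk]
  refine Subtype.ext ?_
  rw [Subgroup.coe_mul, Subgroup.coe_mul, Subgroup.coe_inv, wl_val, wl_val, ← vl_same hc.1]
  exact conj_vl C (1 : Fin 2) 0 _ fun e he => Nat.blt_eq.mp (List.all_eq_true.1 hc.2 e he)

/-- The reflection of the parabolic. -/
noncomputable def s1 : (C.Z.bnPair C.xNontrivial).S := ⟨n1 C, (1 : Fin 2), rfl⟩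

/-- The parabolic subgroup in the Tits group. -/
noncomputable abbrev parT : Subgroup C.Z.G1 :=
  par (C.Z.bnPair C.xNontrivial) ({s1 C} : Set _) ⊓ commutator C.Z.G1

theorem n1_mem [Finite C.Z.G1] : n1 C ∈ parT C := by
  refine ⟨simple_mem_par (P := C.Z.bnPair C.xNontrivial) (J := {s1 C}) (s := s1 C) rfl, ?_⟩
  suffices hord : orderOf (n1 C) = 2 from F4Two.involution_mem C _ hord
  set P := C.Z.bnPair C.xNontrivial
  have h : n1 C * n1 C = 1 := by
    have hsq := refl_sq P (s1 C)
    rw [BN.refl, ← QuotientGroup.mk_mul, QuotientGroup.eq_one_iff, torus, Subgroup.mem_subgroupOf] at hsq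
    obtain ⟨h1, h2⟩ := Subgroup.mem_inf.1 hsq
    rw [tits_borel C] at h1
    exact torus_eq_one C (Subgroup.mem_inf.2 ⟨h1, h2⟩)
  refine orderOf_eq_prime (by rw [pow_two]; exact h) fun e => refl_ne_one P (s1 C) ?_
  exact (QuotientGroup.eq_one_iff _).2 (Subgroup.mem_subgroupOf.2 (Subgroup.mem_inf.2
    ⟨by rw [show (s1 C : C.Z.G1) = 1 from e]; exact one_mem _, P.subset (s1 C).2⟩))

theorem inf_le_parT : C.Z.U1.subgroupOf C.Z.G1 ⊓ commutator C.Z.G1 ≤ parT C :=
  inf_le_inf_right _ (tits_borel C ▸ borel_le_par (P := C.Z.bnPair C.xNontrivial) _)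

/-- The equations satisfied by the images of the test words. -/
theorem solve {A : Type*} [CommGroup A] (p : Fin 11 → A) (hm0 : p 0 = p 1) (hm2 : p 2 = p 6) (hm5 : p 5 = p 7)
    (hm9 : p 9 = p 2 * (p 10 * p 9)) (r1 : p 9 * p 0 = p 0 * (p 2 * p 9)) (r2 : p 6 * p 0 = p 0 * (p 4 * p 6))
    (r3 : p 9 * p 1 = p 1 * (p 5 * p 9)) (r4 : p 9 * p 8 = p 1 * (p 8 * p 10))
    (r5 : p 10 * p 8 = p 8 * (p 7 * p 9)) (r6 : p 3 * (p 9 * p 10) = p 5 * (p 8 * p 8)) (r7 : 1 = p 3 * p 3) :
    p 8 ^ 4 = 1 ∧ ∀ k, p k ∈ Subgroup.zpowers (p 8) := by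
  have e2 : p 2 = 1 := by
    rw [mul_comm, mul_right_inj] at r1
    exact mul_eq_right.1 r1.symm
  have e6 : p 6 = 1 := hm2 ▸ e2
  have e4 : p 4 = 1 := by rw [e6, mul_one, one_mul] at r2; exact mul_eq_left.1 r2.symm
  have e5 : p 5 = 1 := by
    rw [mul_comm, mul_right_inj] at r3
    exact mul_eq_right.1 r3.symm
  have e7 : p 7 = 1 := hm5 ▸ e5
  have e10 : p 10 = 1 := by rw [e2, one_mul] at hm9; exact mul_eq_right.1 hm9.symm
  have e9 : p 9 = 1 := by rw [e10, e7, one_mul, one_mul] at r5; exact mul_eq_left.1 r5.symm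
  have e1 : p 1 = 1 := by rw [e9, e10, one_mul, mul_one] at r4; exact mul_eq_right.1 r4.symm
  have e0 : p 0 = 1 := hm0 ▸ e1
  have e3 : p 3 = p 8 * p 8 := by rw [e9, e10, e5, one_mul, one_mul, mul_one] at r6; exact r6
  refine ⟨?_, fun k => ?_⟩
  · rw [r7, e3, pow_succ, pow_succ, pow_succ, pow_one, ← mul_assoc]
  · have h8 := Subgroup.mem_zpowers (p 8)
    have hall : ∀ j : Fin 11, j = 0 ∨ j = 1 ∨ j = 2 ∨ j = 3 ∨ j = 4 ∨ j = 5 ∨ j = 6 ∨ j = 7 ∨ j = 8 ∨
        j = 9 ∨ j = 10 := by decide
    rcases hall k with rfl | rfl | rfl | rfl | rfl | rfl | rfl | rfl | rfl | rfl | rfl <;>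
      first
        | exact h8
        | (simp only [e0, e1, e2, e3, e4, e5, e6, e7, e9, e10]; first | exact one_mem _ | exact mul_mem h8 h8)

/-- A quotient of `2`-power order of the parabolic has order at most four. -/
theorem quot_le_four [Finite C.Z.G1] {Q : Type*} [Group Q] [Finite Q] (hQ : IsPGroup 2 Q)
    (φ : parT C →* Q) (hφ : Function.Surjective φ) : Nat.card Q ≤ 4 := by
  haveI : Fact (Nat.Prime 2) := ⟨Nat.prime_two⟩
  set S := C.Z.U1.subgroupOf C.Z.G1 ⊓ commutator C.Z.G1 with hS
  set V := S.subgroupOf (parT C) with hV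
  have hVtop : V.map φ = ⊤ := by
    rw [← Subgroup.index_eq_one]
    obtain ⟨n, hn⟩ := IsPGroup.iff_card.1 hQ
    have h1 : (V.map φ).index ∣ V.index := Subgroup.index_map_dvd V hφ
    have h2 : (V.map φ).index ∣ 2 ^ n := hn ▸ (V.map φ).index_dvd_card
    have h5 : V.index = 5 := by
      have hS' := exists_sylow_tits C
      have D := C.Z.split 2 C.xNontrivial hS'
      have hinv : ∀ g : C.Z.G1, orderOf g = 2 → g ∈ commutator C.Z.G1 :=
        fun g hg => F4Two.involution_mem C g hg
      have hc := D.card_par_singleton (tits_borel C) (s1 C)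
      have h4 : Nat.card {x : C.Z.G1 ⧸ (C.Z.bnPair C.xNontrivial).B //
          cell (C.Z.bnPair C.xNontrivial) x = BN.refl _ (s1 C)} = 4 := by
        have := card_cell_twRef C.Z C.xNontrivial hS' (1 : Fin 2)
        rw [C.card_X (1 : Fin 2)] at this
        exact this.trans (by rfl)
      have e := V.card_mul_index
      rw [Nat.card_congr (Subgroup.subgroupOfEquivOfLe (inf_le_parT C)).toEquiv] at e
      have hP2 : Nat.card (par (C.Z.bnPair C.xNontrivial) ({s1 C} : Set _)) = 2 * Nat.card (parT C) :=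
        card_eq_two_mul_inf (tits_index C) (D.not_le_indexTwo (tits_index C))
          (tits_borel C ▸ borel_le_par (P := C.Z.bnPair C.xNontrivial) _)
      have hU2 : Nat.card (C.Z.U1.subgroupOf C.Z.G1) = 2 * Nat.card S :=
        card_eq_two_mul_inf (tits_index C) (D.not_le_indexTwo (tits_index C)) le_rfl
      rw [h4, hP2, hU2] at hc
      have h : Nat.card S * V.index = Nat.card S * 5 := by rw [e]; linarith
      exact Nat.eq_of_mul_eq_mul_left Nat.card_pos h
    rw [h5] at h1
    rcases (Nat.dvd_prime (by norm_num : Nat.Prime 5)).1 h1 with h | h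
    · exact h
    · rw [h] at h2
      exact absurd ((Nat.prime_dvd_prime_iff_eq (by norm_num) Nat.prime_two).1
        ((by norm_num : Nat.Prime 5).dvd_of_dvd_pow h2)) (by norm_num)
  let m : Fin 11 → parT C := fun k => ⟨w C k, inf_le_parT C (w_mem C k)⟩
  let ν : parT C := ⟨n1 C, n1_mem C⟩
  let ψ : parT C →* Abelianization Q := Abelianization.of.comp φ
  have hval : ∀ L : List (Fin 11), (((L.map m).prod : parT C) : C.Z.G1) = (L.map (w C)).prod := fun L => by
    rw [Subgroup.val_list_prod, List.map_map]; rfl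
  have hr : ∀ L L' : List (Fin 11), (L, L') ∈ rels →
      (L.map (ψ ∘ m)).prod = (L'.map (ψ ∘ m)).prod := fun L L' h => by
    have e : (L.map m).prod = (L'.map m).prod := Subtype.ext ((hval L).trans ((wl_rel C h).trans (hval L').symm))
    have := congrArg ψ e
    rwa [map_list_prod, map_list_prod, List.map_map, List.map_map] at this
  have hmv : ∀ k L, (k, L) ∈ moves → ψ (m k) = (L.map (ψ ∘ m)).prod := fun k L h => by
    have e : ν * m k * ν⁻¹ = (L.map m).prod := Subtype.ext ((wl_move C h).trans (hval L).symm)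
    have := congrArg ψ e
    rwa [map_mul, map_mul, map_inv, mul_comm (ψ ν), mul_inv_cancel_right, map_list_prod, List.map_map] at this
  obtain ⟨hc4, hall⟩ := solve (fun k => ψ (m k))
    (by simpa using hmv 0 [1] (by decide)) (by simpa using hmv 2 [6] (by decide))
    (by simpa using hmv 5 [7] (by decide)) (by simpa using hmv 9 [2, 10, 9] (by decide))
    (by simpa using hr [9, 0] [0, 2, 9] (by decide)) (by simpa using hr [6, 0] [0, 4, 6] (by decide))
    (by simpa using hr [9, 1] [1, 5, 9] (by decide)) (by simpa using hr [9, 8] [1, 8, 10] (by decide))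
    (by simpa using hr [10, 8] [8, 7, 9] (by decide)) (by simpa using hr [3, 9, 10] [5, 8, 8] (by decide))
    (by simpa using hr [] [3, 3] (by decide))
  set c := φ (m 8)
  have hcyc : ∀ q : Q, Abelianization.of q ∈ Subgroup.zpowers (Abelianization.of c) := by
    intro q
    obtain ⟨v, hv, rfl⟩ : q ∈ V.map φ := hVtop ▸ Subgroup.mem_top q
    have hle : V ≤ (Subgroup.zpowers (ψ (m 8))).comap ψ := by
      intro x hx
      have hx' : (x : C.Z.G1) ∈ Subgroup.closure (Set.range (w C)) := inf_le_closure C hx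
      suffices h : ∀ g ∈ Subgroup.closure (Set.range (w C)), ∀ hg : g ∈ parT C,
          ψ ⟨g, hg⟩ ∈ Subgroup.zpowers (ψ (m 8)) from h _ hx' x.2
      intro g hg
      have hclo : g ∈ ((Subgroup.zpowers (ψ (m 8))).comap ψ).map (parT C).subtype := by
        refine (Subgroup.closure_le _).2 ?_ hg
        rintro _ ⟨k, rfl⟩
        exact ⟨m k, hall k, rfl⟩
      obtain ⟨y, hy, rfl⟩ := hclo
      exact fun _ => hy
    exact hle hv
  haveI : Group.IsNilpotent Q := hQ.isNilpotent
  have htop : Subgroup.zpowers c = ⊤ := by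
    by_contra hlt
    obtain ⟨M, hM, hWM⟩ := (eq_top_or_exists_le_coatom (Subgroup.zpowers c)).resolve_left hlt
    haveI : M.Normal := Subgroup.NormalizerCondition.normal_of_coatom M
      (Group.normalizerCondition_of_isNilpotent) hM
    refine hM.1 (eq_top_iff.2 fun q _ => ?_)
    have hcomm := commutator_le_of_coatom hM
    obtain ⟨i, hi⟩ := Subgroup.mem_zpowers_iff.1 (hcyc q)
    rw [← map_zpow] at hi
    have h1 : (c ^ i)⁻¹ * q ∈ commutator Q := by
      rw [← Abelianization.ker_of, MonoidHom.mem_ker, map_mul, map_inv, hi, inv_mul_cancel]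
    simpa using M.mul_mem (hWM (Subgroup.zpow_mem_zpowers c i)) (hcomm h1)
  have hbot : commutator Q = ⊥ := by
    rw [commutator_def, eq_bot_iff, Subgroup.commutator_le]
    intro a _ b _
    obtain ⟨i, rfl⟩ := Subgroup.mem_zpowers_iff.1 (htop ▸ Subgroup.mem_top a)
    obtain ⟨j, rfl⟩ := Subgroup.mem_zpowers_iff.1 (htop ▸ Subgroup.mem_top b)
    rw [Subgroup.mem_bot, commutatorElement_eq_one_iff_mul_comm]
    exact zpow_mul_comm _ _ _
  have h4 : c ^ 4 = 1 := by
    have : c ^ 4 ∈ commutator Q := by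
      rw [← Abelianization.ker_of, MonoidHom.mem_ker, map_pow]
      exact hc4
    rwa [hbot, Subgroup.mem_bot] at this
  rw [← Subgroup.card_top, ← htop, Nat.card_zpowers]
  exact orderOf_le_of_pow_eq_one (by norm_num) h4

end TitsPar

end CfsgLib.SplitBN
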